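import Mathlib.GroupTheory.Sylow
import Mathlib.GroupTheory.Nilpotent
import Mathlib.GroupTheory.OrderOfElement
import Mathlib.GroupTheory.GroupAction.ConjAct
import Mathlib.Tactic.Group

/-!
# Abstract Brauer-Suzuki-Wall theorem: elementary facts
-/

namespace Cfsg.Agent.BSWAbstract

universe u

variable {G : Type u} [Group G]

/-- The hypotheses of the abstract Brauer-Suzuki-Wall theorem. -/
structure Hyp (t s : G) (K : Subgroup G) : Prop where
  ht : orderOf t = 2
  comm : ∀ a ∈ K, ∀ b ∈ K, a * b = b * a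
  htK : t ∈ K
  hs : orderOf s = 2
  hsK : s ∉ K
  hH : K ⊔ Subgroup.zpowers s = Subgroup.centralizer ({t} : Set G)
  hCK : K ⊓ Subgroup.centralizer ({s} : Set G) = Subgroup.zpowers t
  hinv : ∀ x ∈ K, s * x * s⁻¹ = x⁻¹
  hTI : ∀ g : G, g ∉ Subgroup.centralizer ({t} : Set G) →
    K ⊓ K.map (MulAut.conj g).toMonoidHom = ⊥
  hconj : ∀ x y : G, orderOf x = 2 → orderOf y = 2 → IsConj x y

variable {t s : G} {K : Subgroup G}

theorem sq_eq_one_of_order_two {x : G} (h : orderOf x = 2) : x * x = 1 := by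
  have := pow_orderOf_eq_one x
  rwa [h, pow_two] at this

theorem inv_eq_self_of_order_two {x : G} (h : orderOf x = 2) : x⁻¹ = x :=
  inv_eq_of_mul_eq_one_right (sq_eq_one_of_order_two h)

theorem order_two_of_sq {x : G} (h : x * x = 1) (h1 : x ≠ 1) : orderOf x = 2 :=
  orderOf_eq_prime (by rwa [pow_two]) h1

theorem t_ne_one (H : Hyp t s K) : t ≠ 1 := by
  intro h
  have := H.ht
  rw [h, orderOf_one] at this
  omega

theorem s_mul (H : Hyp t s K) {k : G} (hk : k ∈ K) : s * k = k⁻¹ * s := by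
  rw [← H.hinv k hk, inv_mul_cancel_right]

theorem mul_s (H : Hyp t s K) {k : G} (hk : k ∈ K) : k * s = s * k⁻¹ := by
  rw [s_mul H (K.inv_mem hk), inv_inv]

theorem s_inv (H : Hyp t s K) : s⁻¹ = s := inv_eq_self_of_order_two H.hs

theorem s_sq (H : Hyp t s K) : s * s = 1 := sq_eq_one_of_order_two H.hs

theorem mem_H_iff (H : Hyp t s K) {x : G} :
    x ∈ Subgroup.centralizer ({t} : Set G) ↔ x ∈ K ∨ s * x ∈ K := by
  constructor
  · intro hx
    rw [← H.hH] at hx
    let S : Subgroup G :=
      { carrier := {y | y ∈ K ∨ s * y ∈ K}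
        one_mem' := Or.inl K.one_mem
        mul_mem' := by
          rintro a b (ha | ha) (hb | hb)
          · exact Or.inl (K.mul_mem ha hb)
          · right
            rw [← mul_assoc, s_mul H ha, mul_assoc]
            exact K.mul_mem (K.inv_mem ha) hb
          · right
            rw [← mul_assoc]
            exact K.mul_mem ha hb
          · left
            have e : a * b = s * (s * a) * s⁻¹ * (s * b) := by
              rw [s_inv H, ← mul_assoc s s a, s_sq H, one_mul, mul_assoc, ← mul_assoc s s b, s_sq H,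
                one_mul]
            rw [e, H.hinv _ ha]
            exact K.mul_mem (K.inv_mem ha) hb
        inv_mem' := by
          rintro a (ha | ha)
          · exact Or.inl (K.inv_mem ha)
          · right
            have e : s * a⁻¹ = s * (s * a)⁻¹ * s⁻¹ := by
              rw [mul_inv_rev, s_inv H, mul_assoc, mul_assoc, s_sq H, mul_one]
            rw [e, H.hinv _ (K.inv_mem ha), inv_inv]
            exact ha }
    have hle : K ⊔ Subgroup.zpowers s ≤ S := by
      refine sup_le (fun y hy => Or.inl hy) (Subgroup.zpowers_le.2 (Or.inr ?_))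
      rw [s_sq H]
      exact K.one_mem
    exact hle hx
  · rintro (hx | hx)
    · exact H.hH ▸ Subgroup.mem_sup_left hx
    · rw [← H.hH]
      have := Subgroup.mul_mem (K ⊔ Subgroup.zpowers s)
        (Subgroup.mem_sup_right (Subgroup.mem_zpowers s)) (Subgroup.mem_sup_left hx)
      rwa [← mul_assoc, s_sq H, one_mul] at this

theorem K_le_H (H : Hyp t s K) : K ≤ Subgroup.centralizer ({t} : Set G) :=
  fun _ hx => (mem_H_iff H).2 (Or.inl hx)

theorem s_mem_H (H : Hyp t s K) : s ∈ Subgroup.centralizer ({t} : Set G) :=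
  (mem_H_iff H).2 (Or.inr (by rw [s_sq H]; exact K.one_mem))

/-- Elements of the centralizer outside `K` are involutions inverting `K`. -/
theorem outside (H : Hyp t s K) {x : G} (hx : x ∈ Subgroup.centralizer ({t} : Set G))
    (hxK : x ∉ K) : orderOf x = 2 ∧ ∀ k ∈ K, x * k * x⁻¹ = k⁻¹ := by
  have hk0 : s * x ∈ K := ((mem_H_iff H).1 hx).resolve_left hxK
  have hxe : x = s * (s * x) := by rw [← mul_assoc, s_sq H, one_mul]
  refine ⟨order_two_of_sq ?_ fun h => hxK (h ▸ K.one_mem), fun k hk => ?_⟩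
  · have h2 : s * (s * x) * (s * (s * x)) = 1 :=
      calc s * (s * x) * (s * (s * x)) = s * ((s * x) * s) * (s * x) := by group
        _ = s * (s * (s * x)⁻¹) * (s * x) := by rw [mul_s H hk0]
        _ = (s * s) * ((s * x)⁻¹ * (s * x)) := by group
        _ = 1 := by rw [s_sq H, inv_mul_cancel, one_mul]
    rwa [← hxe] at h2
  · calc x * k * x⁻¹ = (s * s) * x * k * x⁻¹ * (s * s)⁻¹ := by simp [s_sq H]
      _ = s * ((s * x) * k * (s * x)⁻¹) * s⁻¹ := by group
      _ = s * k * s⁻¹ := by rw [H.comm _ hk0 k hk, mul_inv_cancel_right]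
      _ = k⁻¹ := H.hinv k hk

theorem eq_t_of_sq (H : Hyp t s K) {k : G} (hk : k ∈ K) (h2 : k * k = 1) (h1 : k ≠ 1) : k = t := by
  have hmem : k ∈ K ⊓ Subgroup.centralizer ({s} : Set G) := by
    refine ⟨hk, Subgroup.mem_centralizer_singleton_iff.2 ?_⟩
    rw [mul_s H hk, inv_eq_of_mul_eq_one_right h2]
  rw [H.hCK] at hmem
  obtain ⟨i, hi⟩ := Subgroup.mem_zpowers_iff.1 hmem
  rw [← zpow_mod_orderOf, H.ht] at hi
  rcases Int.emod_two_eq i with h | h
  · rw [show ((2 : ℕ) : ℤ) = 2 from rfl, h, zpow_zero] at hi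
    exact absurd hi.symm h1
  · rw [show ((2 : ℕ) : ℤ) = 2 from rfl, h, zpow_one] at hi
    exact hi.symm

theorem mem_H_of_conj (H : Hyp t s K) {g k : G} (hk : k ∈ K) (hk1 : k ≠ 1)
    (hg : g * k * g⁻¹ ∈ K) : g ∈ Subgroup.centralizer ({t} : Set G) := by
  by_contra hgH
  have h : g * k * g⁻¹ ∈ K ⊓ K.map (MulAut.conj g).toMonoidHom :=
    ⟨hg, ⟨k, hk, rfl⟩⟩
  rw [H.hTI g hgH, Subgroup.mem_bot, conj_eq_one_iff] at h
  exact hk1 h

/-- Conjugation inside `K`. -/
theorem conj_eq (H : Hyp t s K) {g k : G} (hk : k ∈ K) (hk1 : k ≠ 1) (hg : g * k * g⁻¹ ∈ K) :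
    g * k * g⁻¹ = k ∨ g * k * g⁻¹ = k⁻¹ := by
  by_cases hgK : g ∈ K
  · left
    rw [H.comm g hgK k hk, mul_inv_cancel_right]
  · exact Or.inr ((outside H (mem_H_of_conj H hk hk1 hg) hgK).2 k hk)

theorem centralizer_le (H : Hyp t s K) {k : G} (hk : k ∈ K) (hk1 : k ≠ 1) :
    Subgroup.centralizer ({k} : Set G) ≤ Subgroup.centralizer ({t} : Set G) := by
  intro g hg
  rw [Subgroup.mem_centralizer_singleton_iff] at hg
  refine mem_H_of_conj H hk hk1 ?_
  rw [hg, mul_inv_cancel_right]
  exact hk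

theorem centralizer_eq (H : Hyp t s K) {k : G} (hk : k ∈ K) (hk2 : k * k ≠ 1) :
    Subgroup.centralizer ({k} : Set G) = K := by
  have hk1 : k ≠ 1 := fun h => hk2 (by rw [h, mul_one])
  refine le_antisymm (fun g hg => ?_) fun g hg => Subgroup.mem_centralizer_singleton_iff.2 (H.comm g hg k hk)
  by_contra hgK
  have h1 := (outside H (centralizer_le H hk hk1 hg) hgK).2 k hk
  rw [Subgroup.mem_centralizer_singleton_iff] at hg
  rw [hg, mul_inv_cancel_right] at h1
  exact hk2 (eq_inv_iff_mul_eq_one.1 h1)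

/-- The normalizer of a nontrivial subgroup of `K` lies in the centralizer of `t`. -/
theorem normalizer_le (H : Hyp t s K) {X : Subgroup G} (hX : X ≤ K) (hX1 : X ≠ ⊥) :
    Subgroup.normalizer (X : Set G) ≤ Subgroup.centralizer ({t} : Set G) := by
  intro g hg
  obtain ⟨⟨x, hx⟩, hx1'⟩ := X.ne_bot_iff_exists_ne_one.1 hX1
  have hx1 : x ≠ 1 := fun h => hx1' (Subtype.ext h)
  exact mem_H_of_conj H (hX hx) hx1 (hX ((Subgroup.mem_normalizer_iff.1 hg x).1 hx))

theorem normalizer_ge (H : Hyp t s K) {X : Subgroup G} (hX : X ≤ K) :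
    Subgroup.centralizer ({t} : Set G) ≤ Subgroup.normalizer (X : Set G) := by
  intro g hg
  by_cases hgK : g ∈ K
  · refine Subgroup.mem_normalizer_iff.2 fun x => ⟨fun hx => ?_, fun hx => ?_⟩
    · rwa [H.comm g hgK x (hX hx), mul_inv_cancel_right]
    · have hxK : x ∈ K := by
        have := K.mul_mem (K.mul_mem (K.inv_mem hgK) (hX hx)) hgK
        rwa [show g⁻¹ * (g * x * g⁻¹) * g = x by group] at this
      rwa [H.comm g hgK x hxK, mul_inv_cancel_right] at hx
  · obtain ⟨ho, hinv⟩ := outside H hg hgK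
    have hgi := inv_eq_self_of_order_two ho
    refine Subgroup.mem_normalizer_iff.2 fun x => ⟨fun hx => ?_, fun hx => ?_⟩
    · rw [hinv x (hX hx)]
      exact X.inv_mem hx
    · have h2 := hinv _ (hX hx)
      rw [show g * (g * x * g⁻¹) * g⁻¹ = (g * g) * x * (g * g)⁻¹ by group,
        sq_eq_one_of_order_two ho, one_mul, inv_one, mul_one] at h2
      rw [h2]
      exact X.inv_mem hx

/-- Conjugates of nontrivial elements of `K`. -/
def KType (K : Subgroup G) (z : G) : Prop := ∃ g k : G, k ∈ K ∧ k ≠ 1 ∧ z = g * k * g⁻¹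

theorem kType_of_involution (H : Hyp t s K) {z : G} (hz : orderOf z = 2) : KType K z := by
  obtain ⟨g, hg⟩ := isConj_iff.1 (H.hconj t z H.ht hz)
  exact ⟨g, t, H.htK, t_ne_one H, hg.symm⟩

theorem kType_conj {z : G} (g : G) (h : KType K z) : KType K (g * z * g⁻¹) := by
  obtain ⟨a, k, hk, hk1, rfl⟩ := h
  exact ⟨g * a, k, hk, hk1, by group⟩

variable [Finite G]

theorem two_dvd_card (H : Hyp t s K) : 2 ∣ Nat.card K := by
  exact H.ht ▸ Subgroup.orderOf_dvd_natCard K H.htK

theorem card_H (H : Hyp t s K) :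
    Nat.card (Subgroup.centralizer ({t} : Set G)) = 2 * Nat.card K := by
  classical
  have e : (Subgroup.centralizer ({t} : Set G)) ≃ K ⊕ K :=
    { toFun := fun x => if h : (x : G) ∈ K then Sum.inl ⟨x, h⟩ else
        Sum.inr ⟨s * x, ((mem_H_iff H).1 x.2).resolve_left h⟩
      invFun := Sum.elim (fun k => ⟨k, K_le_H H k.2⟩)
        (fun k => ⟨s * k, (mem_H_iff H).2 (Or.inr (by rw [← mul_assoc, s_sq H, one_mul]; exact k.2))⟩)
      left_inv := fun x => by
        by_cases h : (x : G) ∈ K
        · simp [h]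
        · simp [h, ← mul_assoc, s_sq H]
      right_inv := by
        rintro (k | k)
        · simp
        · have hn : ¬ s * (k : G) ∈ K := fun h => H.hsK (by
            have := K.mul_mem h (K.inv_mem k.2)
            rwa [mul_inv_cancel_right] at this)
          simp [hn, ← mul_assoc, s_sq H] }
  rw [Nat.card_congr e, Nat.card_sum, two_mul]

/-- Away from the conjugates of `K` centralizers are odd and prime to `|K|`. -/
theorem coprime_of_not_kType (H : Hyp t s K) {z : G} (hz1 : z ≠ 1) (hz : ¬ KType K z) :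
    Nat.Coprime (Nat.card (Subgroup.centralizer ({z} : Set G))) (Nat.card K) := by
  refine Nat.coprime_of_dvd fun r hr h1 h2 => ?_
  have : Fact r.Prime := ⟨hr⟩
  obtain ⟨w, hw⟩ := exists_prime_orderOf_dvd_card' r h1
  have hwo : orderOf (w : G) = r := by rw [Subgroup.orderOf_coe, hw]
  -- `w` is conjugate into `K`
  have hwK : KType K (w : G) := by
    rcases eq_or_ne r 2 with rfl | hr2
    · exact kType_of_involution H hwo
    obtain ⟨R0, hR0⟩ : ∃ R0 : Sylow r K, True := ⟨default, trivial⟩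
    set R1 : Subgroup G := (R0 : Subgroup K).map K.subtype with hR1
    have hR1K : R1 ≤ K := Subgroup.map_subtype_le _
    have hR1ne : R1 ≠ ⊥ := by
      rw [Ne, hR1, Subgroup.map_eq_bot_iff_of_injective _ K.subtype_injective]
      exact R0.ne_bot_of_dvd_card h2
    obtain ⟨R, hR⟩ := (R0.isPGroup'.map K.subtype).exists_le_sylow
    have heq : R1 = (R : Subgroup G) := by
      by_contra hne
      have hlt : (R1.subgroupOf (R : Subgroup G)) < ⊤ :=
        lt_top_iff_ne_top.2 fun h => hne (le_antisymm hR (Subgroup.subgroupOf_eq_top.1 h))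
      have : Group.IsNilpotent (R : Subgroup G) := R.isPGroup'.isNilpotent
      obtain ⟨y, hy, hy'⟩ := SetLike.exists_of_lt (normalizerCondition_of_isNilpotent _ hlt)
      have hyN : (y : G) ∈ Subgroup.normalizer (R1 : Set G) := by
        refine Subgroup.mem_normalizer_fintype fun n hn => ?_
        have := (Subgroup.mem_normalizer_iff.1 hy ⟨n, hR hn⟩).1 (Subgroup.mem_subgroupOf.2 hn)
        exact Subgroup.mem_subgroupOf.1 this
      have hyH := normalizer_le H hR1K hR1ne hyN
      have hy1 : (y : G) ≠ 1 := fun h => hy' (by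
        rw [Subgroup.mem_subgroupOf, h]
        exact one_mem _)
      have hyK : (y : G) ∈ K := by
        by_contra hK
        obtain ⟨n, hn⟩ := IsPGroup.iff_orderOf.1 R.isPGroup' y
        rw [← Subgroup.orderOf_coe, (outside H hyH hK).1] at hn
        exact hr2 ((Nat.prime_dvd_prime_iff_eq hr Nat.prime_two).1 (by
          rw [hn]
          exact dvd_pow_self r (fun h0 => by rw [h0, pow_zero] at hn; omega)))
      refine hy' ?_
      rw [Subgroup.mem_subgroupOf, hR1]
      have hp : IsPGroup r ((R : Subgroup G).subgroupOf K) :=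
        R.isPGroup'.comap_of_injective K.subtype K.subtype_injective
      have hle : (R0 : Subgroup K) ≤ (R : Subgroup G).subgroupOf K := fun k hk =>
        Subgroup.mem_subgroupOf.2 (hR ⟨k, hk, rfl⟩)
      refine ⟨⟨y, hyK⟩, ?_, rfl⟩
      rw [SetLike.mem_coe, ← R0.3 hp hle, Subgroup.mem_subgroupOf]
      exact y.2
    obtain ⟨S, hS⟩ := (IsPGroup.of_card (n := 1) (by
      rw [Nat.card_zpowers, hwo, pow_one]) : IsPGroup r (Subgroup.zpowers (w : G))).exists_le_sylow
    obtain ⟨g, rfl⟩ := MulAction.exists_smul_eq G R S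
    have hmem := hS (Subgroup.mem_zpowers (w : G))
    rw [Sylow.coe_subgroup_smul, Subgroup.mem_pointwise_smul_iff_inv_smul_mem] at hmem
    refine ⟨g, (MulAut.conj g)⁻¹ • (w : G), hR1K (heq ▸ hmem), fun h => ?_, ?_⟩
    · rw [smul_eq_iff_eq_inv_smul, inv_inv, smul_one] at h
      rw [h, orderOf_one] at hwo
      exact hr.ne_one hwo.symm
    · simp [MulAut.smul_def, mul_assoc]
  obtain ⟨g, k, hk, hk1, hwk⟩ := hwK
  have hcomm : (w : G) * z = z * w := Subgroup.mem_centralizer_singleton_iff.1 w.2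
  have hzk : g⁻¹ * z * g ∈ Subgroup.centralizer ({k} : Set G) := by
    rw [Subgroup.mem_centralizer_singleton_iff, show k = g⁻¹ * (w : G) * g by rw [hwk]; group]
    calc g⁻¹ * z * g * (g⁻¹ * (w : G) * g) = g⁻¹ * (z * w) * g := by group
      _ = g⁻¹ * ((w : G) * z) * g := by rw [hcomm]
      _ = _ := by group
  have hzH := centralizer_le H hk hk1 hzk
  refine hz ?_
  rw [show z = g * (g⁻¹ * z * g) * g⁻¹ by group]
  refine kType_conj g ?_
  by_cases hzK : g⁻¹ * z * g ∈ K
  · exact ⟨1, g⁻¹ * z * g, hzK, fun h => hz1 (by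
      have := congrArg (fun a => g * a * g⁻¹) h
      simpa [mul_assoc] using this), by group⟩
  · exact kType_of_involution H (outside H hzH hzK).1

end Cfsg.Agent.BSWAbstract
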