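import Cfsg.Agent.BSWAbstract.Equation

/-!
# The characters of the abstract Brauer-Suzuki-Wall situation
-/

set_option maxHeartbeats 800000

namespace Cfsg.Agent.BSWAbstract

open scoped ComplexConjugate
open Cfsg.Agent.Char

universe u

variable {G : Type u} [Group G] [Fintype G] {t s : G} {K : Subgroup G}

/-- The exceptional system of characters. -/
structure Sys (t : G) (K : Subgroup G) where
  a : IrrCharacter G
  c₁ : IrrCharacter G
  c₂ : IrrCharacter G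
  B : Finset (IrrCharacter G)
  ea : ℤ
  e₁ : ℤ
  e₂ : ℤ
  eb : IrrCharacter G → ℤ
  A : ℤ
  C : ℤ
  ha : a ≠ oneG G
  h₁ : c₁ ≠ oneG G
  h₂ : c₂ ≠ oneG G
  ha₁ : a ≠ c₁
  ha₂ : a ≠ c₂
  h₁₂ : c₁ ≠ c₂
  hB : ∀ b ∈ B, b ≠ oneG G ∧ b ≠ a ∧ b ≠ c₁ ∧ b ≠ c₂
  cardB : 2 * (B.card + 1) = Nat.card K
  sa : ea = 1 ∨ ea = -1
  s₁ : e₁ = 1 ∨ e₁ = -1
  s₂ : e₂ = 1 ∨ e₂ = -1
  sb : ∀ b ∈ B, eb b = 1 ∨ eb b = -1
  degA : (A : ℂ) = ea * (a : G → ℂ) 1
  deg₁ : (C : ℂ) = e₁ * (c₁ : G → ℂ) 1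
  deg₂ : (C : ℂ) = e₂ * (c₂ : G → ℂ) 1
  degB : ∀ b ∈ B, 2 * (C : ℂ) = eb b * (b : G → ℂ) 1
  rel : 2 * C = -1 - A
  offC : ∀ g : G, g ≠ 1 → ¬ KType K g →
    (ea : ℂ) * (a : G → ℂ) g + e₁ * (c₁ : G → ℂ) g + e₂ * (c₂ : G → ℂ) g = -1
  offB : ∀ b ∈ B, ∀ g : G, g ≠ 1 → ¬ KType K g →
    (ea : ℂ) * (a : G → ℂ) g + eb b * (b : G → ℂ) g = -1
  onA : ∀ k ∈ K, k ≠ 1 → (ea : ℂ) * (a : G → ℂ) k = 1
  onC : ∀ k ∈ K, k ≠ 1 → (e₁ : ℂ) * (c₁ : G → ℂ) k = e₂ * (c₂ : G → ℂ) k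
  t₁ : (c₁ : G → ℂ) t ^ 2 = 1
  t₂ : (c₂ : G → ℂ) t ^ 2 = 1
  tB : ∀ b ∈ B, (b : G → ℂ) t ^ 2 = 4
  outside : ∀ χ : IrrCharacter G, χ ≠ oneG G → χ ≠ a → χ ≠ c₁ → χ ≠ c₂ → χ ∉ B →
    ∀ k ∈ K, k ≠ 1 → (χ : G → ℂ) k = 0
  dvd : (Nat.card K : ℤ) ∣ C + 1
  eqn : (Nat.card G : ℤ) * (A * C + C + 2 * A) = 4 * (Nat.card K : ℤ) ^ 3 * (A * C)

variable [Fintype K]

/-- The signed degree. -/
noncomputable def sdeg (ν : IrrCharacter K) (χ : IrrCharacter G) : ℂ :=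
  (coord ν χ : ℂ) * (χ : G → ℂ) 1

theorem sdeg_ne_zero {ν : IrrCharacter K} {χ : IrrCharacter G} (h : χ ∈ supp ν) : sdeg ν χ ≠ 0 :=
  mul_ne_zero (Int.cast_ne_zero.2 (mem_supp.1 h).2) (IsIrr.one_ne_zero χ.2)

omit [Fintype G] in
theorem deg_int (χ : IrrCharacter G) (e : ℤ) : ∃ D : ℤ, (D : ℂ) = (e : ℂ) * (χ : G → ℂ) 1 := by
  obtain ⟨n, -, hn⟩ := IsIrr.degree χ.2
  exact ⟨e * n, by rw [hn]; push_cast; rfl⟩

omit [Fintype G] in
theorem term_eq {ν : IrrCharacter K} {χ : IrrCharacter G} (h : coord ν χ = 1 ∨ coord ν χ = -1)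
    {x : ℂ} (hx : (χ : G → ℂ) t ^ 2 = x) :
    (coord ν χ : ℂ) * ((χ : G → ℂ) t ^ 2 / (χ : G → ℂ) 1) = x / sdeg ν χ := by
  have h1 : (χ : G → ℂ) 1 ≠ 0 := IsIrr.one_ne_zero χ.2
  rw [hx, sdeg]
  rcases h with e | e <;> rw [e] <;> simp [div_neg]

theorem off_eq (H : Hyp t s K) {ν : IrrCharacter K} (hν : ν ≠ oneK K) {g : G} (hg : g ≠ 1)
    (hgK : ¬ KType K g) :
    ∑ χ ∈ supp ν, (coord ν χ : ℂ) * (χ : G → ℂ) g = -1 := by
  have h0 : alpha ν g = 0 := by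
    rw [alpha, indFun_apply_eq_zero]
    intro x hx
    refine hgK ⟨x, x⁻¹ * g * x, hx, fun h => hg ?_, by group⟩
    calc g = x * (x⁻¹ * g * x) * x⁻¹ := by group
      _ = 1 := by rw [h]; group
  rw [congrFun (alpha_eq_sum ν) g, Finset.sum_apply] at h0
  simp only [Pi.smul_apply, smul_eq_mul] at h0
  rw [sum_supp H hν fun χ => (χ : G → ℂ) g, show ((oneG G : IrrCharacter G) : G → ℂ) g = 1 from rfl]
    at h0
  linear_combination h0

/-- The system obtained from a distinguished element of the support of `lam`. -/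
theorem sys_of (H : Hyp t s K) (lam : IrrCharacter K) (hl1 : lam ≠ oneK K)
    (hlc : conjIrr lam = lam) (hl : ∀ ν : IrrCharacter K, conjIrr ν = ν → ν = oneK K ∨ ν = lam)
    (a c₁ c₂ : IrrCharacter G) (ha₁ : a ≠ c₁) (ha₂ : a ≠ c₂) (h₁₂ : c₁ ≠ c₂)
    (hsupp : ∀ χ, χ ∈ supp lam ↔ χ = a ∨ χ = c₁ ∨ χ = c₂) (hC : sdeg lam c₁ = sdeg lam c₂)
    (hall : ∀ ν : IrrCharacter K, ν ≠ oneK K → ν ≠ lam → a ∈ supp ν) :
    Nonempty (Sys t K) := by
  classical
  have hma := (hsupp a).2 (Or.inl rfl)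
  have hm₁ := (hsupp c₁).2 (Or.inr (Or.inl rfl))
  have hm₂ := (hsupp c₂).2 (Or.inr (Or.inr rfl))
  have hlset : (supp lam : Finset (IrrCharacter G)) = {a, c₁, c₂} := by
    ext χ
    simp [hsupp χ]
  have hsum3 : ∀ f : IrrCharacter G → ℂ, ∑ χ ∈ (supp lam : Finset (IrrCharacter G)), f χ =
      f a + f c₁ + f c₂ := by
    intro f
    rw [hlset, Finset.sum_insert (by simp [ha₁, ha₂]), Finset.sum_pair h₁₂, add_assoc]
  have hnc : ∀ ν : IrrCharacter K, ν ≠ oneK K → ν ≠ lam → conjIrr ν ≠ ν := fun ν h1 h2 h =>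
    (hl ν h).elim h1 h2
  have hsh : ∀ ν : IrrCharacter K, ν ≠ oneK K → ν ≠ lam →
      coord ν a = coord lam a ∧ c₁ ∉ supp ν ∧ c₂ ∉ supp ν := by
    intro ν h1 h2
    obtain ⟨x, -, -, hcoord, huniq⟩ := share H h1 (hnc ν h1 h2) hl1 (Ne.symm h2)
      fun e => h2 (by rw [← conjIrr_conjIrr ν, ← e, hlc])
    have hxa := huniq a (hall ν h1 h2) hma
    refine ⟨hxa ▸ hcoord, fun h => ha₁ ?_, fun h => ha₂ ?_⟩
    · rw [hxa, huniq c₁ h hm₁]
    · rw [hxa, huniq c₂ h hm₂]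
  have hpm := (supp_real H hl1 hlc).1
  have hcoorda : ∀ ν : IrrCharacter K, ν ≠ oneK K → coord ν a = coord lam a := fun ν h1 => by
    by_cases h2 : ν = lam
    · rw [h2]
    · exact (hsh ν h1 h2).1
  let N : Finset (IrrCharacter K) := Finset.univ.filter fun ν => ν ≠ oneK K ∧ ν ≠ lam
  have hNmem : ∀ ν, ν ∈ N ↔ ν ≠ oneK K ∧ ν ≠ lam := fun ν => by simp [N]
  have hoth : ∀ ν ∈ N, ∃ b, b ∈ supp ν ∧ b ≠ a ∧ b ∉ supp lam ∧
      ∀ χ, χ ∈ supp ν → χ = a ∨ χ = b := by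
    intro ν hν
    obtain ⟨h1, h2⟩ := (hNmem ν).1 hν
    obtain ⟨x, y, hxy, hs2⟩ := Finset.card_eq_two.1 (supp_nonreal (G := G) H h1 (hnc ν h1 h2)).2
    obtain ⟨-, n₁, n₂⟩ := hsh ν h1 h2
    have hmem : ∀ χ, χ ∈ supp ν ↔ χ = x ∨ χ = y := fun χ => by simp [hs2]
    rcases (hmem a).1 (hall ν h1 h2) with e | e
    · refine ⟨y, (hmem y).2 (Or.inr rfl), e ▸ hxy.symm, fun h => ?_,
        fun χ hχ => e ▸ (hmem χ).1 hχ⟩
      rcases (hsupp y).1 h with r | r | r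
      · exact hxy (e ▸ r.symm)
      · exact n₁ (r ▸ (hmem y).2 (Or.inr rfl))
      · exact n₂ (r ▸ (hmem y).2 (Or.inr rfl))
    · refine ⟨x, (hmem x).2 (Or.inl rfl), e ▸ hxy, fun h => ?_,
        fun χ hχ => e ▸ ((hmem χ).1 hχ).symm⟩
      rcases (hsupp x).1 h with r | r | r
      · exact hxy (e ▸ r)
      · exact n₁ (r ▸ (hmem x).2 (Or.inl rfl))
      · exact n₂ (r ▸ (hmem x).2 (Or.inl rfl))
  choose bfun hb using hoth
  let B : Finset (IrrCharacter G) := Finset.univ.filter fun b => b ∉ supp lam ∧ ∃ ν ∈ N, b ∈ supp ν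
  have hsupp2 : ∀ ν ∈ N, ∀ χ, χ ∈ supp ν → χ = a ∨ χ ∈ B := by
    intro ν hν χ hχ
    rcases (hb ν hν).2.2.2 χ hχ with e | e
    · exact Or.inl e
    · exact Or.inr (Finset.mem_filter.2 ⟨Finset.mem_univ _, e ▸ (hb ν hν).2.2.1, ν, hν, hχ⟩)
  have hbB : ∀ b ∈ B, b ≠ oneG G ∧ b ≠ a ∧ b ≠ c₁ ∧ b ≠ c₂ := by
    intro b hb'
    simp only [B, Finset.mem_filter, Finset.mem_univ, true_and, hsupp, not_or] at hb'
    obtain ⟨⟨n0, n1, n2⟩, ν, -, hν⟩ := hb'
    exact ⟨(mem_supp.1 hν).1, n0, n1, n2⟩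
  have hBnot : ∀ b ∈ B, b ∉ supp lam := fun b hb' => (Finset.mem_filter.1 hb').2.1
  have huniqB : ∀ b ∈ B, ∃ ν ∈ N, b ∈ supp ν ∧ ∀ μ ∈ N, b ∈ supp μ → μ = ν ∨ μ = conjIrr ν := by
    intro b hb'
    obtain ⟨-, -, ν, hν, hbν⟩ := Finset.mem_filter.1 hb'
    refine ⟨ν, hν, hbν, fun μ hμ hbμ => ?_⟩
    by_contra! hne
    obtain ⟨h1, h2⟩ := (hNmem ν).1 hν
    obtain ⟨m1, m2⟩ := (hNmem μ).1 hμ
    obtain ⟨x, -, -, -, huniq⟩ := share (G := G) H h1 (hnc ν h1 h2) m1 hne.1 hne.2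
    exact (hbB b hb').2.1 ((huniq b hbν hbμ).trans (huniq a (hall ν h1 h2) (hall μ m1 m2)).symm)
  have : Nonempty (IrrCharacter K) := ⟨lam⟩
  choose! νof hνof using huniqB
  have hconjN : ∀ ν ∈ N, conjIrr ν ∈ N := fun ν hν => by
    obtain ⟨h1, h2⟩ := (hNmem ν).1 hν
    exact (hNmem _).2 ⟨conjIrr_ne_oneK h1, fun e => h2 (by rw [← conjIrr_conjIrr ν, e, hlc])⟩
  have hcardB : 2 * (B.card + 1) = Nat.card K := by
    have hN : N.card + 2 = Nat.card K := by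
      have : N = (Finset.univ.erase (oneK K)).erase lam := by
        ext ν
        simp [hNmem, and_comm]
      rw [this, Finset.card_erase_of_mem (by simp [hl1]), Finset.card_erase_of_mem (Finset.mem_univ _),
        Finset.card_univ, irr_card H]
      have := two_dvd_card H
      have hpos : 0 < Nat.card K := Nat.card_pos
      obtain ⟨j, hj⟩ := this
      omega
    have hfib : N = B.biUnion fun b => {νof b, conjIrr (νof b)} := by
      ext ν
      simp only [Finset.mem_biUnion, Finset.mem_insert, Finset.mem_singleton]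
      constructor
      · intro hν
        have hbm : bfun ν hν ∈ B :=
          Finset.mem_filter.2 ⟨Finset.mem_univ _, (hb ν hν).2.2.1, ν, hν, (hb ν hν).1⟩
        exact ⟨_, hbm, (hνof _ hbm).2.2 ν hν (hb ν hν).1⟩
      · rintro ⟨b, hb', rfl | rfl⟩
        · exact (hνof b hb').1
        · exact hconjN _ (hνof b hb').1
    have hdisj : (B : Set (IrrCharacter G)).PairwiseDisjoint
        fun b => ({νof b, conjIrr (νof b)} : Finset (IrrCharacter K)) := by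
      intro b hb' b' hb'' hne
      rw [Function.onFun, Finset.disjoint_left]
      intro ν hν hν'
      have key : ∀ d ∈ B, ν ∈ ({νof d, conjIrr (νof d)} : Finset (IrrCharacter K)) →
          ν ∈ N ∧ d ∈ supp ν := by
        intro d hd h
        rcases Finset.mem_insert.1 h with e | e
        · exact ⟨e ▸ (hνof d hd).1, e ▸ (hνof d hd).2.1⟩
        · rw [Finset.mem_singleton] at e
          refine ⟨e ▸ hconjN _ (hνof d hd).1, ?_⟩
          rw [e, supp_conj H]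
          exact (hνof d hd).2.1
      obtain ⟨hN', hd⟩ := key b hb' hν
      obtain ⟨-, hd'⟩ := key b' hb'' hν'
      obtain ⟨-, -, -, hall2⟩ := hb ν hN'
      rcases hall2 b hd with e | e
      · exact (hbB b hb').2.1 e
      · rcases hall2 b' hd' with e' | e'
        · exact (hbB b' hb'').2.1 e'
        · exact hne (e.trans e'.symm)
    have h2card : ∀ b ∈ B, ({νof b, conjIrr (νof b)} : Finset (IrrCharacter K)).card = 2 := fun b hb' => by
      obtain ⟨h1, h2⟩ := (hNmem _).1 (hνof b hb').1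
      exact Finset.card_pair (hnc _ h1 h2).symm
    have : N.card = B.card * 2 := by
      rw [hfib, Finset.card_biUnion hdisj, Finset.sum_congr rfl h2card]
      simp [Finset.sum_const]
    omega
  have hv : ∀ χ : IrrCharacter G, χ ∉ supp lam → χ ≠ oneG G → coord lam χ = 0 := fun χ h1 h2 =>
    coord_eq_zero h2 h1
  have hcz : ∀ (χ : IrrCharacter G), χ = c₁ ∨ χ = c₂ → ∀ ν, ν ∉ ({lam} : Finset (IrrCharacter K)) →
      coord ν χ = 0 := by
    intro χ hχ ν hν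
    rw [Finset.mem_singleton] at hν
    rcases eq_or_ne ν (oneK K) with rfl | h1
    · exact coord_oneK χ
    rcases hχ with rfl | rfl
    · exact coord_eq_zero (mem_supp.1 hm₁).1 (hsh ν h1 hν).2.1
    · exact coord_eq_zero (mem_supp.1 hm₂).1 (hsh ν h1 hν).2.2
  have hval : ∀ χ : IrrCharacter G, χ = c₁ ∨ χ = c₂ → ∀ k : K, k ≠ 1 →
      (coord lam χ : ℂ) * (χ : G → ℂ) k = -(lam : K → ℂ) k := by
    intro χ hχ k hk
    rw [value_formula_supp H χ hk {lam} (hcz χ hχ), Finset.sum_singleton]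
    have : coord lam χ = 1 ∨ coord lam χ = -1 := hpm χ ((hsupp χ).2 (Or.inr hχ))
    rcases this with e | e <;> simp [e]
  have hlt : (lam : K → ℂ) ⟨t, H.htK⟩ ^ 2 = 1 := by
    rcases value_t H lam with e | e <;> simp [e]
  have hct : ∀ χ : IrrCharacter G, χ = c₁ ∨ χ = c₂ → (χ : G → ℂ) t ^ 2 = 1 := by
    intro χ hχ
    have h := hval χ hχ ⟨t, H.htK⟩ (t_ne_oneK H)
    rcases hpm χ ((hsupp χ).2 (Or.inr hχ)) with e | e <;> rw [e] at h <;>
      simp at h <;> simp [h, hlt]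
  have honA : ∀ k : K, k ≠ 1 → (coord lam a : ℂ) * (a : G → ℂ) k = 1 := by
    intro k hk
    rw [value_formula_supp H a hk (Finset.univ.erase (oneK K)) fun ν hν => by
        have : ν = oneK K := by simpa using hν
        rw [this, coord_oneK],
      Finset.sum_congr rfl fun ν hν => by rw [hcoorda ν (Finset.ne_of_mem_erase hν)],
      ← Finset.mul_sum, sum_nontrivial H hk]
    rcases hpm a hma with e | e <;> simp [e]
  have hat : (a : G → ℂ) t ^ 2 = 1 := by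
    have h := honA ⟨t, H.htK⟩ (t_ne_oneK H)
    rcases hpm a hma with e | e <;> rw [e] at h <;> simp at h
    · simp [h]
    · rw [show (a : G → ℂ) t = -1 by linear_combination -h]
      ring
  obtain ⟨A, hA⟩ := deg_int a (coord lam a)
  obtain ⟨C, hC₁⟩ := deg_int c₁ (coord lam c₁)
  have hC₂ : (C : ℂ) = (coord lam c₂ : ℂ) * (c₂ : G → ℂ) 1 := hC₁.trans hC
  have hrel : 2 * C = -1 - A := by
    have h := sum_supp_deg (G := G) H hl1
    rw [hsum3, ← hA, ← hC₁, ← hC₂] at h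
    have h' : ((1 + (A + C + C) : ℤ) : ℂ) = 0 := by push_cast; exact h
    rw [Int.cast_eq_zero] at h'
    linarith
  have hdegB : ∀ b ∈ B, (coord (νof b) b : ℂ) * (b : G → ℂ) 1 = 2 * (C : ℂ) := by
    intro b hb'
    obtain ⟨hN', hbν, -⟩ := hνof b hb'
    obtain ⟨h1, h2⟩ := (hNmem _).1 hN'
    have h := sum_supp_deg (G := G) H h1
    have hset : (supp (νof b) : Finset (IrrCharacter G)) = {a, b} := by
      refine (Finset.eq_of_subset_of_card_le ?_ ?_).symm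
      · simp [Finset.insert_subset_iff, hall _ h1 h2, hbν]
      · rw [Finset.card_pair (hbB b hb').2.1.symm, (supp_nonreal H h1 (hnc _ h1 h2)).2]
    rw [hset, Finset.sum_pair (hbB b hb').2.1.symm, hcoorda _ h1, ← hA] at h
    have h' : (2 : ℂ) * C = -1 - A := by exact_mod_cast hrel
    linear_combination h - h'
  refine ⟨{
    a := a, c₁ := c₁, c₂ := c₂, B := B
    ea := coord lam a, e₁ := coord lam c₁, e₂ := coord lam c₂
    eb := fun b => coord (νof b) b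
    A := A, C := C
    ha := (mem_supp.1 hma).1, h₁ := (mem_supp.1 hm₁).1, h₂ := (mem_supp.1 hm₂).1
    ha₁ := ha₁, ha₂ := ha₂, h₁₂ := h₁₂, hB := hbB, cardB := hcardB
    sa := hpm a hma, s₁ := hpm c₁ hm₁, s₂ := hpm c₂ hm₂
    sb := fun b hb' => (supp_nonreal H ((hNmem _).1 (hνof b hb').1).1
      (hnc _ ((hNmem _).1 (hνof b hb').1).1 ((hNmem _).1 (hνof b hb').1).2)).1 b (hνof b hb').2.1
    degA := hA, deg₁ := hC₁, deg₂ := hC₂, degB := fun b hb' => (hdegB b hb').symm, rel := hrel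
    offC := ?_, offB := ?_
    onA := fun k hk hk1 => honA ⟨k, hk⟩ fun e => hk1 (congrArg Subtype.val e)
    onC := fun k hk hk1 => ?_
    t₁ := hct c₁ (Or.inl rfl), t₂ := hct c₂ (Or.inr rfl)
    tB := ?_, outside := ?_, dvd := ?_, eqn := ?_ }⟩
  · intro g hg hgK
    rw [← off_eq H hl1 hg hgK, hsum3]
  · intro b hb' g hg hgK
    obtain ⟨hN', hbν, -⟩ := hνof b hb'
    obtain ⟨h1, h2⟩ := (hNmem _).1 hN'
    have hset : (supp (νof b) : Finset (IrrCharacter G)) = {a, b} := by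
      refine (Finset.eq_of_subset_of_card_le ?_ ?_).symm
      · simp [Finset.insert_subset_iff, hall _ h1 h2, hbν]
      · rw [Finset.card_pair (hbB b hb').2.1.symm, (supp_nonreal H h1 (hnc _ h1 h2)).2]
    rw [← off_eq H h1 hg hgK, hset, Finset.sum_pair (hbB b hb').2.1.symm, hcoorda _ h1]
  · have hk' : (⟨k, hk⟩ : K) ≠ 1 := fun e => hk1 (congrArg Subtype.val e)
    rw [hval c₁ (Or.inl rfl) ⟨k, hk⟩ hk', hval c₂ (Or.inr rfl) ⟨k, hk⟩ hk']
  · intro b hb'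
    obtain ⟨hN', hbν, honly⟩ := hνof b hb'
    obtain ⟨h1, h2⟩ := (hNmem _).1 hN'
    have h := value_formula_supp (G := G) H b (t_ne_oneK H) {νof b, conjIrr (νof b)} fun ν hν => by
      simp only [Finset.mem_insert, Finset.mem_singleton, not_or] at hν
      rcases eq_or_ne ν (oneK K) with rfl | n1
      · exact coord_oneK b
      rcases eq_or_ne ν lam with rfl | n2
      · exact hv b (hBnot b hb') (hbB b hb').1
      exact coord_eq_zero (hbB b hb').1 fun hm =>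
        (honly ν ((hNmem ν).2 ⟨n1, n2⟩) hm).elim hν.1 hν.2
    rw [Finset.sum_pair (hnc _ h1 h2).symm, coord_conj H] at h
    rw [show (b : G → ℂ) t = _ from h, show ((conjIrr (νof b) : IrrCharacter K) : K → ℂ) ⟨t, H.htK⟩ =
      conj ((νof b : K → ℂ) ⟨t, H.htK⟩) from rfl]
    rcases value_t H (νof b) with e | e <;>
      rcases (supp_nonreal H h1 (hnc _ h1 h2)).1 b hbν with f | f <;> simp [e, f] <;> norm_num
  · intro χ n0 n1 n2 n3 n4 k hk hk1
    rw [show (χ : G → ℂ) k = (χ : G → ℂ) ((⟨k, hk⟩ : K) : G) from rfl,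
      value_formula_supp H χ (k := (⟨k, hk⟩ : K)) (fun e => hk1 (congrArg Subtype.val e)) ∅ fun ν _ => ?_]
    · simp
    rcases eq_or_ne ν (oneK K) with rfl | m1
    · exact coord_oneK χ
    rcases eq_or_ne ν lam with rfl | m2
    · exact hv χ (fun h => by rcases (hsupp χ).1 h with e | e | e <;> contradiction) n0
    exact coord_eq_zero n0 fun h => (hsupp2 ν ((hNmem ν).2 ⟨m1, m2⟩) χ h).elim n1 n4
  · obtain ⟨d, -, hd⟩ := IsIrr.degree c₁.2
    have hm := cast_mult (oneK K) c₁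
    unfold classInner at hm
    rw [eq_comm, inv_mul_eq_iff_eq_mul₀ card_ne_zero,
      ← Finset.add_sum_erase _ _ (Finset.mem_univ (1 : K))] at hm
    have hls : ∑ k ∈ Finset.univ.erase (1 : K), (lam : K → ℂ) k = -1 := by
      have h0 : ∑ k : K, (lam : K → ℂ) k = 0 := by
        have := classInner_irr_ne lam.2 (oneK K).2 fun e => hl1 (Subtype.ext e)
        simpa [classInner, oneK] using this
      rw [← Finset.add_sum_erase _ _ (Finset.mem_univ (1 : K)), deg_one H] at h0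
      linear_combination h0
    have hrest : ∑ k ∈ Finset.univ.erase (1 : K), (c₁ : G → ℂ) k * conj ((oneK K : K → ℂ) k) =
        (coord lam c₁ : ℂ) := by
      rw [Finset.sum_congr rfl (g := fun k : K => -(coord lam c₁ : ℂ) * (lam : K → ℂ) k) fun k hk => ?_,
        ← Finset.mul_sum, hls, mul_neg_one, neg_neg]
      have := hval c₁ (Or.inl rfl) k (Finset.ne_of_mem_erase hk)
      rcases hpm c₁ hm₁ with e | e <;> simp [e, oneK] at this ⊢
      · exact this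
      · linear_combination this
    beta_reduce at hm
    rw [hrest, Subgroup.coe_one, show ((oneK K : IrrCharacter K) : K → ℂ) 1 = 1 from rfl, map_one,
      mul_one] at hm
    refine ⟨coord lam c₁ * mult (oneK K) c₁, ?_⟩
    have : ((C + 1 : ℤ) : ℂ) = ((Nat.card K : ℤ) * (coord lam c₁ * mult (oneK K) c₁) : ℤ) := by
      push_cast
      rw [hC₁]
      rcases hpm c₁ hm₁ with e | e <;> simp [e] at hm ⊢
      · linear_combination hm
      · linear_combination -hm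
    exact_mod_cast this
  · have h := T_eq (G := G) H hl1
    rw [hsum3, term_eq (hpm a hma) hat, term_eq (hpm c₁ hm₁) (hct c₁ (Or.inl rfl)),
      term_eq (hpm c₂ hm₂) (hct c₂ (Or.inr rfl))] at h
    have s1 : sdeg lam a = (A : ℂ) := hA.symm
    have s2 : sdeg lam c₁ = (C : ℂ) := hC₁.symm
    have s3 : sdeg lam c₂ = (C : ℂ) := hC₂.symm
    have hA0 : (A : ℂ) ≠ 0 := s1 ▸ sdeg_ne_zero hma
    have hC0 : (C : ℂ) ≠ 0 := s2 ▸ sdeg_ne_zero hm₁
    rw [s1, s2, s3] at h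
    field_simp at h
    have : (((Nat.card G : ℤ) * (A * C + C + 2 * A) : ℤ) : ℂ) =
        ((4 * (Nat.card K : ℤ) ^ 3 * (A * C) : ℤ) : ℂ) := by
      push_cast
      linear_combination h
    exact_mod_cast this

end Cfsg.Agent.BSWAbstract
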