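import Cfsg.Agent.BSWAbstract.Types

/-!
# Centralizers and the numbers of elements
-/

set_option maxHeartbeats 800000

namespace Cfsg.Agent.BSWAbstract

open scoped ComplexConjugate
open Cfsg.Agent.Char

universe u

variable {G : Type u} [Group G] [Fintype G] {t s : G} {K : Subgroup G}

theorem mul_self_ne_one (H : Hyp t s K) {z : G} (hz1 : z ≠ 1) (hz : ¬ KType K z) : z * z ≠ 1 :=
  fun h => hz (kType_of_involution H (order_two_of_sq h hz1))

open scoped Classical in
theorem pairCount_eq_inverters (H : Hyp t s K) {z : G} (hz1 : z ≠ 1) (hz : ¬ KType K z) :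
    pairCount t t z =
      (Finset.univ.filter fun u : G => orderOf u = 2 ∧ u * z * u⁻¹ = z⁻¹).card := by
  rw [pairCount]
  refine congrArg _ (Finset.filter_congr fun u _ => ?_)
  rw [isConj_t_iff H, isConj_t_iff H]
  refine and_congr_right fun hu => ?_
  have hui := inv_eq_self_of_order_two hu
  rw [hui]
  constructor
  · intro hv
    have := sq_eq_one_of_order_two hv
    exact eq_inv_of_mul_eq_one_left (by simpa [mul_assoc] using this)
  · intro h
    refine order_two_of_sq ?_ fun e => ?_
    · calc u * z * (u * z) = (u * z * u) * z := by group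
        _ = 1 := by rw [h, inv_mul_cancel]
    · have hzu : z = u := by
        calc z = (u * u) * z := by rw [sq_eq_one_of_order_two hu, one_mul]
          _ = u := by rw [mul_assoc, e, mul_one]
      exact mul_self_ne_one H hz1 hz (by rw [hzu]; exact sq_eq_one_of_order_two hu)

/-- The products of two involutions: an inequality, with equality only in the dihedral case. -/
theorem pairCount_le (H : Hyp t s K) {z : G} (hz1 : z ≠ 1) (hz : ¬ KType K z) :
    pairCount t t z ≤ Nat.card (Subgroup.centralizer ({z} : Set G)) := by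
  classical
  rw [pairCount_eq_inverters H hz1 hz, Nat.card_eq_fintype_card, Fintype.card_subtype]
  rcases (Finset.univ.filter fun u : G => orderOf u = 2 ∧ u * z * u⁻¹ = z⁻¹).eq_empty_or_nonempty with
    h | ⟨u₀, hu₀⟩
  · simp [h]
  · simp only [Finset.mem_filter, Finset.mem_univ, true_and] at hu₀
    refine Finset.card_le_card_of_injOn (fun u => u₀ * u) (fun u hu => ?_) fun _ _ _ _ h =>
      mul_left_cancel h
    simp only [Finset.coe_filter, Finset.mem_univ, true_and, Set.mem_setOf_eq] at hu ⊢
    rw [Subgroup.mem_centralizer_singleton_iff]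
    calc u₀ * u * z = u₀ * (u * z * u⁻¹) * u := by group
      _ = (u₀ * z⁻¹ * u₀⁻¹) * (u₀ * u) := by rw [hu.2]; group
      _ = (u₀ * z * u₀⁻¹)⁻¹ * (u₀ * u) := by group
      _ = z * (u₀ * u) := by rw [hu₀.2, inv_inv]

/-- In the case of equality the centralizer is inverted by an involution, and so abelian. -/
theorem inverted_of_eq (H : Hyp t s K) {z : G} (hz1 : z ≠ 1) (hz : ¬ KType K z)
    (he : pairCount t t z = Nat.card (Subgroup.centralizer ({z} : Set G))) :
    (∃ u : G, orderOf u = 2 ∧ u * z * u⁻¹ = z⁻¹ ∧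
      ∀ c ∈ Subgroup.centralizer ({z} : Set G), u * c * u⁻¹ = c⁻¹) ∧
    ∀ a ∈ Subgroup.centralizer ({z} : Set G), ∀ b ∈ Subgroup.centralizer ({z} : Set G),
      a * b = b * a := by
  classical
  set C := Subgroup.centralizer ({z} : Set G) with hC
  rw [pairCount_eq_inverters H hz1 hz] at he
  set I := Finset.univ.filter fun u : G => orderOf u = 2 ∧ u * z * u⁻¹ = z⁻¹ with hI
  obtain ⟨u, hu⟩ : I.Nonempty := Finset.card_pos.1 (he ▸ Nat.card_pos)
  obtain ⟨hu2, huz⟩ := (Finset.mem_filter.1 hu).2
  have himg : I.image (fun v => u * v) = Finset.univ.filter (fun c => c ∈ C) := by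
    refine Finset.eq_of_subset_of_card_le (fun c hc => ?_) ?_
    · obtain ⟨v, hv, rfl⟩ := Finset.mem_image.1 hc
      refine Finset.mem_filter.2 ⟨Finset.mem_univ _, ?_⟩
      rw [hC, Subgroup.mem_centralizer_singleton_iff]
      obtain ⟨-, hvz⟩ := (Finset.mem_filter.1 hv).2
      calc u * v * z = u * (v * z * v⁻¹) * v := by group
        _ = (u * z * u⁻¹)⁻¹ * (u * v) := by rw [hvz]; group
        _ = z * (u * v) := by rw [huz, inv_inv]
    · rw [Finset.card_image_of_injective _ (mul_right_injective u), he, Nat.card_eq_fintype_card,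
        Fintype.card_subtype]
  have hui := inv_eq_self_of_order_two hu2
  have hinv : ∀ c ∈ C, u * c * u⁻¹ = c⁻¹ := by
    intro c hc
    have : c ∈ I.image (fun v => u * v) := by rw [himg]; simpa using hc
    obtain ⟨v, hv, rfl⟩ := Finset.mem_image.1 this
    obtain ⟨hv2, -⟩ := (Finset.mem_filter.1 hv).2
    have hvi := inv_eq_self_of_order_two hv2
    rw [mul_inv_rev, hvi, hui, ← mul_assoc u u v, sq_eq_one_of_order_two hu2, one_mul]
  refine ⟨⟨u, hu2, huz, hinv⟩, fun a ha b hb => ?_⟩
  have h := hinv _ (C.mul_mem ha hb)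
  rw [show u * (a * b) * u⁻¹ = (u * a * u⁻¹) * (u * b * u⁻¹) by group, hinv a ha, hinv b hb,
    mul_inv_rev] at h
  simpa using congrArg (·⁻¹) h.symm

variable {D : Dat t K}

theorem vT_centralizer (H : Hyp t s K) {z : G} (h : VT D z) :
    Nat.card (Subgroup.centralizer ({z} : Set G)) = D.v ∧
    ∀ a ∈ Subgroup.centralizer ({z} : Set G), ∀ b ∈ Subgroup.centralizer ({z} : Set G),
      a * b = b * a := by
  have hz := vT_not_kType H h
  have h1 := pairCount_le H h.1 hz
  have h2 := Nat.le_of_dvd (v_pos D H) (vT_centralizer_dvd H h)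
  rw [pairCount_vT H h] at h1
  exact ⟨le_antisymm h2 h1, (inverted_of_eq H h.1 hz (by rw [pairCount_vT H h]; omega)).2⟩

theorem qT_centralizer_plus (H : Hyp t s K) (he : D.q = 2 * Nat.card K + 1) {z : G} (h : QT D z) :
    Nat.card (Subgroup.centralizer ({z} : Set G)) = D.q ∧
    (∃ u : G, orderOf u = 2 ∧ u * z * u⁻¹ = z⁻¹ ∧
      ∀ c ∈ Subgroup.centralizer ({z} : Set G), u * c * u⁻¹ = c⁻¹) ∧
    ∀ a ∈ Subgroup.centralizer ({z} : Set G), ∀ b ∈ Subgroup.centralizer ({z} : Set G),
      a * b = b * a := by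
  have hz := qT_not_kType h
  obtain ⟨-, hp⟩ := (pairCount_qT H h).resolve_right fun e => by omega
  have h1 := pairCount_le H h.1 hz
  have h2 := Nat.le_of_dvd (zero_lt_one.trans (q_pos D H)) (qT_centralizer_dvd H h)
  rw [hp] at h1
  exact ⟨le_antisymm h2 h1, inverted_of_eq H h.1 hz (by rw [hp]; omega)⟩

theorem sum_pairCount (a b : G) :
    ∑ g : G, pairCount a b g =
      (Subgroup.centralizer ({a} : Set G)).index * (Subgroup.centralizer ({b} : Set G)).index := by
  classical
  rw [← card_isConj_eq_index, ← card_isConj_eq_index]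
  simp only [pairCount, Nat.card_eq_fintype_card, Fintype.card_subtype, Finset.card_filter]
  rw [Finset.sum_comm, Finset.sum_mul]
  refine Finset.sum_congr rfl fun u _ => ?_
  by_cases hu : IsConj a u
  · simp only [hu, true_and, if_true, one_mul]
    exact Fintype.sum_equiv (Equiv.mulLeft u⁻¹) _ _ fun g => by simp
  · simp only [hu, false_and, if_false, Finset.sum_const_zero, zero_mul]

open scoped Classical in
theorem card_kType (H : Hyp t s K) :
    (Finset.univ.filter fun z : G => KType K z).card * (2 * Nat.card K) =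
      Nat.card G * (Nat.card K - 1) := by
  set P := Finset.univ.filter fun p : G × G => p.2 ∈ K ∧ p.2 ≠ 1 with hP
  have hPc : P.card = Nat.card G * (Nat.card K - 1) := by
    have hK : (Finset.univ.filter fun x : G => x ∈ K ∧ x ≠ 1).card = Nat.card K - 1 := by
      rw [show (Finset.univ.filter fun x : G => x ∈ K ∧ x ≠ 1) =
          (Finset.univ.filter fun x : G => x ∈ K).erase 1 by ext; simp [and_comm],
        Finset.card_erase_of_mem (by simp [K.one_mem]), Nat.card_eq_fintype_card (α := K),
        Fintype.card_subtype]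
    rw [hP, show (Finset.univ.filter fun p : G × G => p.2 ∈ K ∧ p.2 ≠ 1) =
        (Finset.univ : Finset G) ×ˢ (Finset.univ.filter fun x : G => x ∈ K ∧ x ≠ 1) by ext; simp,
      Finset.card_product, hK, Finset.card_univ]
    simp [Nat.card_eq_fintype_card]
  rw [← hPc, Finset.card_eq_sum_card_fiberwise (f := fun p : G × G => p.1 * p.2 * p.1⁻¹)
    (t := Finset.univ.filter fun z : G => KType K z) (fun p hp => by
      simp only [hP, Finset.coe_filter, Finset.mem_univ, true_and, Set.mem_setOf_eq] at hp ⊢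
      exact ⟨p.1, p.2, hp.1, hp.2, rfl⟩),
    Finset.sum_congr rfl (g := fun _ => 2 * Nat.card K) fun z hz => ?_, Finset.sum_const, smul_eq_mul]
  obtain ⟨g, k, hk, hk1, rfl⟩ := (Finset.mem_filter.1 hz).2
  rw [← card_H H, Nat.card_eq_fintype_card, Fintype.card_subtype]
  refine Finset.card_bij' (fun p _ => g⁻¹ * p.1) (fun h _ => (g * h, h⁻¹ * k * h)) ?_ ?_ ?_ ?_
  · intro p hp
    simp only [hP, Finset.mem_filter, Finset.mem_univ, true_and] at hp ⊢
    obtain ⟨⟨hpK, hp1⟩, he⟩ := hp
    refine mem_H_of_conj H hpK hp1 ?_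
    rw [show g⁻¹ * p.1 * p.2 * (g⁻¹ * p.1)⁻¹ = g⁻¹ * (p.1 * p.2 * p.1⁻¹) * g by group, he]
    simpa [mul_assoc] using hk
  · intro h hh
    simp only [hP, Finset.mem_filter, Finset.mem_univ, true_and] at hh ⊢
    have hN := normalizer_ge H le_rfl hh
    refine ⟨⟨(Subgroup.mem_normalizer_iff''.1 hN k).1 hk, fun e => hk1 ?_⟩, by group⟩
    calc k = h * (h⁻¹ * k * h) * h⁻¹ := by group
      _ = 1 := by rw [e]; group
  · intro p hp
    simp only [hP, Finset.mem_filter, Finset.mem_univ, true_and] at hp
    obtain ⟨-, he⟩ := hp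
    refine Prod.ext (mul_inv_cancel_left g p.1) ?_
    show (g⁻¹ * p.1)⁻¹ * k * (g⁻¹ * p.1) = p.2
    rw [show (g⁻¹ * p.1)⁻¹ * k * (g⁻¹ * p.1) = p.1⁻¹ * (g * k * g⁻¹) * p.1 by group, ← he]
    group
  · intro h _
    exact inv_mul_cancel_left g h

open scoped Classical in
theorem card_qT (H : Hyp t s K) :
    ((Finset.univ.filter fun z : G => QT D z).card : ℤ) = (D.q : ℤ) ^ 2 - 1 := by
  have hindex : (Subgroup.centralizer ({t} : Set G)).index = D.q * D.v := by
    exact_mod_cast card_eq_index (D := D) H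
  have hKc : ((Finset.univ.filter fun z : G => KType K z).card : ℤ) =
      (D.q : ℤ) * D.v * ((Nat.card K : ℤ) - 1) := by
    have h := card_kType H
    rw [D.card] at h
    have hk : 1 ≤ Nat.card K := Nat.card_pos
    have h' : (Finset.univ.filter fun z : G => KType K z).card =
        D.q * D.v * (Nat.card K - 1) :=
      Nat.eq_of_mul_eq_mul_right (Nat.mul_pos two_pos Nat.card_pos) (h.trans (by ring))
    rw [h']
    push_cast [Nat.cast_sub hk]
    ring
  set K' := Finset.univ.filter fun z : G => KType K z with hK'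
  set Q' := Finset.univ.filter fun z : G => QT D z with hQ'
  set V' := Finset.univ.filter fun z : G => VT D z with hV'
  have hsplit : (Finset.univ : Finset G) = insert 1 (K' ∪ Q' ∪ V') := by
    ext z
    simp only [hK', hQ', hV', Finset.mem_univ, Finset.mem_insert, Finset.mem_union, Finset.mem_filter,
      true_and, true_iff]
    by_cases h1 : z = 1
    · exact Or.inl h1
    by_cases h2 : KType K z
    · exact Or.inr (Or.inl (Or.inl h2))
    exact Or.inr ((qT_or_vT H h1 h2).elim (fun h => Or.inl (Or.inr h)) Or.inr)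
  have hd1 : (1 : G) ∉ K' ∪ Q' ∪ V' := by
    simp only [hK', hQ', hV', Finset.mem_union, Finset.mem_filter, Finset.mem_univ, true_and, not_or]
    exact ⟨⟨fun h => kType_ne_one h rfl, fun h => h.1 rfl⟩, fun h => h.1 rfl⟩
  have hd2 : Disjoint (K' ∪ Q') V' := by
    rw [Finset.disjoint_union_left]
    constructor <;> refine Finset.disjoint_left.2 fun z hz hz' => ?_ <;>
      simp only [hK', hQ', hV', Finset.mem_filter, Finset.mem_univ, true_and] at hz hz'
    · exact vT_not_kType H hz' hz
    · exact not_both hz hz'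
  have hd3 : Disjoint K' Q' := Finset.disjoint_left.2 fun z hz hz' =>
    qT_not_kType (Finset.mem_filter.1 hz').2 (Finset.mem_filter.1 hz).2
  have htot := sum_pairCount t t
  rw [hsplit, Finset.sum_insert hd1, Finset.sum_union hd2, Finset.sum_union hd3,
    pairCount_tt_one H, hindex,
    Finset.sum_congr rfl (g := fun _ => Nat.card K) fun z hz => by
      obtain ⟨g, k, hk, hk1, rfl⟩ := (Finset.mem_filter.1 hz).2
      rw [pairCount_conj, pairCount_tt_K H hk hk1],
    Finset.sum_congr rfl (s₁ := V') (g := fun _ => D.v) fun z hz =>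
      pairCount_vT H (Finset.mem_filter.1 hz).2] at htot
  have hcardG : Nat.card G = 1 + (K'.card + Q'.card + V'.card) := by
    rw [Nat.card_eq_fintype_card, ← Finset.card_univ, hsplit, Finset.card_insert_of_notMem hd1,
      Finset.card_union_of_disjoint hd2, Finset.card_union_of_disjoint hd3]
    omega
  rw [D.card] at hcardG
  have hk2 : 2 ≤ Nat.card K := Nat.le_of_dvd Nat.card_pos (two_dvd_card H)
  zify at hcardG
  rw [hKc] at hcardG
  rcases D.cases' with ⟨hq, hv, -⟩ | ⟨hq, hv, -⟩
  · rw [Finset.sum_congr rfl (s₁ := Q') (g := fun _ => D.q) fun z hz =>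
      ((pairCount_qT H (Finset.mem_filter.1 hz).2).resolve_right fun e => by omega).2] at htot
    simp only [Finset.sum_const, smul_eq_mul] at htot
    zify at htot hq hv
    rw [hKc] at htot
    rw [hq, hv] at htot hcardG
    rw [hq]
    refine mul_left_cancel₀ (show (Nat.card K : ℤ) ≠ 0 by omega) ?_
    linear_combination htot + ((Nat.card K : ℤ) + 1) * hcardG
  · rw [Finset.sum_congr rfl (s₁ := Q') (g := fun _ => 0) fun z hz =>
      ((pairCount_qT H (Finset.mem_filter.1 hz).2).resolve_left fun e => by omega).2] at htot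
    simp only [Finset.sum_const, smul_eq_mul, mul_zero, add_zero] at htot
    zify at htot hq hv
    rw [hKc] at htot
    have hq' : (D.q : ℤ) = 2 * (Nat.card K : ℤ) - 1 := by linarith
    have hv' : (D.v : ℤ) = (Nat.card K : ℤ) - 1 := by linarith
    rw [hq', hv'] at htot hcardG
    rw [hq']
    refine mul_left_cancel₀ (show (Nat.card K : ℤ) - 1 ≠ 0 by omega) ?_
    linear_combination -((Nat.card K : ℤ) - 1) * hcardG - htot

end Cfsg.Agent.BSWAbstract
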