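import Cfsg.Agent.BSWAbstract.Recognition
import Cfsg.Agent.Invol.DihedralSylow
import Cfsg.Agent.Core.PCore
import Cfsg.Prelude.Def_CaseTheorems

/-!
# Brauer, Suzuki and Wall with a dihedral Sylow 2-subgroup
-/

set_option autoImplicit false

namespace Cfsg.Agent.BSWAbstract

open Subgroup DihedralGroup
open Cfsg.Agent.Invol

universe u

variable {G : Type u} [Group G] [Finite G]

theorem eq_of_cyclic_order_two {M : Subgroup G} (hM : IsCyclic M) {x y : G} (hx : x ∈ M)
    (hy : y ∈ M) (hx2 : orderOf x = 2) (hy2 : orderOf y = 2) : x = y := by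
  classical
  have := Fintype.ofFinite M
  by_contra hne
  have hle := IsCyclic.card_pow_eq_one_le (α := M) (n := 2) two_pos
  have hsub : ({1, ⟨x, hx⟩, ⟨y, hy⟩} : Finset M) ⊆ Finset.univ.filter fun a : M => a ^ 2 = 1 := by
    intro a ha
    simp only [Finset.mem_insert, Finset.mem_singleton] at ha
    rw [Finset.mem_filter]
    refine ⟨Finset.mem_univ _, ?_⟩
    rcases ha with rfl | rfl | rfl
    · exact one_pow 2
    · exact Subtype.ext (by rw [← hx2]; exact pow_orderOf_eq_one x)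
    · exact Subtype.ext (by rw [← hy2]; exact pow_orderOf_eq_one y)
  have h1 : ∀ z : G, orderOf z = 2 → z ≠ 1 := fun z hz e => by
    rw [e, orderOf_one] at hz; omega
  have h3 : ({1, ⟨x, hx⟩, ⟨y, hy⟩} : Finset M).card = 3 := by
    rw [Finset.card_insert_of_notMem, Finset.card_pair]
    · exact fun e => hne (congrArg Subtype.val e)
    · simp only [Finset.mem_insert, Finset.mem_singleton, not_or]
      exact ⟨fun e => h1 x hx2 (congrArg Subtype.val e).symm,
        fun e => h1 y hy2 (congrArg Subtype.val e).symm⟩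
  have := Finset.card_le_card hsub
  omega

/-- The presentation of the Sylow subgroup may be chosen with the given central involution. -/
theorem ddata_central (S : Sylow 2 G) {n : ℕ} (hn : 2 ≤ n)
    (e : (S : Subgroup G) ≃* DihedralGroup n) {t : G} (ht : orderOf t = 2)
    (htS : t ∈ (S : Subgroup G)) (htZ : ∀ x ∈ (S : Subgroup G), x * t = t * x) :
    ∃ (k : ℕ) (ι : DihedralGroup (2 ^ k) →* G), DData S k ι ∧ ι (r (dh k)) = t := by
  obtain ⟨k, ι, D, -⟩ := ddata_exists S hn e
  rcases D.involution_cases htS ht with h | ⟨a, h⟩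
  · exact ⟨k, ι, D, h.symm⟩
  have hc := htZ _ (D.mem (r 1))
  rw [h, ← map_mul, ← map_mul] at hc
  have hc' := D.inj hc
  rw [r_mul_sr, sr_mul_r, sr.injEq] at hc'
  have h2 : (2 : ZMod (2 ^ k)) = 0 := by linear_combination -hc'
  have hk : k = 1 := by
    have := D.pos
    rw [show (2 : ZMod (2 ^ k)) = ((2 : ℕ) : ZMod (2 ^ k)) by norm_num,
      ZMod.natCast_eq_zero_iff] at h2
    have h4 := Nat.le_of_dvd two_pos h2
    by_contra hne
    have : 2 ^ 2 ≤ 2 ^ k := Nat.pow_le_pow_right two_pos (by omega)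
    omega
  subst hk
  classical
  have : IsKleinFour (DihedralGroup (2 ^ 1)) := inferInstanceAs (IsKleinFour (DihedralGroup 2))
  have hne : ∀ d : DihedralGroup (2 ^ 1), orderOf d = 2 → (1 : DihedralGroup (2 ^ 1)) ≠ d :=
    fun d hd e => by rw [← e, orderOf_one] at hd; omega
  let σ : DihedralGroup (2 ^ 1) ≃* DihedralGroup (2 ^ 1) :=
    IsKleinFour.mulEquiv' (Equiv.swap (r (dh 1)) (sr a))
      (Equiv.swap_apply_of_ne_of_ne (hne _ (orderOf_half le_rfl)) (hne _ (orderOf_sr a)))
      (IsKleinFour.exponent_two (G := DihedralGroup (2 ^ 1)))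
  refine ⟨1, ι.comp σ.toMonoidHom, ⟨le_rfl, D.inj.comp σ.injective, ?_⟩, ?_⟩
  · rw [MonoidHom.range_comp, MonoidHom.range_eq_top.2 σ.surjective, ← MonoidHom.range_eq_map]
    exact D.range
  · rw [MonoidHom.comp_apply, h]
    exact congrArg ι (Equiv.swap_apply_left _ _)

/-- The dihedral form of the theorem of Brauer, Suzuki and Wall. -/
theorem dihedral_psl [IsSimpleGroup G] (S : Sylow 2 G) {n : ℕ}
    (hn : 2 ≤ n) (e : (S : Subgroup G) ≃* DihedralGroup n) {t : G} (ht : orderOf t = 2)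
    (htS : t ∈ (S : Subgroup G))
    (htZ : ∀ s ∈ (S : Subgroup G), s * t = t * s) (O : Subgroup G)
    (hO : O = (Cfsg.oddCore (Subgroup.centralizer ({t} : Set G))).map
      (Subgroup.centralizer ({t} : Set G)).subtype)
    (ha : O ≠ ⊥ → IsCyclic ((S : Subgroup G) ⊓ Subgroup.centralizer (O : Set G) : Subgroup G) ∧
      ((S : Subgroup G) ⊓ Subgroup.centralizer (O : Set G)).relIndex (S : Subgroup G) = 2)
    (hb : ∀ s ∈ (S : Subgroup G), s ∉ Subgroup.centralizer (O : Set G) → ∀ y ∈ O, s * y * s⁻¹ = y⁻¹)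
    (hc : ∀ Y : Subgroup G, Y ≤ O → Y ≠ ⊥ →
      Subgroup.normalizer (Y : Set G) ≤ Subgroup.centralizer ({t} : Set G)) :
    ∃ (F : Type) (_ : Field F) (_ : Fintype F), Odd (Fintype.card F) ∧
      Nonempty (G ≃* Matrix.ProjectiveSpecialLinearGroup (Fin 2) F) := by
  classical
  have := Fintype.ofFinite G
  obtain ⟨k, ι, D, hz⟩ := ddata_central S hn e ht htS htZ
  have hcard4 : 4 ≤ Nat.card G := by
    have h1 := Subgroup.card_le_card_group (S : Subgroup G)
    rw [show Nat.card (S : Subgroup G) = 2 * 2 ^ k from D.card_sylow] at h1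
    have : 2 ^ 1 ≤ 2 ^ k := Nat.pow_le_pow_right two_pos D.pos
    omega
  have hno : ∀ N : Subgroup G, N.Normal → N.index ≠ 2 := by
    intro N hN hN2
    rcases hN.eq_bot_or_eq_top with rfl | rfl
    · rw [Subgroup.index_bot] at hN2; omega
    · rw [Subgroup.index_top] at hN2; omega
  have hsr : ∀ a, IsConj (ι (sr a)) (ι (r (dh k))) := fun a => by
    by_contra hne
    obtain ⟨N, hN, hN2, -⟩ := D.index_two_of_not_conj hne
    exact hno N hN hN2
  have hto : ∀ x : G, orderOf x = 2 → IsConj x t := fun x hx => by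
    rw [← hz]
    rcases D.exists_conj_involution hx with h | ⟨a, h⟩
    exacts [h, h.trans (hsr a)]
  -- the centralizer of `t`
  obtain ⟨T, κ, DT, hT, hκ⟩ := D.centralizer_data
  have hzc : ∀ a, ¬ IsConj (κ (sr a)) (κ (r (dh k))) := by
    intro a h
    obtain ⟨c, hc⟩ := isConj_iff.1 h.symm
    have hcomm : c * κ (r (dh k)) = κ (r (dh k)) * c := Subtype.ext (by
      rw [Subgroup.coe_mul, Subgroup.coe_mul, hκ]
      exact Subgroup.mem_centralizer_singleton_iff.1 c.2)
    rw [hcomm, mul_inv_cancel_right] at hc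
    exact DihedralGroup.noConfusion rfl (heq_of_eq (DT.inj hc))
  have hcompl := DT.complement_of_not_conj hzc
  have hdec : ∀ x ∈ Subgroup.centralizer ({t} : Set G), ∃ o ∈ O, ∃ d, x = o * ι d := by
    subst hz
    intro x hx
    obtain ⟨⟨⟨o, ho⟩, ⟨w, hw⟩⟩, how⟩ :=
      (Fusion.isComplement'_pResidual hcompl T : Subgroup.IsComplement' _ _).2 ⟨x, hx⟩
    have hwS : (w : G) ∈ (S : Subgroup G) := by rw [hT] at hw; exact hw
    obtain ⟨d, hd⟩ := D.exists_eq hwS
    refine ⟨o, ?_, d, ?_⟩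
    · rw [hO]
      exact ⟨o, Core.le_pPrimeCore (Fusion.coprime_card_pResidual_of_hasNormalPComplement hcompl) ho, rfl⟩
    · rw [hd]
      exact (congrArg Subtype.val how).symm
  set C := Subgroup.centralizer ({t} : Set G) with hC
  have hOC : O ≤ C := by rw [hO]; exact Subgroup.map_subtype_le _
  have hSC : (S : Subgroup G) ≤ C := fun x hx => Subgroup.mem_centralizer_singleton_iff.2 (htZ x hx)
  have hOn : ∀ c ∈ C, ∀ y ∈ O, c * y * c⁻¹ ∈ O := by
    intro c hc y hy
    rw [hO] at hy ⊢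
    obtain ⟨w, hw, rfl⟩ := hy
    exact ⟨⟨c, hc⟩ * w * ⟨c, hc⟩⁻¹,
      (inferInstance : (Cfsg.pPrimeCore 2 C).Normal).conj_mem w hw ⟨c, hc⟩, rfl⟩
  have hOodd : ∀ x ∈ O, (orderOf x).Coprime 2 := by
    intro x hx
    refine Nat.Coprime.coprime_dvd_left (Subgroup.orderOf_dvd_natCard O hx) ?_
    rw [hO, Subgroup.card_map_of_injective C.subtype_injective]
    exact Core.coprime_card_pPrimeCore
  have hS2 : ∀ x ∈ (S : Subgroup G), ∃ j, orderOf x = 2 ^ j := fun x hx => by
    obtain ⟨j, hj⟩ := IsPGroup.iff_orderOf.mp S.2 ⟨x, hx⟩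
    exact ⟨j, by rw [← hj, Subgroup.orderOf_mk]⟩
  have hOS : ∀ x ∈ O, x ∈ (S : Subgroup G) → x = 1 := by
    intro x hx hxS
    obtain ⟨j, hj⟩ := hS2 x hxS
    have := (hOodd x hx).pow_right j
    rw [← hj, Nat.coprime_self, orderOf_eq_one_iff] at this
    exact this
  -- the rotations
  set R := (Subgroup.zpowers (r 1 : DihedralGroup (2 ^ k))).map ι with hR
  have hRS : R ≤ (S : Subgroup G) := by rintro _ ⟨d, -, rfl⟩; exact D.mem d
  have hRr : ∀ i, ι (r i) ∈ R := fun i => ⟨r i, ⟨(i.val : ℤ), by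
    show r 1 ^ (i.val : ℤ) = r i
    rw [zpow_natCast, r_one_pow, ZMod.natCast_zmod_val]⟩, rfl⟩
  have hR' : ∀ x ∈ R, ∃ i, x = ι (r i) := by
    rintro _ ⟨d, hd, rfl⟩
    obtain ⟨i, rfl⟩ := Subgroup.mem_zpowers_iff.1 hd
    exact ⟨_, congrArg ι (r_one_zpow i)⟩
  have hRc : Nat.card R = 2 ^ k := by
    rw [hR, Subgroup.card_map_of_injective D.inj, Nat.card_zpowers, orderOf_r_one]
  have htR : t ∈ R := hz ▸ hRr _
  have hsO : O ≠ ⊥ → (∀ y ∈ O, ∀ x ∈ R, x * y = y * x) ∧ ι (sr 0) ∉ Subgroup.centralizer (O : Set G) := by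
    intro hne
    obtain ⟨hcy, hrel⟩ := ha hne
    set M := (S : Subgroup G) ⊓ Subgroup.centralizer (O : Set G) with hM
    have htM : t ∈ M := ⟨htS, fun y hy => Subgroup.mem_centralizer_singleton_iff.1 (hOC hy)⟩
    have hsrM : ∀ a, ι (sr a) ∉ M := fun a hm => by
      have := eq_of_cyclic_order_two hcy hm htM (D.sr_order a) ht
      rw [← hz] at this
      exact DihedralGroup.noConfusion rfl (heq_of_eq (D.inj this))
    have hMR : M = R := by
      refine Subgroup.eq_of_le_of_card_ge (fun x hx => ?_) ?_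
      · obtain ⟨d, rfl⟩ := D.exists_eq (inf_le_left (a := (S : Subgroup G)) hx)
        rcases d with i | i
        exacts [hRr i, absurd hx (hsrM i)]
      · have h1 := (M.subgroupOf (S : Subgroup G)).card_mul_index
        have hMS : Nat.card (M.subgroupOf (S : Subgroup G)) = Nat.card M :=
          Nat.card_congr (Subgroup.subgroupOfEquivOfLe inf_le_left).toEquiv
        rw [hMS, show (M.subgroupOf (S : Subgroup G)).index = 2 from hrel,
          show Nat.card (S : Subgroup G) = 2 * 2 ^ k from D.card_sylow] at h1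
        rw [hRc]
        omega
    refine ⟨fun y hy x hx => ?_, fun hm => hsrM 0 ⟨D.mem _, hm⟩⟩
    rw [← hMR] at hx
    exact (hx.2 y hy).symm
  have hRO : ∀ y ∈ O, ∀ x ∈ R, x * y = y * x := by
    intro y hy x hx
    by_cases hne : O = ⊥
    · rw [hne, Subgroup.mem_bot] at hy
      rw [hy, one_mul, mul_one]
    · exact (hsO hne).1 y hy x hx
  set s := ι (sr 0) with hs
  have hsinvO : ∀ y ∈ O, s * y * s⁻¹ = y⁻¹ := by
    intro y hy
    by_cases hne : O = ⊥
    · rw [hne, Subgroup.mem_bot] at hy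
      rw [hy, mul_one, mul_inv_cancel, inv_one]
    · exact hb s (D.mem _) (hsO hne).2 y hy
  have hsinvR : ∀ x ∈ R, s * x * s⁻¹ = x⁻¹ := by
    intro x hx
    obtain ⟨i, rfl⟩ := hR' x hx
    rw [hs, ← map_inv, ← map_mul, ← map_mul, ← map_inv, inv_sr, sr_mul_r, sr_mul_sr, inv_r]
    congr 2
    ring
  have hOab : ∀ y ∈ O, ∀ w ∈ O, y * w = w * y := by
    intro y hy w hw
    have h1 := hsinvO _ (O.mul_mem hy hw)
    rw [show s * (y * w) * s⁻¹ = (s * y * s⁻¹) * (s * w * s⁻¹) by group, hsinvO y hy, hsinvO w hw,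
      mul_inv_rev] at h1
    calc y * w = (w⁻¹ * y⁻¹)⁻¹ := by group
      _ = (y⁻¹ * w⁻¹)⁻¹ := by rw [h1]
      _ = w * y := by group
  have hRab : ∀ x ∈ R, ∀ y ∈ R, x * y = y * x := by
    intro x hx y hy
    obtain ⟨i, rfl⟩ := hR' x hx
    obtain ⟨j, rfl⟩ := hR' y hy
    rw [← map_mul, ← map_mul, r_mul_r, r_mul_r, add_comm]
  set K := O ⊔ R with hK
  have hKmem : ∀ x, x ∈ K ↔ ∃ o ∈ O, ∃ ρ ∈ R, o * ρ = x := by
    intro x
    have hle : R ≤ Subgroup.normalizer (O : Set G) := fun c hc =>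
      Subgroup.mem_normalizer_fintype fun y hy => hOn c (hSC (hRS hc)) y hy
    rw [hK, ← SetLike.mem_coe, Subgroup.coe_mul_of_right_le_normalizer_left O R hle]
    exact Set.mem_mul
  have hKab : ∀ a ∈ K, ∀ b ∈ K, a * b = b * a := by
    intro a ha b hb
    obtain ⟨o, ho, ρ, hρ, rfl⟩ := (hKmem a).1 ha
    obtain ⟨o', ho', ρ', hρ', rfl⟩ := (hKmem b).1 hb
    have c1 : Commute o o' := hOab o ho o' ho'
    have c2 : Commute o ρ' := (hRO o ho ρ' hρ').symm
    have c3 : Commute ρ o' := hRO o' ho' ρ hρ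
    have c4 : Commute ρ ρ' := hRab ρ hρ ρ' hρ'
    exact (((c1.mul_right c2).mul_left (c3.mul_right c4)) : Commute (o * ρ) (o' * ρ'))
  have hKinv : ∀ x ∈ K, s * x * s⁻¹ = x⁻¹ := by
    intro x hx
    obtain ⟨o, ho, ρ, hρ, rfl⟩ := (hKmem x).1 hx
    rw [show s * (o * ρ) * s⁻¹ = (s * o * s⁻¹) * (s * ρ * s⁻¹) by group, hsinvO o ho, hsinvR ρ hρ,
      ← mul_inv_rev, hRO o ho ρ hρ]
  have hs2 : orderOf s = 2 := D.sr_order 0
  have hss : s * s = 1 := sq_eq_one_of_order_two hs2
  have hKsq : ∀ x ∈ K, x * x = 1 → x = 1 ∨ x = t := by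
    intro x hx hxx
    obtain ⟨o, ho, ρ, hρ, rfl⟩ := (hKmem x).1 hx
    have h1 : (o * o) * (ρ * ρ) = 1 := by
      rw [← hxx]
      have c : Commute o ρ := (hRO o ho ρ hρ).symm
      exact c.mul_mul_mul_comm o ρ
    have h2 : o * o = 1 := hOS _ (O.mul_mem ho ho) (by
      rw [eq_inv_of_mul_eq_one_left h1]
      exact (S : Subgroup G).inv_mem ((S : Subgroup G).mul_mem (hRS hρ) (hRS hρ)))
    have ho1 : o = 1 := by
      have h3 := Nat.dvd_gcd (dvd_refl (orderOf o)) (orderOf_dvd_of_pow_eq_one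
        (show o ^ 2 = 1 by rw [pow_two]; exact h2))
      rw [(hOodd o ho).gcd_eq_one, Nat.dvd_one, orderOf_eq_one_iff] at h3
      exact h3
    rw [ho1, one_mul] at hxx ⊢
    obtain ⟨i, rfl⟩ := hR' ρ hρ
    rw [← map_mul, r_mul_r, ← map_one ι, one_def] at hxx
    have hi := r.inj (D.inj hxx)
    rw [← two_mul] at hi
    rcases two_mul_zero D.pos hi with rfl | rfl
    · left; rw [← one_def, map_one]
    · exact Or.inr hz
  have hKodd : ∀ x ∈ K, (orderOf x).Coprime 2 → x ∈ O := by
    intro x hx hodd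
    obtain ⟨o, ho, ρ, hρ, rfl⟩ := (hKmem x).1 hx
    have c : Commute o ρ := (hRO o ho ρ hρ).symm
    have h1 : ρ ^ orderOf (o * ρ) = 1 := hOS _ (by
      have h2 := pow_orderOf_eq_one (o * ρ)
      rw [c.mul_pow] at h2
      rw [eq_inv_of_mul_eq_one_right h2]
      exact O.inv_mem (O.pow_mem ho _)) ((S : Subgroup G).pow_mem (hRS hρ) _)
    obtain ⟨j, hj⟩ := hS2 ρ (hRS hρ)
    have h3 := Nat.dvd_gcd (orderOf_dvd_of_pow_eq_one h1) (dvd_refl (orderOf ρ))
    rw [hj, (hodd.pow_right j).gcd_eq_one, Nat.dvd_one] at h3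
    rw [hj.symm, orderOf_eq_one_iff] at h3
    rw [h3, mul_one]
    exact ho
  have hKC : K ≤ C := sup_le hOC (le_trans hRS hSC)
  have hcases : ∀ c ∈ C, c ∈ K ∨ s * c ∈ K := by
    intro c hc
    obtain ⟨o, ho, d, rfl⟩ := hdec c hc
    rcases d with i | i
    · exact Or.inl ((hKmem _).2 ⟨o, ho, _, hRr i, rfl⟩)
    · refine Or.inr ((hKmem _).2 ⟨o⁻¹, O.inv_mem ho, _, hRr i, ?_⟩)
      rw [← hsinvO o ho, show ι (sr i) = s * ι (r i) by rw [hs, ← map_mul, sr_mul_r, zero_add],
        inv_eq_self_of_order_two hs2]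
      group
  have H : Hyp t s K := by
    refine ⟨ht, hKab, Subgroup.mem_sup_right htR, hs2, ?_, ?_, ?_, hKinv, ?_, fun x y hx hy =>
      (hto x hx).trans (hto y hy).symm⟩
    · intro hsK
      obtain ⟨o, ho, ρ, hρ, hsρ⟩ := (hKmem s).1 hsK
      have ho1 : o = 1 := hOS o ho (by
        rw [eq_mul_inv_of_mul_eq hsρ]
        exact (S : Subgroup G).mul_mem (D.mem _) ((S : Subgroup G).inv_mem (hRS hρ)))
      rw [ho1, one_mul] at hsρ
      obtain ⟨i, rfl⟩ := hR' ρ hρ
      exact DihedralGroup.noConfusion rfl (heq_of_eq (D.inj hsρ))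
    · refine le_antisymm (sup_le hKC (Subgroup.zpowers_le.2 (hSC (D.mem _)))) fun c hc => ?_
      rcases hcases c hc with h | h
      · exact Subgroup.mem_sup_left h
      · have := Subgroup.mul_mem (K ⊔ Subgroup.zpowers s)
          (Subgroup.mem_sup_right (Subgroup.mem_zpowers s)) (Subgroup.mem_sup_left h)
        rwa [← mul_assoc, hss, one_mul] at this
    · refine le_antisymm (fun x hx => ?_) (Subgroup.zpowers_le.2 ⟨Subgroup.mem_sup_right htR,
        Subgroup.mem_centralizer_singleton_iff.2 (htZ s (D.mem _)).symm⟩)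
      obtain ⟨hxK, hxs⟩ := hx
      replace hxs : x * s = s * x := Subgroup.mem_centralizer_singleton_iff.1 hxs
      have h1 : x = x⁻¹ := by
        rw [← hKinv x hxK, ← hxs, mul_inv_cancel_right]
      rcases hKsq x hxK (by nth_rewrite 1 [h1]; exact inv_mul_cancel x) with rfl | rfl
      · exact one_mem _
      · exact Subgroup.mem_zpowers _
    · intro g hg
      by_contra hne
      obtain ⟨x, hx, hx1⟩ := (Subgroup.bot_or_exists_ne_one _).resolve_left hne
      obtain ⟨p, hp, hdvd⟩ := Nat.exists_prime_and_dvd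
        (show orderOf x ≠ 1 from fun h => hx1 (orderOf_eq_one_iff.1 h))
      obtain ⟨y, hy, hyp⟩ : ∃ y, y ∈ K ⊓ K.map (MulAut.conj g).toMonoidHom ∧ orderOf y = p :=
        ⟨x ^ (orderOf x / p), Subgroup.pow_mem _ hx _,
          orderOf_pow_orderOf_div (orderOf_pos x).ne' hdvd⟩
      obtain ⟨hyK, w, hwK, hwy⟩ := hy
      replace hwy : g * w * g⁻¹ = y := hwy
      have hwp : orderOf w = p := by
        rw [← hyp, ← hwy, ← MulAut.conj_apply, MulEquiv.orderOf_eq]
      have htC : g * t * g⁻¹ = t → False := fun h =>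
        hg (Subgroup.mem_centralizer_singleton_iff.2 (mul_inv_eq_iff_eq_mul.1 h))
      rcases eq_or_ne p 2 with rfl | hp2
      · have hne1 : ∀ z : G, orderOf z = 2 → z ≠ 1 := fun z hz e => by
          rw [e, orderOf_one] at hz; omega
        have e1 := (hKsq y hyK (sq_eq_one_of_order_two hyp)).resolve_left (hne1 y hyp)
        have e2 := (hKsq w hwK (sq_eq_one_of_order_two hwp)).resolve_left (hne1 w hwp)
        rw [e1, e2] at hwy
        exact htC hwy
      · have hyO : y ∈ O := hKodd y hyK (by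
          rw [hyp]; exact (Nat.coprime_primes hp Nat.prime_two).2 hp2)
        have hy1 : y ≠ 1 := fun e => by rw [e, orderOf_one] at hyp; exact hp.ne_one hyp.symm
        have hcen : g * t * g⁻¹ * y = y * (g * t * g⁻¹) := by
          rw [← hwy, show g * t * g⁻¹ * (g * w * g⁻¹) = g * (t * w) * g⁻¹ by group,
            hKab t (Subgroup.mem_sup_right htR) w hwK]
          group
        have hgC : g * t * g⁻¹ ∈ C := by
          refine hc (Subgroup.zpowers y) (Subgroup.zpowers_le.2 hyO)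
            (fun e => hy1 (Subgroup.zpowers_eq_bot.1 e)) ?_
          refine Subgroup.centralizer_le_normalizer _ ?_
          rw [Subgroup.mem_centralizer_iff]
          intro b hb
          obtain ⟨i, rfl⟩ := Subgroup.mem_zpowers_iff.1 hb
          exact (Commute.zpow_left (show Commute y (g * t * g⁻¹) from hcen.symm) i)
        have hord : orderOf (g * t * g⁻¹) = 2 := by
          rw [← MulAut.conj_apply, MulEquiv.orderOf_eq, ht]
        rcases hcases _ hgC with h | h
        · rcases hKsq _ h (sq_eq_one_of_order_two hord) with e | e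
          · rw [e, orderOf_one] at hord; omega
          · exact htC e
        · set c := g * t * g⁻¹ with hcdef
          have h1 : c * y * c⁻¹ = y⁻¹ := by
            calc c * y * c⁻¹ = (s * s) * c * y * c⁻¹ * (s * s)⁻¹ := by rw [hss]; group
              _ = s * ((s * c) * y * (s * c)⁻¹) * s⁻¹ := by group
              _ = s * y * s⁻¹ := by rw [hKab _ h y hyK, mul_inv_cancel_right]
              _ = y⁻¹ := hKinv y hyK
          rw [hcen, mul_inv_cancel_right] at h1
          have : orderOf y ∣ 2 := orderOf_dvd_of_pow_eq_one (by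
            rw [pow_two]; nth_rewrite 1 [h1]; exact inv_mul_cancel y)
          rw [hyp] at this
          exact hp2 ((Nat.prime_dvd_prime_iff_eq hp Nat.prime_two).1 this)
  have hna : ¬ IsMulCommutative G := by
    intro hcm
    have hn : (Subgroup.zpowers t).Normal := ⟨fun x hx g => by
      rw [mul_comm' g x, mul_inv_cancel_right]; exact hx⟩
    rcases hn.eq_bot_or_eq_top with h | h
    · exact t_ne_one H (Subgroup.zpowers_eq_bot.1 h)
    · have := Nat.card_zpowers t
      rw [h, Subgroup.card_top, ht] at this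
      omega
  exact psl_of_concl hna (concl H)

end Cfsg.Agent.BSWAbstract
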