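import Cfsg.Agent.Char.ClassAlg
import Cfsg.Agent.Char.Gen

/-!
# Counting factorisations into two conjugacy classes
-/

namespace Cfsg.Agent.BSWAbstract

open scoped ComplexConjugate
open Cfsg.Agent.Char

universe u

variable {G : Type u} [Group G] [Fintype G]

open scoped Classical in
/-- The number of factorisations of `g` as a product of conjugates of `a` and of `b`. -/
noncomputable def pairCount (a b g : G) : ℕ :=
  (Finset.univ.filter fun u : G => IsConj a u ∧ IsConj b (u⁻¹ * g)).card

theorem pairCount_conj (a b g h : G) : pairCount a b (h * g * h⁻¹) = pairCount a b g := by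
  classical
  refine (Finset.card_equiv (MulAut.conj h).toEquiv fun u => ?_).symm
  have e : (h * u * h⁻¹)⁻¹ * (h * g * h⁻¹) = h * (u⁻¹ * g) * h⁻¹ := by group
  simp only [Finset.mem_filter, Finset.mem_univ, true_and, MulEquiv.toEquiv_eq_coe,
    MulEquiv.coe_toEquiv, MulAut.conj_apply, e]
  exact and_congr ⟨fun k => k.trans (isConj_iff.2 ⟨h, rfl⟩), fun k => k.trans (isConj_iff.2 ⟨h, rfl⟩).symm⟩
    ⟨fun k => k.trans (isConj_iff.2 ⟨h, rfl⟩), fun k => k.trans (isConj_iff.2 ⟨h, rfl⟩).symm⟩

theorem classInner_pairCount (a b : G) {χ : G → ℂ} (hχ : IsIrrCharacter G χ) :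
    classInner (fun g => (pairCount a b g : ℂ)) χ =
      ((Subgroup.centralizer ({a} : Set G)).index : ℂ) *
        ((Subgroup.centralizer ({b} : Set G)).index : ℂ) / ((Nat.card G : ℂ) * χ 1) *
          conj (χ a * χ b) := by
  classical
  have h1 := sum_classes_mul hχ a b
  obtain ⟨n, -, hn⟩ := IsIrr.degree hχ
  have h2 : ∑ g : G, (pairCount a b g : ℂ) * conj (χ g) =
      conj (∑ x ∈ Finset.univ.filter (IsConj a), ∑ y ∈ Finset.univ.filter (IsConj b), χ (x * y)) := by
    simp only [map_sum, pairCount, Finset.card_filter, Nat.cast_sum, Finset.sum_mul]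
    rw [Finset.sum_comm, Finset.sum_filter]
    refine Finset.sum_congr rfl fun u _ => ?_
    by_cases hu : IsConj a u
    · rw [if_pos hu, Finset.sum_filter]
      refine Fintype.sum_equiv (Equiv.mulLeft u⁻¹) _ _ fun g => ?_
      simp only [hu, true_and, Equiv.coe_mulLeft, mul_inv_cancel_left]
      split_ifs <;> simp
    · rw [if_neg hu]
      refine Finset.sum_eq_zero fun g _ => ?_
      rw [if_neg fun h => hu h.1]
      simp
  have h3 := congrArg conj h1
  rw [map_mul (starRingEnd ℂ) (χ 1), hn, Complex.conj_natCast, ← h2, mul_assoc _ (χ a) (χ b),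
    map_mul, map_mul, Complex.conj_natCast, Complex.conj_natCast] at h3
  rw [hn]
  have hn0 : (n : ℂ) ≠ 0 := hn ▸ IsIrr.one_ne_zero hχ
  have hG : (Nat.card G : ℂ) ≠ 0 := card_ne_zero
  unfold classInner
  field_simp
  linear_combination h3

/-- The class algebra formula. -/
theorem pairCount_eq (a b g : G) :
    (pairCount a b g : ℂ) = ∑ χ : IrrCharacter G,
      ((Subgroup.centralizer ({a} : Set G)).index : ℂ) *
        ((Subgroup.centralizer ({b} : Set G)).index : ℂ) / ((Nat.card G : ℂ) * (χ : G → ℂ) 1) *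
          conj ((χ : G → ℂ) a * (χ : G → ℂ) b) * (χ : G → ℂ) g := by
  have hP : IsClassFunction G (fun g => (pairCount a b g : ℂ)) := fun x h => by
    simp only [pairCount_conj a b x h]
  have h := congrFun (classFun_expansion hP) g
  simp only [Finset.sum_apply, Pi.smul_apply, smul_eq_mul] at h
  rw [h]
  exact Finset.sum_congr rfl fun χ _ => by rw [classInner_pairCount a b χ.2]

end Cfsg.Agent.BSWAbstract
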