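import Cfsg.Agent.BSWAbstract.Basic
import Cfsg.Agent.BSWAbstract.Pairs
import Cfsg.Agent.Char.Induced
import Cfsg.Agent.Char.Linear
import Cfsg.Agent.Char.Perm

/-!
# The isometry from the characters of `K`
-/

set_option maxHeartbeats 800000

namespace Cfsg.Agent.BSWAbstract

open scoped ComplexConjugate
open Cfsg.Agent.Char

universe u

variable {G : Type u} [Group G] {t s : G} {K : Subgroup G}

/-- The trivial character of `K`. -/
noncomputable def oneK (K : Subgroup G) : IrrCharacter K := ⟨fun _ => 1, isIrrCharacter_one⟩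

/-- The trivial character of `G`. -/
noncomputable def oneG (G : Type u) [Group G] : IrrCharacter G := ⟨fun _ => 1, isIrrCharacter_one⟩

theorem deg_one (H : Hyp t s K) (ν : IrrCharacter K) : (ν : K → ℂ) 1 = 1 :=
  IsIrr.degree_one_of_comm ν.2 fun a b => Subtype.ext (H.comm a a.2 b b.2)

theorem exists_homK (H : Hyp t s K) (ν : IrrCharacter K) :
    ∃ f : K →* ℂˣ, (ν : K → ℂ) = fun k => (f k : ℂ) :=
  IsChar.exists_hom (IsIrr.isCharacter ν.2) (deg_one H ν)

theorem value_t (H : Hyp t s K) (ν : IrrCharacter K) :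
    (ν : K → ℂ) ⟨t, H.htK⟩ = 1 ∨ (ν : K → ℂ) ⟨t, H.htK⟩ = -1 := by
  obtain ⟨f, hf⟩ := exists_homK H ν
  have h : (f ⟨t, H.htK⟩ : ℂ) * f ⟨t, H.htK⟩ = 1 := by
    rw [← Units.val_mul, ← map_mul,
      show (⟨t, H.htK⟩ : K) * ⟨t, H.htK⟩ = 1 from Subtype.ext (sq_eq_one_of_order_two H.ht),
      map_one, Units.val_one]
  rw [hf]
  exact mul_self_eq_one_iff.1 h

theorem conjIrr_conjIrr [Finite G] (ν : IrrCharacter K) : conjIrr (conjIrr ν) = ν :=
  Subtype.ext (funext fun k => Complex.conj_conj _)

theorem conjIrr_oneK [Finite G] : conjIrr (oneK K) = oneK K :=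
  Subtype.ext (funext fun _ => map_one _)

theorem conjIrr_ne_oneK [Finite G] {ν : IrrCharacter K} (h : ν ≠ oneK K) : conjIrr ν ≠ oneK K :=
  fun e => h (by rw [← conjIrr_conjIrr ν, e, conjIrr_oneK])

variable [Fintype G] [Fintype K]

/-- Multiplicity of a character of `K` in the restriction. -/
noncomputable def mult (ν : IrrCharacter K) (χ : IrrCharacter G) : ℕ :=
  ⌊(classInner (fun k : K => (χ : G → ℂ) k) (ν : K → ℂ)).re⌋₊

/-- The coordinate of a character in the image of `1 - ν`. -/
noncomputable def coord (ν : IrrCharacter K) (χ : IrrCharacter G) : ℤ :=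
  (mult (oneK K) χ : ℤ) - mult ν χ

/-- The function induced from `1 - ν`. -/
noncomputable def alpha (ν : IrrCharacter K) : G → ℂ :=
  indFun K ((oneK K : K → ℂ) - (ν : K → ℂ))

theorem cast_mult (ν : IrrCharacter K) (χ : IrrCharacter G) :
    (mult ν χ : ℂ) = classInner (fun k : K => (χ : G → ℂ) k) (ν : K → ℂ) := by
  obtain ⟨n, hn⟩ := classInner_isCharacter_eq_natCast
    (isCharacter_res K (IsIrr.isCharacter χ.2)) (IsIrr.isCharacter ν.2)
  simp [mult, hn]

theorem classInner_alpha (ν : IrrCharacter K) (χ : IrrCharacter G) :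
    classInner (alpha ν) (χ : G → ℂ) = (coord ν χ : ℂ) := by
  rw [alpha, classInner_indFun_left K _ (isClassFunction_of_isIrr χ.2), classInner_sub_left,
    ← classInner_conj_symm (fun k : K => (χ : G → ℂ) k) (oneK K : K → ℂ),
    ← classInner_conj_symm (fun k : K => (χ : G → ℂ) k) (ν : K → ℂ), ← cast_mult, ← cast_mult]
  simp [coord]

theorem coord_oneK (χ : IrrCharacter G) : coord (oneK K) χ = 0 := sub_self _

theorem alpha_class (ν : IrrCharacter K) : IsClassFunction G (alpha ν) :=
  isClassFunction_indFun K _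

theorem alpha_eq_sum (ν : IrrCharacter K) :
    alpha ν = ∑ χ : IrrCharacter G, (coord ν χ : ℂ) • (χ : G → ℂ) := by
  rw [classFun_expansion (alpha_class ν)]
  exact Finset.sum_congr rfl fun χ _ => by rw [classInner_alpha]

omit [Fintype G] in
theorem res_inv (H : Hyp t s K) {χ : G → ℂ} (hχ : IsClassFunction G χ) (k : K) :
    χ ((k⁻¹ : K) : G) = χ k := by
  rw [Subgroup.coe_inv, ← H.hinv k k.2]
  exact hχ _ _

theorem mult_conj (H : Hyp t s K) (ν : IrrCharacter K) (χ : IrrCharacter G) :
    mult (conjIrr ν) χ = mult ν χ := by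
  suffices h : (mult (conjIrr ν) χ : ℂ) = mult ν χ by exact_mod_cast h
  rw [cast_mult, cast_mult]
  simp only [classInner]
  congr 1
  refine Fintype.sum_equiv (Equiv.inv K) _ _ fun k => ?_
  show (χ : G → ℂ) k * conj (conj ((ν : K → ℂ) k)) = (χ : G → ℂ) ((k⁻¹ : K) : G) * conj ((ν : K → ℂ) k⁻¹)
  rw [res_inv H (isClassFunction_of_isIrr χ.2), IsChar.inv_eq_conj (IsIrr.isCharacter ν.2)]

theorem coord_conj (H : Hyp t s K) (ν : IrrCharacter K) (χ : IrrCharacter G) :
    coord (conjIrr ν) χ = coord ν χ := by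
  rw [coord, coord, mult_conj H]

omit [Fintype G] in
theorem sum_dual [Finite G] (H : Hyp t s K) {k : K} (hk : k ≠ 1) :
    ∑ ν : IrrCharacter K, (ν : K → ℂ) k = 0 := by
  classical
  have h := regular_eq_sum k
  rw [if_neg hk] at h
  simpa [deg_one H] using h

/-- The values on `K` of an irreducible character, from its coordinates. -/
theorem value_formula (H : Hyp t s K) (χ : IrrCharacter G) {k : K} (hk : k ≠ 1) :
    (χ : G → ℂ) k = -∑ ν : IrrCharacter K, (coord ν χ : ℂ) * (ν : K → ℂ) k := by
  have h := congrFun (classFun_expansion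
    (isClassFunction_of_isCharacter (isCharacter_res K (IsIrr.isCharacter χ.2)))) k
  simp only [Finset.sum_apply, Pi.smul_apply, smul_eq_mul, ← cast_mult] at h
  rw [h, ← Finset.sum_neg_distrib, ← sub_eq_zero, ← Finset.sum_sub_distrib]
  rw [show (∑ ν : IrrCharacter K, ((mult ν χ : ℂ) * (ν : K → ℂ) k - -((coord ν χ : ℂ) * (ν : K → ℂ) k)))
    = (mult (oneK K) χ : ℂ) * ∑ ν : IrrCharacter K, (ν : K → ℂ) k by
      rw [Finset.mul_sum]
      exact Finset.sum_congr rfl fun ν _ => by simp [coord]; ring]
  rw [sum_dual H hk, mul_zero]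

theorem alpha_on_K (H : Hyp t s K) (ν : IrrCharacter K) (k : K) :
    alpha ν k = 2 - (ν : K → ℂ) k - conj ((ν : K → ℂ) k) := by
  classical
  set f : K → ℂ := (oneK K : K → ℂ) - (ν : K → ℂ) with hf
  rcases eq_or_ne k 1 with rfl | hk
  · rw [Subgroup.coe_one, alpha, indFun_apply_one, deg_one H]
    simp [oneK, deg_one H]
    norm_num
  have hk1 : (k : G) ≠ 1 := fun h => hk (Subtype.ext h)
  have hval : ∀ x : G, extendByZero K f (x⁻¹ * (k : G) * x) =
      if x ∈ K then f k else if x ∈ Subgroup.centralizer ({t} : Set G) then f k⁻¹ else 0 := by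
    intro x
    split_ifs with hxK hxH
    · rw [H.comm _ (K.inv_mem hxK) _ k.2, mul_assoc, inv_mul_cancel, mul_one, extendByZero_coe]
    · obtain ⟨ho, hinv⟩ := outside H hxH hxK
      have hxi := inv_eq_self_of_order_two ho
      have e : x⁻¹ * (k : G) * x = ((k⁻¹ : K) : G) := by
        rw [Subgroup.coe_inv, ← hinv k k.2, hxi]
      rw [e, extendByZero_coe]
    · refine extendByZero_of_not_mem K f fun hmem => hxH ?_
      have := mem_H_of_conj H (g := x⁻¹) k.2 hk1 (by rwa [inv_inv])
      simpa using Subgroup.inv_mem _ this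
  have hcount : (Finset.univ.filter fun x : G => x ∈ K).card = Nat.card K ∧
      (Finset.univ.filter fun x : G => x ∈ Subgroup.centralizer ({t} : Set G) ∧ x ∉ K).card = Nat.card K := by
    have h1 : (Finset.univ.filter fun x : G => x ∈ K).card = Nat.card K := by
      rw [← Fintype.card_subtype, Nat.card_eq_fintype_card]
    refine ⟨h1, ?_⟩
    have h2 : (Finset.univ.filter fun x : G => x ∈ Subgroup.centralizer ({t} : Set G)).card =
        2 * Nat.card K := by
      rw [← card_H H, ← Fintype.card_subtype, Nat.card_eq_fintype_card]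
    have h3 := Finset.card_filter_add_card_filter_not (p := fun x : G => x ∈ K)
      (s := Finset.univ.filter fun x : G => x ∈ Subgroup.centralizer ({t} : Set G))
    rw [Finset.filter_filter, Finset.filter_filter, h2] at h3
    have h4 : (Finset.univ.filter fun x : G => x ∈ Subgroup.centralizer ({t} : Set G) ∧ x ∈ K) =
        Finset.univ.filter fun x : G => x ∈ K :=
      Finset.filter_congr fun x _ => ⟨fun h => h.2, fun h => ⟨K_le_H H h, h⟩⟩
    rw [h4, h1] at h3
    omega
  have hsum : ∑ x : G, extendByZero K f (x⁻¹ * (k : G) * x) = Nat.card K * (f k + f k⁻¹) := by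
    simp only [hval, Finset.sum_ite, Finset.sum_const, Finset.filter_filter, nsmul_eq_mul, mul_zero,
      add_zero]
    have h5 : (Finset.univ.filter fun x : G => x ∉ K ∧ x ∈ Subgroup.centralizer ({t} : Set G)) =
        Finset.univ.filter fun x : G => x ∈ Subgroup.centralizer ({t} : Set G) ∧ x ∉ K :=
      Finset.filter_congr fun x _ => And.comm
    rw [h5, hcount.1, hcount.2]
    ring
  show indFun K f k = _
  rw [indFun_apply, hsum, inv_mul_cancel_left₀ (card_ne_zero (G := K))]
  simp only [hf, Pi.sub_apply, oneK, IsChar.inv_eq_conj (IsIrr.isCharacter ν.2)]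
  ring

open scoped Classical in
/-- The Gram matrix. -/
theorem sum_coord_mul (H : Hyp t s K) {ν μ : IrrCharacter K} (hν : ν ≠ oneK K) (hμ : μ ≠ oneK K) :
    ∑ χ : IrrCharacter G, coord ν χ * coord μ χ =
      2 + (if ν = μ then 1 else 0) + (if ν = conjIrr μ then 1 else 0) := by
  suffices h : ((∑ χ : IrrCharacter G, coord ν χ * coord μ χ : ℤ) : ℂ) =
      ((2 + (if ν = μ then 1 else 0) + (if ν = conjIrr μ then 1 else 0) : ℤ) : ℂ) by exact_mod_cast h
  have e : classInner (alpha ν) (alpha (K := K) μ) =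
      ((∑ χ : IrrCharacter G, coord ν χ * coord μ χ : ℤ) : ℂ) := by
    rw [classInner_eq_sum (alpha_class ν), Int.cast_sum]
    refine Finset.sum_congr rfl fun χ _ => ?_
    rw [classInner_alpha, ← classInner_conj_symm, classInner_alpha, map_intCast, Int.cast_mul]
  rw [← e]
  unfold alpha
  rw [classInner_indFun_left K _ (isClassFunction_indFun K _)]
  have hres : (fun k : K => indFun K ((oneK K : K → ℂ) - (μ : K → ℂ)) k) =
      ((oneK K : K → ℂ) - (μ : K → ℂ)) + ((oneK K : K → ℂ) - (conjIrr μ : K → ℂ)) := funext fun k => by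
    have h := alpha_on_K H μ k
    rw [alpha] at h
    rw [h]
    show _ = (1 - (μ : K → ℂ) k) + (1 - conj ((μ : K → ℂ) k))
    ring
  rw [hres]
  simp only [classInner_sub_left, classInner_sub_right, classInner_add_right, classInner_irrChar,
    if_neg hν, if_neg (Ne.symm hμ), if_neg (Ne.symm (conjIrr_ne_oneK hμ)), if_true]
  push_cast
  ring

theorem coord_one (H : Hyp t s K) {ν : IrrCharacter K} (hν : ν ≠ oneK K) :
    coord ν (oneG G) = 1 := by
  have h1 : mult (oneK K) (oneG G) = 1 := by
    have := cast_mult (oneK K) (oneG G)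
    rw [show (fun k : K => (oneG G : G → ℂ) k) = (oneK K : K → ℂ) from rfl,
      classInner_irr_self (oneK K).2] at this
    exact_mod_cast this
  have h2 : mult ν (oneG G) = 0 := by
    have := cast_mult ν (oneG G)
    rw [show (fun k : K => (oneG G : G → ℂ) k) = (oneK K : K → ℂ) from rfl,
      classInner_irr_ne (oneK K).2 ν.2 fun e => hν (Subtype.ext e.symm)] at this
    exact_mod_cast this
  simp [coord, h1, h2]

theorem sum_coord_deg (H : Hyp t s K) (ν : IrrCharacter K) :
    ∑ χ : IrrCharacter G, (coord ν χ : ℂ) * (χ : G → ℂ) 1 = 0 := by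
  have h := congrFun (alpha_eq_sum ν) (1 : G)
  rw [show alpha ν 1 = 0 by
    rw [alpha, indFun_apply_one]
    simp [oneK, deg_one H]] at h
  simpa using h.symm

omit [Fintype G] in
open scoped Classical in
/-- Exactly two self-conjugate characters of `K`. -/
theorem card_real [Finite G] (H : Hyp t s K) :
    (Finset.univ.filter fun ν : IrrCharacter K => conjIrr ν = ν).card = 2 := by
  have hcomm : ∀ ν : IrrCharacter K, ∀ k : K, (ν : K → ℂ) k * (ν : K → ℂ) k = (ν : K → ℂ) (k * k) := by
    intro ν k
    obtain ⟨f, hf⟩ := exists_homK H ν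
    simp [hf]
  have hL : ∀ ν : IrrCharacter K, classInner (ν : K → ℂ) (conjIrr ν : K → ℂ) =
      (Nat.card K : ℂ)⁻¹ * ∑ k : K, (ν : K → ℂ) (k * k) := by
    intro ν
    unfold classInner
    congr 1
    refine Finset.sum_congr rfl fun k _ => ?_
    show (ν : K → ℂ) k * conj (conj ((ν : K → ℂ) k)) = _
    rw [Complex.conj_conj, hcomm]
  have hR : ∀ k : K, ∑ ν : IrrCharacter K, (ν : K → ℂ) (k * k) = if k * k = 1 then (Nat.card K : ℂ) else 0 := by
    intro k
    have h := regular_eq_sum (k * k)
    simpa [deg_one H] using h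
  have htwo : (Finset.univ.filter fun k : K => k * k = 1) = {1, ⟨t, H.htK⟩} := by
    ext k
    simp only [Finset.mem_filter, Finset.mem_univ, true_and, Finset.mem_insert, Finset.mem_singleton]
    constructor
    · intro h
      rcases eq_or_ne k 1 with h1 | h1
      · exact Or.inl h1
      · exact Or.inr (Subtype.ext (eq_t_of_sq H k.2 (congrArg Subtype.val h) fun e => h1 (Subtype.ext e)))
    · rintro (rfl | rfl)
      · exact one_mul _
      · exact Subtype.ext (sq_eq_one_of_order_two H.ht)
  have h : ((Finset.univ.filter fun ν : IrrCharacter K => conjIrr ν = ν).card : ℂ) = 2 := by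
    calc ((Finset.univ.filter fun ν : IrrCharacter K => conjIrr ν = ν).card : ℂ)
        = ∑ ν : IrrCharacter K, classInner (ν : K → ℂ) (conjIrr ν : K → ℂ) := by
          simp only [classInner_irrChar, Finset.sum_boole]
          exact congrArg _ (congrArg _ (Finset.filter_congr fun ν _ => eq_comm))
      _ = (Nat.card K : ℂ)⁻¹ * ∑ k : K, (if k * k = 1 then (Nat.card K : ℂ) else 0) := by
          simp only [hL, ← Finset.mul_sum]
          rw [Finset.sum_comm, Finset.sum_congr rfl fun k _ => hR k]
      _ = 2 := by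
          rw [← Finset.sum_filter, htwo, Finset.sum_pair (fun e => t_ne_one H
            (congrArg Subtype.val e).symm)]
          field_simp [card_ne_zero (G := K)]
          norm_num
  exact_mod_cast h

end Cfsg.Agent.BSWAbstract
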