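import Cfsg.Agent.BSWAbstract.Support

/-!
# The equation from products of two involutions
-/

set_option maxHeartbeats 800000

namespace Cfsg.Agent.BSWAbstract

open scoped ComplexConjugate
open Cfsg.Agent.Char

universe u

variable {G : Type u} [Group G] [Fintype G] {t s : G} {K : Subgroup G}

omit [Fintype G] in
theorem isConj_t_iff (H : Hyp t s K) {x : G} : IsConj t x ↔ orderOf x = 2 := by
  refine ⟨fun h => ?_, fun h => H.hconj t x H.ht h⟩
  obtain ⟨c, rfl⟩ := isConj_iff.1 h
  rw [← MulAut.conj_apply, MulEquiv.orderOf_eq, H.ht]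

theorem pairCount_tt_one (H : Hyp t s K) :
    pairCount t t (1 : G) = (Subgroup.centralizer ({t} : Set G)).index := by
  classical
  rw [← card_isConj_eq_index, Nat.card_eq_fintype_card, Fintype.card_subtype, pairCount]
  refine congrArg _ (Finset.filter_congr fun u _ => ⟨fun h => h.1, fun h => ⟨h, ?_⟩⟩)
  rwa [mul_one, inv_eq_self_of_order_two ((isConj_t_iff H).1 h)]

theorem pairCount_tt_K (H : Hyp t s K) {k : G} (hk : k ∈ K) (hk1 : k ≠ 1) :
    pairCount t t k = Nat.card K := by
  classical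
  have h2 : (Finset.univ.filter fun x : G => x ∈ Subgroup.centralizer ({t} : Set G) ∧ x ∉ K).card =
      Nat.card K := by
    have h3 := Finset.card_filter_add_card_filter_not (p := fun x : G => x ∈ K)
      (s := Finset.univ.filter fun x : G => x ∈ Subgroup.centralizer ({t} : Set G))
    rw [Finset.filter_filter, Finset.filter_filter] at h3
    have h4 : (Finset.univ.filter fun x : G => x ∈ Subgroup.centralizer ({t} : Set G) ∧ x ∈ K) =
        Finset.univ.filter fun x : G => x ∈ K :=
      Finset.filter_congr fun x _ => ⟨fun h => h.2, fun h => ⟨K_le_H H h, h⟩⟩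
    have h5 := card_H H
    simp only [Nat.card_eq_fintype_card, Fintype.card_subtype] at h5 ⊢
    rw [h4] at h3
    omega
  rw [← h2, pairCount]
  congr 1
  ext u
  simp only [Finset.mem_filter, Finset.mem_univ, true_and, isConj_t_iff H]
  constructor
  · rintro ⟨hu, hv⟩
    have hui := inv_eq_self_of_order_two hu
    have hinv : u * k * u⁻¹ = k⁻¹ := by
      have := sq_eq_one_of_order_two hv
      rw [hui] at this ⊢
      exact eq_inv_of_mul_eq_one_left (by simpa [mul_assoc] using this)
    have huH : u ∈ Subgroup.centralizer ({t} : Set G) :=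
      mem_H_of_conj H hk hk1 (hinv ▸ K.inv_mem hk)
    refine ⟨huH, fun huK => ?_⟩
    rw [H.comm u huK k hk, mul_inv_cancel_right] at hinv
    have hkt := eq_t_of_sq H hk (eq_inv_iff_mul_eq_one.1 hinv) hk1
    have hut := eq_t_of_sq H huK (sq_eq_one_of_order_two hu) fun e => by
      rw [e, orderOf_one] at hu
      omega
    rw [hui, hut, hkt, sq_eq_one_of_order_two H.ht, orderOf_one] at hv
    omega
  · rintro ⟨huH, huK⟩
    refine ⟨(outside H huH huK).1, (outside H (Subgroup.mul_mem _ (Subgroup.inv_mem _ huH)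
      (K_le_H H hk)) fun h => huK ?_).1⟩
    have := K.mul_mem h (K.inv_mem hk)
    rw [mul_inv_cancel_right] at this
    simpa using K.inv_mem this

variable [Fintype K]

/-- The equation. -/
theorem T_eq (H : Hyp t s K) {ν : IrrCharacter K} (hν : ν ≠ oneK K) :
    (Nat.card G : ℂ) * (1 + ∑ χ ∈ supp ν, (coord ν χ : ℂ) * ((χ : G → ℂ) t ^ 2 / (χ : G → ℂ) 1)) =
      4 * (Nat.card K : ℂ) ^ 3 := by
  classical
  set n : ℂ := ((Subgroup.centralizer ({t} : Set G)).index : ℂ) with hn
  set F : G → ℂ := fun g => (pairCount t t g : ℂ) with hF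
  have hFc : IsClassFunction G F := fun x h => by simp only [hF, pairCount_conj t t x h]
  have hG : (Nat.card G : ℂ) ≠ 0 := card_ne_zero
  have hK : (Nat.card K : ℂ) ≠ 0 := card_ne_zero
  have hidx : (Nat.card G : ℂ) = n * (2 * Nat.card K) := by
    rw [hn]
    exact_mod_cast (show Nat.card G =
      (Subgroup.centralizer ({t} : Set G)).index * (2 * Nat.card K) by
        rw [← card_H H, Subgroup.index_mul_card])
  have e1 : classInner (alpha ν) F = (Nat.card K : ℂ) := by
    rw [alpha, classInner_indFun_left K _ hFc]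
    unfold classInner
    rw [inv_mul_eq_iff_eq_mul₀ hK,
      Finset.sum_congr rfl (g := fun k : K => ((1 : ℂ) - (ν : K → ℂ) k) * (Nat.card K : ℂ))
      fun k _ => ?_, ← Finset.sum_mul, Finset.sum_sub_distrib]
    · have h0 : ∑ k : K, (ν : K → ℂ) k = 0 := by
        have := classInner_irr_ne ν.2 (oneK K).2 fun e => hν (Subtype.ext e)
        simpa [classInner, oneK, hK] using this
      rw [h0]
      simp [Nat.card_eq_fintype_card]
    · rcases eq_or_ne k 1 with rfl | hk
      · simp [oneK, deg_one H]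
      · simp [hF, oneK, pairCount_tt_K H k.2 fun e => hk (Subtype.ext e)]
  have e2 : classInner (alpha ν) F = ∑ χ : IrrCharacter G, (coord ν χ : ℂ) *
      (n * n / ((Nat.card G : ℂ) * (χ : G → ℂ) 1) * (χ : G → ℂ) t ^ 2) := by
    rw [classInner_eq_sum (alpha_class ν)]
    refine Finset.sum_congr rfl fun χ _ => ?_
    rw [classInner_alpha, ← classInner_conj_symm, hF, classInner_pairCount t t χ.2]
    obtain ⟨d, -, hd⟩ := IsIrr.degree χ.2
    simp [hd, hn, map_div₀, sq]
  rw [e1, sum_supp H hν] at e2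
  simp only [show ((oneG G : IrrCharacter G) : G → ℂ) t = 1 from rfl,
    show ((oneG G : IrrCharacter G) : G → ℂ) 1 = 1 from rfl] at e2
  have hn0 : n ≠ 0 := by
    intro h
    rw [h, zero_mul] at hidx
    exact hG hidx
  have e3 : ∑ χ ∈ supp ν, (coord ν χ : ℂ) *
      (n * n / ((Nat.card G : ℂ) * (χ : G → ℂ) 1) * (χ : G → ℂ) t ^ 2) =
      n * n / (Nat.card G : ℂ) *
        ∑ χ ∈ supp ν, (coord ν χ : ℂ) * ((χ : G → ℂ) t ^ 2 / (χ : G → ℂ) 1) := by
    rw [Finset.mul_sum]
    exact Finset.sum_congr rfl fun χ _ => by ring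
  rw [e3] at e2
  set T := ∑ χ ∈ supp ν, (coord ν χ : ℂ) * ((χ : G → ℂ) t ^ 2 / (χ : G → ℂ) 1) with hT
  have e4 : (Nat.card K : ℂ) * (Nat.card G : ℂ) = n * n * (1 + T) := by
    rw [e2]
    field_simp
  rw [hidx] at e4 ⊢
  have e5 : n * (2 * (Nat.card K : ℂ) ^ 2) = n * (n * (1 + T)) := by linear_combination e4
  have e6 := mul_left_cancel₀ hn0 e5
  linear_combination (-2 * (Nat.card K : ℂ)) * e6

end Cfsg.Agent.BSWAbstract
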