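import Cfsg.Agent.BSWAbstract.MinusCent
import Mathlib.GroupTheory.Index

/-!
# The abstract Brauer-Suzuki-Wall theorem
-/

set_option maxHeartbeats 800000

namespace Cfsg.Agent.BSWAbstract

open scoped ComplexConjugate Pointwise
open Cfsg.Agent.Char

universe u

variable {G : Type u} [Group G] [Fintype G] {t s : G} {K : Subgroup G} {D : Dat t K}

theorem qT_centralizer (H : Hyp t s K) {z : G} (h : QT D z) :
    Nat.card (Subgroup.centralizer ({z} : Set G)) = D.q ∧
    ∀ a ∈ Subgroup.centralizer ({z} : Set G), ∀ b ∈ Subgroup.centralizer ({z} : Set G),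
      a * b = b * a := by
  rcases D.cases' with ⟨he, -⟩ | ⟨he, -⟩
  · exact ⟨(qT_centralizer_plus H he h).1, (qT_centralizer_plus H he h).2.2⟩
  · exact qT_centralizer_minus H he h

theorem qT_cent_eq (H : Hyp t s K) {z x : G} (h : QT D z)
    (hx : x ∈ Subgroup.centralizer ({z} : Set G)) (hx1 : x ≠ 1) :
    Subgroup.centralizer ({x} : Set G) = Subgroup.centralizer ({z} : Set G) := by
  obtain ⟨hc, hab⟩ := qT_centralizer H h
  obtain ⟨hc', -⟩ := qT_centralizer H (qT_of_mem H h hx hx1)
  refine (Subgroup.eq_of_le_of_card_ge (fun a ha => ?_) (by rw [hc, hc'])).symm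
  exact Subgroup.mem_centralizer_singleton_iff.2 (hab a ha x hx)

theorem two_card (H : Hyp t s K) (D : Dat t K) :
    2 * Nat.card G = D.q * (D.q + 1) * (D.q - 1) := by
  have hq := q_pos D H
  rw [D.card]
  rcases D.cases' with ⟨hq', hv, -⟩ | ⟨hq', hv, -⟩
  · rw [hq', hv, Nat.add_sub_cancel]
    ring
  · obtain ⟨a, ha⟩ : ∃ a, Nat.card K = a + 1 := ⟨D.v, hv.symm⟩
    have hv' : D.v = a := by omega
    have hq'' : D.q = 2 * a + 1 := by omega
    rw [ha, hv', hq'', Nat.add_sub_cancel]
    ring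

theorem conj_cent (z g : G) {x : G} (hx : x ∈ Subgroup.centralizer ({g * z * g⁻¹} : Set G)) :
    g⁻¹ * x * g ∈ Subgroup.centralizer ({z} : Set G) := by
  rw [Subgroup.mem_centralizer_singleton_iff] at hx ⊢
  calc g⁻¹ * x * g * z = g⁻¹ * (x * (g * z * g⁻¹)) * g := by group
    _ = g⁻¹ * ((g * z * g⁻¹) * x) * g := by rw [hx]
    _ = z * (g⁻¹ * x * g) := by group

theorem conj_cent' (z g : G) {x : G} (hx : x ∈ Subgroup.centralizer ({z} : Set G)) :
    g * x * g⁻¹ ∈ Subgroup.centralizer ({g * z * g⁻¹} : Set G) := by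
  rw [Subgroup.mem_centralizer_singleton_iff] at hx ⊢
  calc g * x * g⁻¹ * (g * z * g⁻¹) = g * (x * z) * g⁻¹ := by group
    _ = g * (z * x) * g⁻¹ := by rw [hx]
    _ = _ := by group

theorem mem_normalizer_of (H : Hyp t s K) {z g x : G} (h : QT D z)
    (hx : x ∈ Subgroup.centralizer ({z} : Set G)) (hx1 : x ≠ 1)
    (hgx : g * x * g⁻¹ ∈ Subgroup.centralizer ({z} : Set G)) :
    g ∈ Subgroup.normalizer (Subgroup.centralizer ({z} : Set G) : Set G) := by
  refine Subgroup.mem_normalizer_fintype fun n hn => ?_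
  rw [SetLike.mem_coe, ← qT_cent_eq H h hgx fun e => hx1 (conj_eq_one_iff.1 e)]
  rw [SetLike.mem_coe, ← qT_cent_eq H h hx hx1] at hn
  exact conj_cent' x g hn

/-- The centralizer of a QT element has at most `q + 1` conjugates. -/
theorem index_le (H : Hyp t s K) {z : G} (h : QT D z) :
    (Subgroup.normalizer (Subgroup.centralizer ({z} : Set G) : Set G)).index ≤ D.q + 1 := by
  classical
  set Q := Subgroup.centralizer ({z} : Set G) with hQ
  set N := Subgroup.normalizer (Q : Set G) with hN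
  set S := Finset.univ.filter fun x : G => x ∈ Q ∧ x ≠ 1 with hS
  have hSc : S.card = D.q - 1 := by
    rw [hS, show (Finset.univ.filter fun x : G => x ∈ Q ∧ x ≠ 1) =
        (Finset.univ.filter fun x : G => x ∈ Q).erase 1 by ext; simp [and_comm],
      Finset.card_erase_of_mem (by simp [Q.one_mem]), ← (qT_centralizer H h).1, ← hQ,
      Nat.card_eq_fintype_card, Fintype.card_subtype]
  have hinj : ∀ p ∈ (Finset.univ : Finset (G ⧸ N)) ×ˢ S, ∀ p' ∈ (Finset.univ : Finset (G ⧸ N)) ×ˢ S,
      p.1.out * p.2 * p.1.out⁻¹ = p'.1.out * p'.2 * p'.1.out⁻¹ → p = p' := by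
    intro p hp p' hp' he
    simp only [hS, Finset.mem_product, Finset.mem_univ, Finset.mem_filter, true_and] at hp hp'
    have hm : p.1.out⁻¹ * p'.1.out ∈ N := by
      refine mem_normalizer_of H h hp'.1 hp'.2 ?_
      rw [show p.1.out⁻¹ * p'.1.out * p'.2 * (p.1.out⁻¹ * p'.1.out)⁻¹ =
        p.1.out⁻¹ * (p'.1.out * p'.2 * p'.1.out⁻¹) * p.1.out by group, ← he]
      simpa [mul_assoc] using hp.1
    have h1 : p.1 = p'.1 := by
      have := QuotientGroup.eq.2 hm
      rwa [QuotientGroup.out_eq', QuotientGroup.out_eq'] at this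
    refine Prod.ext h1 ?_
    rw [h1] at he
    simpa using he
  have hle := Finset.card_le_card_of_injOn (t := Finset.univ.filter fun y : G => QT D y)
    (fun p : (G ⧸ N) × G => p.1.out * p.2 * p.1.out⁻¹) (fun p hp => by
      simp only [hS, Finset.coe_product, Set.mem_prod, Finset.coe_filter, Finset.coe_univ, Finset.mem_univ,
        true_and, Set.mem_setOf_eq, Set.mem_univ] at hp ⊢
      exact qT_conj _ (qT_of_mem H h hp.1 hp.2)) fun p hp p' hp' e => hinj p hp p' hp' e
  rw [Finset.card_product, Finset.card_univ, hSc, ← Nat.card_eq_fintype_card] at hle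
  change N.index * (D.q - 1) ≤ _ at hle
  have hq := q_pos D H
  have hQT := card_qT (D := D) H
  zify [hq.le] at hle
  rw [hQT] at hle
  have : (N.index : ℤ) * ((D.q : ℤ) - 1) ≤ ((D.q : ℤ) + 1) * ((D.q : ℤ) - 1) := by linarith
  have := le_of_mul_le_mul_right this (by omega)
  omega

theorem normalizer_card_ge (H : Hyp t s K) {z : G} (h : QT D z) {d : ℕ} (hd : 2 * d + 1 = D.q) :
    D.q * d ≤ Nat.card (Subgroup.normalizer (Subgroup.centralizer ({z} : Set G) : Set G)) := by
  set N := Subgroup.normalizer (Subgroup.centralizer ({z} : Set G) : Set G) with hN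
  have h1 := N.card_mul_index
  have h2 := index_le H h
  have h3 := two_card H D
  rw [← h1, show D.q - 1 = 2 * d by omega] at h3
  rw [← hN] at h2
  by_contra hlt
  rw [not_le] at hlt
  have h4 : Nat.card N * N.index ≤ Nat.card N * (D.q + 1) := Nat.mul_le_mul_left _ h2
  have h5 : Nat.card N * (D.q + 1) < D.q * d * (D.q + 1) := Nat.mul_lt_mul_of_pos_right hlt (Nat.succ_pos _)
  nlinarith

/-- The conclusion. -/
def Concl (G : Type u) [Group G] : Prop :=
  ∃ Q D : Subgroup G, 2 * Nat.card G = Nat.card Q * (Nat.card Q + 1) * (Nat.card Q - 1) ∧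
    (∀ x ∈ Q, x ≠ 1 → Subgroup.centralizer ({x} : Set G) = Q) ∧
    (∀ a ∈ D, ∀ b ∈ D, a * b = b * a) ∧ 2 * Nat.card D + 1 = Nat.card Q ∧ Q ⊓ D = ⊥ ∧
    Subgroup.normalizer (Q : Set G) = Q ⊔ D ∧
    ∀ X : Subgroup G, X ≤ D → X ≠ ⊥ →
      Subgroup.normalizer (X : Set G) = Subgroup.normalizer (D : Set G) ∧
      ∃ u : G, orderOf u = 2 ∧ u ∉ D ∧ (∀ d ∈ D, u * d * u⁻¹ = d⁻¹) ∧
        Subgroup.normalizer (D : Set G) = D ⊔ Subgroup.zpowers u

omit [Fintype G] in
theorem map_centralizer_singleton (e : G ≃* G) (x : G) :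
    (Subgroup.centralizer ({x} : Set G)).map e.toMonoidHom = Subgroup.centralizer ({e x} : Set G) := by
  ext y
  rw [Subgroup.mem_map]
  constructor
  · rintro ⟨a, ha, rfl⟩
    rw [Subgroup.mem_centralizer_singleton_iff] at ha ⊢
    show e a * e x = e x * e a
    rw [← map_mul, ha, map_mul]
  · intro hy
    refine ⟨e.symm y, ?_, e.apply_symm_apply y⟩
    rw [Subgroup.mem_centralizer_singleton_iff] at hy ⊢
    apply e.injective
    rw [map_mul, map_mul, e.apply_symm_apply, hy]

theorem concl_plus (H : Hyp t s K) (he : D.q = 2 * Nat.card K + 1) {z : G} (h : QT D z) :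
    Concl G := by
  classical
  set Q := Subgroup.centralizer ({z} : Set G) with hQ
  set N := Subgroup.normalizer (Q : Set G) with hN
  obtain ⟨hQc, ⟨u, hu, -, hui⟩, hab⟩ := qT_centralizer_plus H he h
  rw [← hQ] at hQc hab hui
  have hqodd : Odd D.q := ⟨Nat.card K, he⟩
  have hfpf : ∀ w ∈ Q, w * w = 1 → w = 1 := by
    intro w hw hw2
    by_contra h1
    have := Subgroup.orderOf_dvd_natCard Q hw
    rw [order_two_of_sq hw2 h1, hQc] at this
    exact (Nat.not_even_iff_odd.2 hqodd) (even_iff_two_dvd.2 this)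
  have hinvol : ∀ w ∈ N, orderOf w = 2 → ∀ x ∈ Q, w * x * w⁻¹ = x⁻¹ := by
    intro w hw hw2 x hx
    have hwi := inv_eq_self_of_order_two hw2
    rw [hwi]
    have hwx : w * x * w ∈ Q := by
      have := (Subgroup.mem_normalizer_iff.1 hw x).1 hx
      rwa [hwi] at this
    set y := w * x * w * x with hy
    have hyQ : y ∈ Q := Q.mul_mem hwx hx
    have hwy : w * y * w = y := by
      calc w * y * w = (w * w) * x * w * x * w := by rw [hy]; group
        _ = x * (w * x * w) := by rw [sq_eq_one_of_order_two hw2, one_mul]; group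
        _ = y := hab x hx _ hwx
    by_contra hne
    have hy1 : y ≠ 1 := fun e => hne (eq_inv_of_mul_eq_one_left e)
    have hwC : w ∈ Subgroup.centralizer ({y} : Set G) := by
      rw [Subgroup.mem_centralizer_singleton_iff]
      calc w * y = w * y * (w * w) := by rw [sq_eq_one_of_order_two hw2, mul_one]
        _ = (w * y * w) * w := by group
        _ = y * w := by rw [hwy]
    rw [qT_cent_eq H h hyQ hy1, ← hQ] at hwC
    have := hfpf w hwC (sq_eq_one_of_order_two hw2)
    rw [this, orderOf_one] at hw2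
    omega
  have huN : u ∈ N := Subgroup.mem_normalizer_fintype fun x hx => by
    show u * x * u⁻¹ ∈ Q
    rw [hui x hx]
    exact Q.inv_mem hx
  set E := N ⊓ Subgroup.centralizer ({u} : Set G) with hE
  have hinvE : ∀ w ∈ E, orderOf w = 2 → w = u := by
    intro w hw hw2
    have hwu : u * w ∈ Q := by
      rw [hQ, Subgroup.mem_centralizer_singleton_iff]
      have hzQ : z ∈ Q := Subgroup.mem_centralizer_singleton_iff.2 rfl
      calc u * w * z = u * (w * z * w⁻¹) * w := by group
        _ = u * z⁻¹ * w := by rw [hinvol w hw.1 hw2 z hzQ]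
        _ = (u * z⁻¹ * u⁻¹) * (u * w) := by group
        _ = z * (u * w) := by rw [hui _ (Q.inv_mem hzQ), inv_inv]
    have := hfpf _ hwu (by
      have hc : w * u = u * w := Subgroup.mem_centralizer_singleton_iff.1 hw.2
      calc u * w * (u * w) = u * (w * u) * w := by group
        _ = (u * u) * (w * w) := by rw [hc]; group
        _ = 1 := by rw [sq_eq_one_of_order_two hu, sq_eq_one_of_order_two hw2, one_mul])
    rw [← inv_eq_self_of_order_two hu]
    exact eq_inv_of_mul_eq_one_right this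
  -- the conjugate of `K` containing `u`
  obtain ⟨g, hg⟩ := isConj_iff.1 (H.hconj t u H.ht hu)
  set φ : G ≃* G := MulAut.conj g with hφ
  set K' := K.map φ.toMonoidHom with hK'
  have hKc : Nat.card K' = Nat.card K := Subgroup.card_map_of_injective φ.injective
  have hφt : φ t = u := by rw [hφ, MulAut.conj_apply, hg]
  have hH' : (Subgroup.centralizer ({t} : Set G)).map φ.toMonoidHom =
      Subgroup.centralizer ({u} : Set G) := by rw [map_centralizer_singleton, hφt]
  have hEK : E ≤ K' := by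
    intro x hx
    have hxC : x ∈ (Subgroup.centralizer ({t} : Set G)).map φ.toMonoidHom := hH' ▸ hx.2
    obtain ⟨a, ha, rfl⟩ := Subgroup.mem_map.1 hxC
    by_contra hnot
    have haK : a ∉ K := fun h' => hnot (Subgroup.mem_map_of_mem _ h')
    have h2 : orderOf (φ a) = 2 := by rw [MulEquiv.orderOf_eq]; exact (outside H ha haK).1
    refine haK (?_ : a ∈ K)
    rw [show a = t from φ.injective ((hinvE _ hx h2).trans hφt.symm)]
    exact H.htK
  have hdec : N = Q ⊔ E := by
    refine le_antisymm (fun x hx => ?_) (sup_le (Subgroup.le_normalizer) inf_le_left)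
    have hxu : x * u * x⁻¹ ∈ N := N.mul_mem (N.mul_mem hx huN) (N.inv_mem hx)
    have hxu2 : orderOf (x * u * x⁻¹) = 2 := by rw [← MulAut.conj_apply, MulEquiv.orderOf_eq, hu]
    have hui' := inv_eq_self_of_order_two hu
    set y := u * (x * u * x⁻¹) with hy
    have hyQ : y ∈ Q := by
      rw [hQ, Subgroup.mem_centralizer_singleton_iff]
      have hzQ : z ∈ Q := Subgroup.mem_centralizer_singleton_iff.2 rfl
      calc y * z = u * ((x * u * x⁻¹) * z * (x * u * x⁻¹)⁻¹) * (x * u * x⁻¹) := by rw [hy]; group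
        _ = u * z⁻¹ * (x * u * x⁻¹) := by rw [hinvol _ hxu hxu2 z hzQ]
        _ = (u * z⁻¹ * u⁻¹) * y := by rw [hy]; group
        _ = z * y := by rw [hui _ (Q.inv_mem hzQ), inv_inv]
    obtain ⟨j, hj⟩ := hqodd
    set c := (y⁻¹) ^ (j + 1) with hc
    have hcQ : c ∈ Q := Q.pow_mem (Q.inv_mem hyQ) _
    have hcc : c * c = y⁻¹ := by
      rw [hc, ← pow_add, show j + 1 + (j + 1) = D.q + 1 by omega, pow_succ, ← hQc]
      have : ((⟨y⁻¹, Q.inv_mem hyQ⟩ : Q)) ^ Nat.card Q = 1 := pow_card_eq_one'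
      rw [show y⁻¹ ^ Nat.card Q = 1 from congrArg Subtype.val this, one_mul]
    have hcu : c * u * c⁻¹ = x * u * x⁻¹ := by
      calc c * u * c⁻¹ = u * (u⁻¹ * c * u) * c⁻¹ := by group
        _ = u * (c⁻¹ * c⁻¹) := by
          have h1 := hui c hcQ
          rw [hui'] at h1 ⊢
          rw [h1]; group
        _ = u * (c * c)⁻¹ := by group
        _ = x * u * x⁻¹ := by rw [hcc, inv_inv, hy, ← mul_assoc u u, sq_eq_one_of_order_two hu, one_mul]
    have hmem : c⁻¹ * x ∈ E := by
      refine ⟨N.mul_mem (N.inv_mem (Subgroup.le_normalizer hcQ)) hx, ?_⟩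
      show c⁻¹ * x ∈ Subgroup.centralizer ({u} : Set G)
      rw [Subgroup.mem_centralizer_singleton_iff]
      calc c⁻¹ * x * u = c⁻¹ * (x * u * x⁻¹) * x := by group
        _ = c⁻¹ * (c * u * c⁻¹) * x := by rw [hcu]
        _ = u * (c⁻¹ * x) := by group
    rw [show x = c * (c⁻¹ * x) by group]
    exact Subgroup.mul_mem_sup hcQ hmem
  have hge := normalizer_card_ge H h (d := Nat.card K) he.symm
  rw [← hQ, ← hN] at hge
  have hN' : Nat.card N ≤ D.q * Nat.card E := by
    rw [hdec, ← hQc]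
    have hle : E ≤ Subgroup.normalizer (Q : Set G) := inf_le_left
    have hcar : ((Q ⊔ E : Subgroup G) : Set G) = (Q : Set G) * (E : Set G) :=
      Subgroup.coe_mul_of_right_le_normalizer_left Q E hle
    calc Nat.card (Q ⊔ E : Subgroup G) = Nat.card ((Q ⊔ E : Subgroup G) : Set G) := rfl
      _ = Nat.card ((Q : Set G) * (E : Set G) : Set G) := by rw [hcar]
      _ ≤ _ := Set.natCard_mul_le
  have hEc : Nat.card E = Nat.card K' := by
    refine le_antisymm (Subgroup.card_le_of_le hEK) ?_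
    rw [hKc]
    exact Nat.le_of_mul_le_mul_left (hge.trans hN') (zero_lt_one.trans (q_pos D H))
  have hEK' : E = K' := Subgroup.eq_of_le_of_card_ge hEK hEc.ge
  rw [hEK'] at hdec
  refine ⟨Q, K', ?_, fun x hx hx1 => qT_cent_eq H h hx hx1, ?_, by rw [hKc, hQc, he],
    Subgroup.inf_eq_bot_of_coprime ?_, hdec, fun X hX hX1 => ?_⟩
  · rw [hQc]; exact two_card H D
  · rintro a ha b hb
    obtain ⟨a', ha', rfl⟩ := Subgroup.mem_map.1 ha
    obtain ⟨b', hb', rfl⟩ := Subgroup.mem_map.1 hb
    rw [← map_mul, ← map_mul, H.comm a' ha' b' hb']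
  · rw [hQc, hKc]
    exact (q_coprime_K D).coprime_dvd_right (dvd_mul_left _ 2)
  · have hnorm : ∀ Y : Subgroup G, Y ≤ K → Y ≠ ⊥ →
        Subgroup.normalizer ((Y.map φ.toMonoidHom : Subgroup G) : Set G) = Subgroup.centralizer ({u} : Set G) := by
      intro Y hY hY1
      rw [← hH', ← le_antisymm (normalizer_le H hY hY1) (normalizer_ge H hY)]
      exact (Subgroup.map_equiv_normalizer_eq Y φ).symm
    have hKne : K ≠ ⊥ := fun e => t_ne_one H (Subgroup.mem_bot.1 (e ▸ H.htK))
    have hND := hnorm K le_rfl hKne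
    rw [← hK'] at hND
    have hXmap : (X.comap φ.toMonoidHom).map φ.toMonoidHom = X :=
      Subgroup.map_comap_eq_self_of_surjective φ.surjective X
    have hNX := hnorm (X.comap φ.toMonoidHom) (fun a ha => by
        obtain ⟨b, hb, hbe⟩ := Subgroup.mem_map.1 (hX (Subgroup.mem_comap.1 ha))
        rwa [← φ.injective hbe]) (fun e => hX1 (by rw [← hXmap, e, Subgroup.map_bot]))
    rw [hXmap] at hNX
    refine ⟨hNX.trans hND.symm, φ s, by rw [MulEquiv.orderOf_eq, H.hs], fun hs' => H.hsK ?_, ?_, ?_⟩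
    · obtain ⟨b, hb, hbe⟩ := Subgroup.mem_map.1 hs'
      rwa [← φ.injective hbe]
    · intro d hd
      obtain ⟨b, hb, rfl⟩ := Subgroup.mem_map.1 hd
      show φ s * φ b * (φ s)⁻¹ = (φ b)⁻¹
      rw [← map_inv, ← map_mul, ← map_mul, H.hinv b hb, map_inv]
    · rw [hND, ← hH', ← H.hH, Subgroup.map_sup, MonoidHom.map_zpowers]
      rfl

omit [Fintype G] in
theorem mem_of_sq_mem {N : Subgroup G} {c : G} (hodd : Odd (orderOf c)) (h : c * c ∈ N) : c ∈ N := by
  obtain ⟨j, hj⟩ := hodd
  have : (c * c) ^ (j + 1) = c := by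
    rw [← pow_two, ← pow_mul, show 2 * (j + 1) = orderOf c + 1 by omega, pow_succ, pow_orderOf_eq_one,
      one_mul]
  exact this ▸ N.pow_mem h _

theorem concl_minus (H : Hyp t s K) (he : D.q + 1 = 2 * Nat.card K) {z : G} (h : QT D z) :
    Concl G := by
  classical
  set Q := Subgroup.centralizer ({z} : Set G) with hQ
  set N := Subgroup.normalizer (Q : Set G) with hN
  obtain ⟨hQc, hab⟩ := qT_centralizer H h
  rw [← hQ] at hQc hab
  have hzQ : z ∈ Q := Subgroup.mem_centralizer_singleton_iff.2 rfl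
  have hv := v_pos D H
  have hvv := (minus_params he).1
  have hqv : 2 * D.v + 1 = D.q := by omega
  have hQN : Q ≤ N := Subgroup.le_normalizer
  -- the order of `N`
  have hNc : Nat.card N = D.q * D.v := by
    refine le_antisymm ?_ (normalizer_card_ge H h hqv)
    set O := (Finset.univ.filter fun g : G => g ∈ N).image (fun g => g * z * g⁻¹) with hO
    have hOQ : ∀ y ∈ O, y ∈ Q ∧ IsConj z y := by
      intro y hy
      obtain ⟨g, hg, rfl⟩ := Finset.mem_image.1 hy
      exact ⟨(Subgroup.mem_normalizer_iff.1 (Finset.mem_filter.1 hg).2 z).1 hzQ, isConj_iff.2 ⟨g, rfl⟩⟩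
    have hsub : O ∪ O.image (·⁻¹) ⊆ (Finset.univ.filter fun x : G => x ∈ Q).erase 1 := by
      intro y hy
      rcases Finset.mem_union.1 hy with h1 | h1
      · refine Finset.mem_erase.2 ⟨?_, by simpa using (hOQ y h1).1⟩
        rintro rfl
        exact h.1 (isConj_one_left.1 (hOQ 1 h1).2)
      · obtain ⟨w, hw, rfl⟩ := Finset.mem_image.1 h1
        refine Finset.mem_erase.2 ⟨?_, by simpa using (hOQ w hw).1⟩
        intro e
        exact h.1 (isConj_one_left.1 (inv_eq_one.1 e ▸ (hOQ w hw).2))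
    have hdisj : Disjoint O (O.image (·⁻¹)) := by
      refine Finset.disjoint_left.2 fun y h1 h2 => ?_
      obtain ⟨w, hw, rfl⟩ := Finset.mem_image.1 h2
      obtain ⟨c, hc⟩ := isConj_iff.1 (hOQ w hw).2
      refine not_conj_inv H he h ((hOQ _ h1).2.trans (isConj_iff.2 ⟨c, ?_⟩).symm)
      rw [← hc]
      group
    have hle := Finset.card_le_card hsub
    rw [Finset.card_union_of_disjoint hdisj, Finset.card_image_of_injective _ inv_injective,
      Finset.card_erase_of_mem (by simp [Q.one_mem]), ← Fintype.card_subtype,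
      ← Nat.card_eq_fintype_card, hQc] at hle
    have hfib : ∀ y ∈ O, ((Finset.univ.filter fun g : G => g ∈ N).filter fun g => g * z * g⁻¹ = y).card ≤ D.q := by
      intro y hy
      obtain ⟨g₀, hg₀, rfl⟩ := Finset.mem_image.1 hy
      rw [← hQc, Nat.card_eq_fintype_card, Fintype.card_subtype]
      refine Finset.card_le_card_of_injOn (fun g => g₀⁻¹ * g) (fun g hg => ?_) fun _ _ _ _ e => mul_left_cancel e
      simp only [Finset.coe_filter, Finset.mem_filter, Finset.mem_univ, true_and, Set.mem_setOf_eq] at hg ⊢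
      rw [hQ, Subgroup.mem_centralizer_singleton_iff]
      calc g₀⁻¹ * g * z = g₀⁻¹ * (g * z * g⁻¹) * g := by group
        _ = g₀⁻¹ * (g₀ * z * g₀⁻¹) * g := by rw [hg.2]
        _ = z * (g₀⁻¹ * g) := by group
    have hN2 : Nat.card N ≤ D.q * O.card := by
      rw [Nat.card_eq_fintype_card, Fintype.card_subtype]
      exact Finset.card_le_mul_card_image _ D.q hfib
    exact hN2.trans (Nat.mul_le_mul_left _ (by omega))
  have hcop : D.q.Coprime D.v := q_coprime_v D
  have hkfact : Nat.card G = 2 * Nat.card K * (D.q * D.v) := by rw [D.card]; ring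
  have hq1 := q_pos D H
  have hk := (Nat.card_pos : 0 < Nat.card K)
  obtain ⟨g, hg⟩ : ∃ g, g ∉ N := by
    by_contra! hall
    have htop : N = ⊤ := top_le_iff.1 fun x _ => hall x
    rw [← hNc, htop, Subgroup.card_top] at hkfact
    nlinarith [Nat.card_pos (α := G)]
  set M := N.map (MulAut.conj g).toMonoidHom with hM
  have hMmem : ∀ x, x ∈ M ↔ g⁻¹ * x * g ∈ N := by
    intro x
    rw [hM, Subgroup.mem_map]
    constructor
    · rintro ⟨a, ha, rfl⟩
      simpa [mul_assoc] using ha
    · intro hx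
      exact ⟨_, hx, by simp [mul_assoc]⟩
  set E := N ⊓ M with hE
  have hQM : ∀ x ∈ Q, x ∈ M → x = 1 := by
    intro x hx hxM
    by_contra hx1
    rw [hMmem] at hxM
    refine hg ?_
    have hyQ : g⁻¹ * x * g ∈ Q := by
      have hnorm : (Q.subgroupOf N).Normal := Subgroup.normal_in_normalizer
      have hidx : (Q.subgroupOf N).index = D.v := by
        have h1 := (Q.subgroupOf N).card_mul_index
        rw [Nat.card_congr (Subgroup.subgroupOfEquivOfLe hQN).toEquiv, hQc, hNc] at h1
        exact Nat.eq_of_mul_eq_mul_left (by omega) h1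
      have hpow := (Q.subgroupOf N).pow_index_mem (⟨_, hxM⟩ : N)
      rw [hidx, Subgroup.mem_subgroupOf] at hpow
      have ho : orderOf (g⁻¹ * x * g) ∣ D.q := by
        rw [show g⁻¹ * x * g = MulAut.conj g⁻¹ x by simp, MulEquiv.orderOf_eq, ← hQc]
        exact Subgroup.orderOf_dvd_natCard Q hx
      obtain ⟨j, hj⟩ := exists_pow_eq_self_of_coprime (x := g⁻¹ * x * g) (n := D.v)
        ((hcop.coprime_dvd_left ho).symm)
      rw [← hj]
      exact Q.pow_mem hpow _
    refine mem_normalizer_of H h hyQ (fun e => hx1 ?_) ?_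
    · calc x = g * (g⁻¹ * x * g) * g⁻¹ := by group
        _ = 1 := by rw [e]; group
    · rw [show g * (g⁻¹ * x * g) * g⁻¹ = x by group]
      exact hx
  have hMc : Nat.card M = D.q * D.v := by
    rw [hM, Subgroup.card_map_of_injective (MulAut.conj g).injective, hNc]
  -- the order of the intersection
  have hQE : Q ⊓ E = ⊥ := by
    rw [eq_bot_iff]
    exact fun x hx => Subgroup.mem_bot.2 (hQM x hx.1 hx.2.2)
  have hprod : ∀ A B : Subgroup G, Nat.card A * Nat.card B ≤ Nat.card G * Nat.card (A ⊓ B : Subgroup G) := by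
    intro A B
    simp only [Nat.card_eq_fintype_card, Fintype.card_subtype, ← Finset.card_product]
    rw [← Finset.card_univ]
    rw [mul_comm (Finset.univ : Finset G).card]
    refine Finset.card_le_mul_card_image_of_maps_to (f := fun p : G × G => p.1 * p.2)
      (fun p _ => Finset.mem_univ _) _ fun y _ => ?_
    rcases ((Finset.univ.filter fun x => x ∈ A) ×ˢ (Finset.univ.filter fun x => x ∈ B)).filter
      (fun p : G × G => p.1 * p.2 = y) |>.eq_empty_or_nonempty with hemp | ⟨p₀, hp₀⟩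
    · simp [hemp]
    · refine Finset.card_le_card_of_injOn (fun p => p₀.1⁻¹ * p.1) (fun p hp => ?_) fun p hp p' hp' e => ?_
      · simp only [Finset.coe_filter, Finset.mem_product, Finset.mem_filter, Finset.mem_univ, true_and,
          Set.mem_setOf_eq] at hp hp₀ ⊢
        refine ⟨A.mul_mem (A.inv_mem hp₀.1.1) hp.1.1, ?_⟩
        rw [show p₀.1⁻¹ * p.1 = p₀.2 * p.2⁻¹ by
          rw [eq_mul_inv_iff_mul_eq, mul_assoc, hp.2, ← hp₀.2, inv_mul_cancel_left]]
        exact B.mul_mem hp₀.1.2 (B.inv_mem hp.1.2)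
      · simp only [Finset.coe_filter, Finset.mem_product, Finset.mem_filter, Finset.mem_univ, true_and,
          Set.mem_setOf_eq] at hp hp'
        have e1 : p.1 = p'.1 := mul_left_cancel e
        exact Prod.ext e1 (mul_left_cancel ((e1 ▸ hp.2).trans hp'.2.symm))
  have hEQ : Nat.card (Q ⊔ E : Subgroup G) = D.q * Nat.card E := by
    rw [← hQc]
    have hcar : ((Q ⊔ E : Subgroup G) : Set G) = (Q : Set G) * (E : Set G) :=
      Subgroup.coe_mul_of_right_le_normalizer_left Q E inf_le_left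
    calc Nat.card (Q ⊔ E : Subgroup G) = Nat.card ((Q ⊔ E : Subgroup G) : Set G) := rfl
      _ = Nat.card ((Q : Set G) * (E : Set G) : Set G) := by rw [hcar]
      _ = Nat.card (Q × E) := (Nat.card_congr (Equiv.ofBijective
          (fun p : Q × E => (⟨(p.1 : G) * p.2, Set.mul_mem_mul p.1.2 p.2.2⟩ :
            ((Q : Set G) * (E : Set G) : Set G)))
          ⟨fun p p' e => Subgroup.mul_injective_of_disjoint (disjoint_iff.2 hQE) (congrArg Subtype.val e),
            fun ⟨x, hx⟩ => by
              obtain ⟨a, ha, b, hb, rfl⟩ := hx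
              exact ⟨(⟨a, ha⟩, ⟨b, hb⟩), rfl⟩⟩)).symm
      _ = _ := Nat.card_prod _ _
  have hEc : Nat.card E = D.v := by
    refine le_antisymm ?_ ?_
    · have := Subgroup.card_le_of_le (sup_le hQN inf_le_left : Q ⊔ E ≤ N)
      rw [hEQ, hNc] at this
      exact Nat.le_of_mul_le_mul_left this (by omega)
    · have := hprod N M
      rw [hNc, hMc, hkfact, show 2 * Nat.card K * (D.q * D.v) * Nat.card (N ⊓ M : Subgroup G) =
        D.q * D.v * (2 * Nat.card K * Nat.card (N ⊓ M : Subgroup G)) by ring] at this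
      have h2 := Nat.le_of_mul_le_mul_left this (Nat.mul_pos (by omega) hv)
      rw [← hE] at h2
      by_contra hlt
      rw [← he] at h2
      nlinarith [Nat.mul_le_mul_left (D.q + 1) (show Nat.card E + 1 ≤ D.v by omega)]
  have hNE : N = Q ⊔ E :=
    (Subgroup.eq_of_le_of_card_ge (sup_le hQN inf_le_left) (by rw [hEQ, hEc, hNc])).symm
  -- covering by one double coset
  have hcov : ∀ c : G, c ∉ N → ∃ x ∈ Q, (x * g)⁻¹ * c ∈ N := by
    set S := ((Finset.univ.filter fun x : G => x ∈ Q) ×ˢ (Finset.univ.filter fun x : G => x ∈ N)).image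
      (fun p : G × G => p.1 * g * p.2) with hS
    have hinjS : Set.InjOn (fun p : G × G => p.1 * g * p.2)
        ((Finset.univ.filter fun x : G => x ∈ Q) ×ˢ (Finset.univ.filter fun x : G => x ∈ N) : Finset (G × G)) := by
      intro p hp p' hp' e
      simp only [Finset.coe_product, Set.mem_prod, Finset.coe_filter, Finset.mem_univ, true_and,
        Set.mem_setOf_eq] at hp hp'
      have e' : p.1 * g * p.2 = p'.1 * g * p'.2 := e
      have h1 : p'.1⁻¹ * p.1 = 1 := hQM _ (Q.mul_mem (Q.inv_mem hp'.1) hp.1) ((hMmem _).2 (by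
        rw [show g⁻¹ * (p'.1⁻¹ * p.1) * g = g⁻¹ * p'.1⁻¹ * (p.1 * g * p.2) * p.2⁻¹ by group, e',
          show g⁻¹ * p'.1⁻¹ * (p'.1 * g * p'.2) * p.2⁻¹ = p'.2 * p.2⁻¹ by group]
        exact N.mul_mem hp'.2 (N.inv_mem hp.2)))
      have e1 := (inv_mul_eq_one.1 h1).symm
      rw [e1] at e'
      exact Prod.ext e1 (mul_left_cancel e')
    have hScard : S.card = D.q * (D.q * D.v) := by
      rw [hS, Finset.card_image_of_injOn hinjS, Finset.card_product, ← Fintype.card_subtype,
        ← Fintype.card_subtype, ← Nat.card_eq_fintype_card, ← Nat.card_eq_fintype_card, hQc, hNc]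
    have hSsub : S ⊆ Finset.univ.filter fun c : G => c ∉ N := by
      intro c hc
      obtain ⟨p, hp, rfl⟩ := Finset.mem_image.1 hc
      simp only [Finset.mem_product, Finset.mem_filter, Finset.mem_univ, true_and] at hp ⊢
      intro hmem
      refine hg ?_
      have := N.mul_mem (N.mul_mem (N.inv_mem (hQN hp.1)) hmem) (N.inv_mem hp.2)
      rwa [show p.1⁻¹ * (p.1 * g * p.2) * p.2⁻¹ = g by group] at this
    have hcomp : (Finset.univ.filter fun c : G => c ∉ N).card = D.q * (D.q * D.v) := by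
      have h1 := Finset.card_filter_add_card_filter_not (s := (Finset.univ : Finset G)) (p := fun c => c ∈ N)
      rw [← Fintype.card_subtype, Finset.card_univ, ← Nat.card_eq_fintype_card,
        ← Nat.card_eq_fintype_card, hNc, hkfact, ← he, add_mul, one_mul] at h1
      omega
    have heq := Finset.eq_of_subset_of_card_le hSsub (by rw [hcomp, hScard])
    intro c hc
    have : c ∈ S := by rw [heq]; simpa using hc
    obtain ⟨p, hp, rfl⟩ := Finset.mem_image.1 this
    simp only [Finset.mem_product, Finset.mem_filter, Finset.mem_univ, true_and] at hp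
    exact ⟨p.1, hp.1, by simpa [mul_assoc] using hp.2⟩
  have hfix : ∀ y ∈ E, y ≠ 1 → ∀ c : G, c⁻¹ * y * c ∈ N → c ∈ N ∨ g⁻¹ * c ∈ N := by
    intro y hy hy1 c hyc
    by_cases hcN : c ∈ N
    · exact Or.inl hcN
    obtain ⟨x, hx, hn⟩ := hcov c hcN
    have hxN := hQN hx
    have h1 : x⁻¹ * y * x ∈ E := by
      refine ⟨N.mul_mem (N.mul_mem (N.inv_mem hxN) hy.1) hxN, (hMmem _).2 ?_⟩
      have := N.mul_mem (N.mul_mem hn hyc) (N.inv_mem hn)
      rwa [show (x * g)⁻¹ * c * (c⁻¹ * y * c) * ((x * g)⁻¹ * c)⁻¹ = g⁻¹ * (x⁻¹ * y * x) * g by group] at this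
    have h2 : y⁻¹ * (x⁻¹ * y * x) ∈ Q ⊓ E := by
      refine ⟨?_, E.mul_mem (E.inv_mem hy) h1⟩
      have := Q.mul_mem ((Subgroup.mem_normalizer_iff.1 (N.inv_mem hy.1) _).1 (Q.inv_mem hx)) hx
      rwa [show y⁻¹ * x⁻¹ * y⁻¹⁻¹ * x = y⁻¹ * (x⁻¹ * y * x) by group] at this
    rw [hQE, Subgroup.mem_bot, inv_mul_eq_one] at h2
    have hxy : y ∈ Subgroup.centralizer ({x} : Set G) := by
      rw [Subgroup.mem_centralizer_singleton_iff]
      calc y * x = x * (x⁻¹ * y * x) := by group
        _ = x * y := by rw [← h2]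
    rcases eq_or_ne x 1 with rfl | hx1
    · exact Or.inr (by simpa using hn)
    · rw [qT_cent_eq H h hx hx1] at hxy
      have h3 : y ∈ Q ⊓ E := ⟨hxy, hy⟩
      rw [hQE, Subgroup.mem_bot] at h3
      exact absurd h3 hy1
  have hswap : ∀ n : G, g⁻¹ * n ∈ N → g⁻¹ * (n * g) ∈ N → False := by
    intro n h1 h2
    refine hg ?_
    have := N.mul_mem (N.inv_mem h1) h2
    rwa [show (g⁻¹ * n)⁻¹ * (g⁻¹ * (n * g)) = g by group] at this
  have hmemE : ∀ n : G, n ∈ N → (n * g ∈ N ∨ g⁻¹ * (n * g) ∈ N) → n ∈ E := by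
    intro n hn hor
    refine ⟨hn, (hMmem _).2 ?_⟩
    rcases hor with h1 | h1
    · have := N.mul_mem (N.inv_mem hn) h1
      rw [inv_mul_cancel_left] at this
      exact absurd this hg
    · rwa [mul_assoc]
  have hvodd := v_odd D H
  have hyv : ∀ y ∈ E, y ≠ 1 → VT D y := fun y hy hy1 =>
    ⟨hy1, hEc ▸ Subgroup.orderOf_dvd_natCard E hy⟩
  have hcent : ∀ y ∈ E, y ≠ 1 → Subgroup.centralizer ({y} : Set G) = E := by
    intro y hy hy1
    obtain ⟨hc, -⟩ := vT_centralizer H (hyv y hy hy1)
    refine Subgroup.eq_of_le_of_card_ge (fun c hc' => ?_) (by rw [hc, hEc])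
    have hodd : Odd (orderOf c) := hvodd.of_dvd_nat (hc ▸ Subgroup.orderOf_dvd_natCard _ hc')
    rw [Subgroup.mem_centralizer_singleton_iff] at hc'
    have e1 : c⁻¹ * y * c = y := by rw [mul_assoc, ← hc', inv_mul_cancel_left]
    have f1 := hfix y hy hy1 c (by rw [e1]; exact hy.1)
    have f2 := hfix y hy hy1 (c * g) (by
      rw [show (c * g)⁻¹ * y * (c * g) = g⁻¹ * (c⁻¹ * y * c) * g by group, e1]
      exact (hMmem y).1 hy.2)
    rcases f1 with f1 | f1
    · exact hmemE c f1 f2
    · rcases f2 with f2 | f2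
      · have hc2 : c * c ∈ N := by
          have := N.mul_mem f2 f1
          rwa [show c * g * (g⁻¹ * c) = c * c by group] at this
        exact hmemE c (mem_of_sq_mem hodd hc2) (Or.inl f2)
      · exact (hswap c f1 f2).elim
  refine ⟨Q, E, ?_, fun x hx hx1 => qT_cent_eq H h hx hx1, ?_, by rw [hEc, hQc, hqv], hQE, hNE,
    fun X hX hX1 => ?_⟩
  · rw [hQc]; exact two_card H D
  · intro a ha b hb
    rcases eq_or_ne b 1 with rfl | hb1
    · simp
    rw [← hcent b hb hb1] at ha
    exact Subgroup.mem_centralizer_singleton_iff.1 ha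
  · obtain ⟨⟨y, hyX⟩, hy1'⟩ := X.ne_bot_iff_exists_ne_one.1 hX1
    have hy1 : y ≠ 1 := fun e => hy1' (Subtype.ext e)
    have hy := hX hyX
    obtain ⟨hc, -⟩ := vT_centralizer H (hyv y hy hy1)
    obtain ⟨⟨u, hu, -, hui⟩, -⟩ := inverted_of_eq H hy1 (vT_not_kType H (hyv y hy hy1))
      (by rw [pairCount_vT H (hyv y hy hy1), hc])
    rw [hcent y hy hy1] at hui
    have hu1 : ∀ S : Subgroup G, Odd (Nat.card S) → u ∉ S := fun S hS hmem =>
      Nat.not_even_iff_odd.2 hS (even_iff_two_dvd.2 (hu ▸ Subgroup.orderOf_dvd_natCard S hmem))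
    have huE : u ∉ E := hu1 E (hEc ▸ hvodd)
    have huN : u ∉ N := hu1 N (hNc ▸ Odd.mul ⟨D.v, hqv.symm⟩ hvodd)
    have hgen : ∀ S : Subgroup G, S ≤ E → ∀ n ∈ E ⊔ Subgroup.zpowers u,
        n ∈ Subgroup.normalizer (S : Set G) := by
      intro S hS n hn
      refine (sup_le ?_ ?_ : E ⊔ Subgroup.zpowers u ≤ Subgroup.normalizer (S : Set G)) hn
      · intro d hd
        refine Subgroup.mem_normalizer_fintype fun a ha => ?_
        have : d * a * d⁻¹ = a := by
          rcases eq_or_ne a 1 with rfl | ha1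
          · simp
          have hd' : d ∈ Subgroup.centralizer ({a} : Set G) := (hcent a (hS ha) ha1).symm ▸ hd
          rw [Subgroup.mem_centralizer_singleton_iff.1 hd', mul_inv_cancel_right]
        rw [this]
        exact ha
      · refine Subgroup.zpowers_le.2 (Subgroup.mem_normalizer_fintype fun a ha => ?_)
        rw [hui a (hS ha)]
        exact S.inv_mem ha
    have hfixn : ∀ n ∈ Subgroup.normalizer (E : Set G), (n ∈ N ∨ g⁻¹ * n ∈ N) ∧
        (n * g ∈ N ∨ g⁻¹ * (n * g) ∈ N) := by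
      intro n hn
      have h1 : n⁻¹ * y * n ∈ E := (Subgroup.mem_normalizer_iff''.1 hn y).1 hy
      refine ⟨hfix y hy hy1 n h1.1, hfix y hy hy1 (n * g) ?_⟩
      rw [show (n * g)⁻¹ * y * (n * g) = g⁻¹ * (n⁻¹ * y * n) * g by group]
      exact (hMmem _).1 h1.2
    have hND : Subgroup.normalizer (E : Set G) = E ⊔ Subgroup.zpowers u := by
      refine le_antisymm (fun n hn => ?_) fun n hn => hgen E le_rfl n hn
      obtain ⟨-, u2⟩ := hfixn u (hgen E le_rfl u (Subgroup.mem_sup_right (Subgroup.mem_zpowers u)))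
      have hu0 := ((hfixn u (hgen E le_rfl u (Subgroup.mem_sup_right (Subgroup.mem_zpowers u)))).1).resolve_left huN
      have hug : u * g ∈ N := u2.resolve_right fun e => hswap u hu0 e
      obtain ⟨n1, n2⟩ := hfixn n hn
      rcases n1 with n1 | n1
      · exact Subgroup.mem_sup_left (hmemE n n1 n2)
      · have hun : u * n ∈ N := by
          have := N.mul_mem hug n1
          rwa [show u * g * (g⁻¹ * n) = u * n by group] at this
        have hunn : u * n ∈ Subgroup.normalizer (E : Set G) :=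
          Subgroup.mul_mem _ (hgen E le_rfl u (Subgroup.mem_sup_right (Subgroup.mem_zpowers u))) hn
        have hunE := hmemE _ hun (hfixn _ hunn).2
        rw [show n = u * (u * n) by rw [← mul_assoc, sq_eq_one_of_order_two hu, one_mul]]
        exact Subgroup.mul_mem _ (Subgroup.mem_sup_right (Subgroup.mem_zpowers u)) (Subgroup.mem_sup_left hunE)
    refine ⟨le_antisymm (fun n hn => ?_) (hND ▸ fun n hn => hgen X hX n hn), u, hu, huE, hui, hND⟩
    refine Subgroup.mem_normalizer_fintype fun a ha => ?_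
    have hy' : n * y * n⁻¹ ∈ X := (Subgroup.mem_normalizer_iff.1 hn y).1 hyX
    rw [SetLike.mem_coe, ← hcent _ (hX hy') fun e => hy1 (conj_eq_one_iff.1 e)]
    rw [SetLike.mem_coe, ← hcent y hy hy1] at ha
    exact conj_cent' y n ha

theorem concl (H : Hyp t s K) : Concl G := by
  classical
  have := Fintype.ofFinite K
  obtain ⟨D⟩ := dat_exists H
  have hq := q_pos D H
  obtain ⟨z, hz⟩ : (Finset.univ.filter fun z : G => QT D z).Nonempty := by
    rw [← Finset.card_pos]
    have hQT := card_qT (D := D) H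
    zify
    rw [hQT]
    nlinarith
  have hz' := (Finset.mem_filter.1 hz).2
  rcases D.cases' with ⟨he, -⟩ | ⟨he, -⟩
  · exact concl_plus H he hz'
  · exact concl_minus H he hz'

end Cfsg.Agent.BSWAbstract
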