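import Cfsg.Agent.BSWAbstract.MinusPairs

/-!
# The case `q ≡ 3 (mod 4)`: the centralizers are abelian
-/

set_option maxHeartbeats 800000

namespace Cfsg.Agent.BSWAbstract

open scoped ComplexConjugate
open Cfsg.Agent.Char

universe u

variable {G : Type u} [Group G] [Fintype G] {t s : G} {K : Subgroup G} {D : Dat t K}

/-- Non-identity elements of a centralizer in the class of QT elements are of that type. -/
theorem qT_of_mem (H : Hyp t s K) {z x : G} (h : QT D z)
    (hx : x ∈ Subgroup.centralizer ({z} : Set G)) (hx1 : x ≠ 1) : QT D x :=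
  ⟨hx1, (Subgroup.orderOf_dvd_natCard _ hx).trans (qT_centralizer_dvd H h)⟩

theorem qT_cent_minus (H : Hyp t s K) (he : D.q + 1 = 2 * Nat.card K) {z x : G} (hz : QT D z)
    (hx : x ∈ Subgroup.centralizer ({z} : Set G)) (hx1 : x ≠ 1) :
    Subgroup.centralizer ({x} : Set G) = Subgroup.centralizer ({z} : Set G) := by
  classical
  set Q := Subgroup.centralizer ({z} : Set G) with hQ
  have hxq := qT_of_mem H hz hx hx1
  obtain ⟨hQc, -⟩ := qT_minus H he hz
  obtain ⟨hCx, -, hcl, -⟩ := qT_minus H he hxq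
  rw [← hQ] at hQc
  set J := Q ⊓ Subgroup.centralizer ({x} : Set G) with hJ
  -- the three numbers
  have hpp := pairCount_minus H he hxq (a := x) (b := x) (Or.inl ⟨rfl, rfl⟩)
  have hpm := pairCount_minus H he hxq (a := x) (b := x⁻¹) (Or.inr (Or.inl ⟨rfl, rfl⟩))
  set U := Finset.univ.filter fun u : G => IsConj x u ∧ IsConj x (u⁻¹ * x) with hU
  set V := Finset.univ.filter fun u : G => IsConj x u ∧ IsConj x⁻¹ (u⁻¹ * x) with hV
  have hUc : 2 * U.card + 2 = Nat.card K := hpp
  have hVc : 2 * V.card + 2 = Nat.card K := hpm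
  -- half of a subgroup containing `x`
  have half : ∀ L : Subgroup G, (∀ u ∈ L, u ≠ 1 → QT D u) → x ∈ L →
      2 * (Finset.univ.filter fun u : G => u ∈ L ∧ IsConj x u).card + 1 = Nat.card L := by
    intro L hL hxL
    set A := Finset.univ.filter fun u : G => u ∈ L ∧ IsConj x u with hA
    set A' := Finset.univ.filter fun u : G => u ∈ L ∧ IsConj x⁻¹ u with hA'
    have hAA : A'.card = A.card := by
      refine Finset.card_equiv (Equiv.inv G) fun u => ?_
      simp only [hA, hA', Finset.mem_filter, Finset.mem_univ, true_and, Equiv.inv_apply, inv_mem_iff]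
      refine and_congr_right fun _ => ⟨fun e => ?_, fun e => ?_⟩ <;>
        obtain ⟨c, hc⟩ := isConj_iff.1 e <;> refine isConj_iff.2 ⟨c, ?_⟩
      · rw [← hc]; group
      · rw [show u = (u⁻¹)⁻¹ by group, ← hc]; group
    have hsplit : (Finset.univ.filter fun u : G => u ∈ L) = insert 1 (A ∪ A') := by
      ext u
      simp only [hA, hA', Finset.mem_filter, Finset.mem_univ, true_and, Finset.mem_insert, Finset.mem_union]
      refine ⟨fun hu => ?_, ?_⟩
      · by_cases h1 : u = 1
        · exact Or.inl h1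
        exact Or.inr ((hcl u (hL u hu h1)).imp (fun e => ⟨hu, e⟩) fun e => ⟨hu, e⟩)
      · rintro (rfl | h | h)
        exacts [L.one_mem, h.1, h.1]
    have h1n : (1 : G) ∉ A ∪ A' := by
      simp only [hA, hA', Finset.mem_union, Finset.mem_filter, Finset.mem_univ, true_and, not_or]
      refine ⟨fun h => hx1 ?_, fun h => hx1 ?_⟩
      · exact isConj_one_left.1 h.2
      · exact inv_eq_one.1 (isConj_one_left.1 h.2)
    have hd : Disjoint A A' := Finset.disjoint_left.2 fun u h1 h2 => not_conj_inv H he hxq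
      ((Finset.mem_filter.1 h1).2.2.trans (Finset.mem_filter.1 h2).2.2.symm)
    rw [Nat.card_eq_fintype_card (α := L), Fintype.card_subtype, hsplit,
      Finset.card_insert_of_notMem h1n, Finset.card_union_of_disjoint hd, hAA]
    omega
  -- all pairs lie in `Q`
  have hUQ : ∀ u ∈ U, u ∈ Q := by
    set A := Finset.univ.filter fun u : G => u ∈ Q ∧ IsConj x u with hA
    have hsub : A.erase x ⊆ (U.filter fun u => u ∈ Q) ∪ V := by
      intro u hu
      obtain ⟨hux, hu⟩ := Finset.mem_erase.1 hu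
      obtain ⟨huQ, hc⟩ := (Finset.mem_filter.1 hu).2
      have h1 : u⁻¹ * x ≠ 1 := fun e => hux (inv_mul_eq_one.1 e)
      rcases hcl _ (qT_of_mem H hz (Q.mul_mem (Q.inv_mem huQ) hx) h1) with e | e
      · exact Finset.mem_union_left _ (Finset.mem_filter.2
          ⟨Finset.mem_filter.2 ⟨Finset.mem_univ _, hc, e⟩, huQ⟩)
      · exact Finset.mem_union_right _ (Finset.mem_filter.2 ⟨Finset.mem_univ _, hc, e⟩)
    have h1 := Finset.card_le_card hsub
    rw [Finset.card_erase_of_mem (show x ∈ A from Finset.mem_filter.2 ⟨Finset.mem_univ _, hx, IsConj.refl x⟩)] at h1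
    have h2 := Finset.card_union_le (U.filter fun u => u ∈ Q) V
    have h3 := half Q (fun u hu => qT_of_mem H hz hu) hx
    rw [← hA, hQc] at h3
    have h4 : (U.filter fun u => u ∈ Q).card = U.card :=
      le_antisymm (Finset.card_filter_le _ _) (by omega)
    intro u hu
    exact (Finset.mem_filter.1 ((Finset.eq_of_subset_of_card_le (Finset.filter_subset _ U) h4.ge).symm ▸ hu)).2
  -- and also in the centralizer of `x`
  have hUC : ∀ u ∈ U, u ∈ Subgroup.centralizer ({x} : Set G) := by
    have hxx : x ∈ Subgroup.centralizer ({x} : Set G) := Subgroup.mem_centralizer_singleton_iff.2 rfl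
    set Cx := Subgroup.centralizer ({x} : Set G) with hCxdef
    set A := Finset.univ.filter fun u : G => u ∈ Cx ∧ IsConj x u with hA
    have hsub : A.erase x ⊆ (U.filter fun u => u ∈ Cx) ∪ V := by
      intro u hu
      obtain ⟨hux, hu⟩ := Finset.mem_erase.1 hu
      obtain ⟨huQ, hc⟩ := (Finset.mem_filter.1 hu).2
      have h1 : u⁻¹ * x ≠ 1 := fun e => hux (inv_mul_eq_one.1 e)
      rcases hcl _ (qT_of_mem H hxq (Cx.mul_mem (Cx.inv_mem huQ) hxx) h1) with e | e
      · exact Finset.mem_union_left _ (Finset.mem_filter.2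
          ⟨Finset.mem_filter.2 ⟨Finset.mem_univ _, hc, e⟩, huQ⟩)
      · exact Finset.mem_union_right _ (Finset.mem_filter.2 ⟨Finset.mem_univ _, hc, e⟩)
    have hAc : 2 * A.card + 1 = D.q := hCx ▸ half Cx (fun u hu => qT_of_mem H hxq hu) hxx
    have h1 := Finset.card_le_card hsub
    rw [Finset.card_erase_of_mem (show x ∈ A from Finset.mem_filter.2 ⟨Finset.mem_univ _, hxx, IsConj.refl x⟩)] at h1
    have h2 := Finset.card_union_le (U.filter fun u => u ∈ Cx) V
    have h4 : (U.filter fun u => u ∈ Cx).card = U.card :=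
      le_antisymm (Finset.card_filter_le _ _) (by omega)
    intro u hu
    exact (Finset.mem_filter.1 ((Finset.eq_of_subset_of_card_le (Finset.filter_subset _ U) h4.ge).symm ▸ hu)).2
  have hxJ : x ∈ J := ⟨hx, Subgroup.mem_centralizer_singleton_iff.2 rfl⟩
  have hJc := half J (fun u hu => qT_of_mem H hz hu.1) hxJ
  have hge : U.card + 1 ≤ (Finset.univ.filter fun u : G => u ∈ J ∧ IsConj x u).card := by
    have hxU : x ∉ U := fun h => by
      obtain ⟨-, -, h2⟩ := Finset.mem_filter.1 h
      rw [inv_mul_cancel] at h2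
      exact hx1 (isConj_one_left.1 h2)
    rw [← Finset.card_insert_of_notMem hxU]
    refine Finset.card_le_card fun u hu => Finset.mem_filter.2 ⟨Finset.mem_univ _, ?_⟩
    rcases Finset.mem_insert.1 hu with rfl | h
    · exact ⟨hxJ, IsConj.refl _⟩
    · exact ⟨⟨hUQ u h, hUC u h⟩, (Finset.mem_filter.1 h).2.1⟩
  obtain ⟨i, hi⟩ := Subgroup.card_dvd_of_le (inf_le_left : J ≤ Q)
  rw [hQc] at hi
  have hi1 : i = 1 := by
    have hqodd : Odd D.q := ⟨Nat.card K - 1, by have := (Nat.card_pos : 0 < Nat.card K); omega⟩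
    have hiodd : Odd i := (Nat.odd_mul.1 (hi ▸ hqodd)).2
    obtain ⟨j, rfl⟩ := hiodd
    rcases j with _ | j
    · omega
    · have : Nat.card J * 3 ≤ D.q := le_of_le_of_eq (Nat.mul_le_mul_left _ (by omega)) hi.symm
      omega
  rw [hi1, mul_one] at hi
  have hJQ : J = Q := Subgroup.eq_of_le_of_card_ge inf_le_left (le_of_eq (hQc.trans hi))
  exact (Subgroup.eq_of_le_of_card_ge (hJQ ▸ inf_le_right : Q ≤ Subgroup.centralizer ({x} : Set G))
    (by rw [hQc, hCx])).symm

theorem qT_centralizer_minus (H : Hyp t s K) (he : D.q + 1 = 2 * Nat.card K) {z : G} (h : QT D z) :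
    Nat.card (Subgroup.centralizer ({z} : Set G)) = D.q ∧
    ∀ a ∈ Subgroup.centralizer ({z} : Set G), ∀ b ∈ Subgroup.centralizer ({z} : Set G),
      a * b = b * a := by
  refine ⟨(qT_minus H he h).1, fun a ha b hb => ?_⟩
  rcases eq_or_ne b 1 with rfl | hb1
  · simp
  rw [← qT_cent_minus H he h hb hb1] at ha
  exact Subgroup.mem_centralizer_singleton_iff.1 ha

end Cfsg.Agent.BSWAbstract
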