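import Cfsg.Agent.BSWAbstract.Counting

/-!
# The case `q ≡ 3 (mod 4)`: the two classes and their character values
-/

set_option maxHeartbeats 800000

namespace Cfsg.Agent.BSWAbstract

open scoped ComplexConjugate
open Cfsg.Agent.Char

universe u

variable {G : Type u} [Group G] [Fintype G] {t s : G} {K : Subgroup G} {D : Dat t K}

theorem minus_params (he : D.q + 1 = 2 * Nat.card K) :
    (D.v : ℤ) = (Nat.card K : ℤ) - 1 ∧ D.A = -(D.q : ℤ) ∧ D.C = (D.v : ℤ) := by
  rcases D.cases' with ⟨h, -⟩ | ⟨-, hv, hA, hC⟩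
  · omega
  · exact ⟨by omega, hA, hC⟩

theorem not_conj_inv (H : Hyp t s K) (he : D.q + 1 = 2 * Nat.card K) {z : G} (h : QT D z) :
    ¬ IsConj z z⁻¹ := by
  classical
  intro hc
  obtain ⟨g, hg⟩ := isConj_iff.1 hc
  have hz := qT_not_kType h
  have hF := ((pairCount_qT H h).resolve_left fun e => by omega).2
  rw [pairCount_eq_inverters H h.1 hz] at hF
  have hodd : ∀ j : ℕ, g ^ (2 * j) * z * (g ^ (2 * j))⁻¹ = z ∧
      g ^ (2 * j + 1) * z * (g ^ (2 * j + 1))⁻¹ = z⁻¹ := by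
    have hg2 : ∀ y : G, y = z⁻¹ → g * y * g⁻¹ = z := fun y hy => by
      rw [hy, show g * z⁻¹ * g⁻¹ = (g * z * g⁻¹)⁻¹ by group, hg, inv_inv]
    intro j
    induction j with
    | zero => simp [hg]
    | succ j ih =>
      have e1 : g ^ (2 * (j + 1)) * z * (g ^ (2 * (j + 1)))⁻¹ = z := by
        rw [show g ^ (2 * (j + 1)) * z * (g ^ (2 * (j + 1)))⁻¹ =
          g * (g ^ (2 * j + 1) * z * (g ^ (2 * j + 1))⁻¹) * g⁻¹ by
            rw [show 2 * (j + 1) = (2 * j + 1) + 1 by ring, pow_succ']; group]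
        exact hg2 _ ih.2
      refine ⟨e1, ?_⟩
      rw [show g ^ (2 * (j + 1) + 1) * z * (g ^ (2 * (j + 1) + 1))⁻¹ =
        g * (g ^ (2 * (j + 1)) * z * (g ^ (2 * (j + 1)))⁻¹) * g⁻¹ by rw [pow_succ']; group, e1, hg]
  -- the `2`-part of `g`
  obtain ⟨i, r, hr, hgr⟩ := Nat.exists_eq_two_pow_mul_odd (orderOf_pos g).ne'
  obtain ⟨j, hj⟩ := hr
  set w := g ^ r with hw
  have hwz : w * z * w⁻¹ = z⁻¹ := by rw [hw, hj]; exact (hodd j).2
  have hwo : orderOf w = 2 ^ i := by
    rw [hw, orderOf_pow, hgr, Nat.gcd_eq_right (dvd_mul_left r _),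
      Nat.mul_div_cancel _ (by omega)]
  match i with
  | 0 =>
    rw [pow_zero, orderOf_eq_one_iff] at hwo
    rw [hwo, one_mul, inv_one, mul_one, eq_inv_iff_mul_eq_one] at hwz
    exact mul_self_ne_one H h.1 hz hwz
  | 1 =>
    rw [Finset.card_eq_zero] at hF
    exact Finset.eq_empty_iff_forall_notMem.1 hF w
      (Finset.mem_filter.2 ⟨Finset.mem_univ _, by simpa using hwo, hwz⟩)
  | i + 2 =>
    have hinv : orderOf (w ^ (2 ^ (i + 1))) = 2 := by
      rw [orderOf_pow, hwo, Nat.gcd_eq_right (pow_dvd_pow 2 (by omega)),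
        Nat.pow_div (by omega) two_pos, show i + 2 - (i + 1) = 1 by omega, pow_one]
    have hmem : w ^ (2 ^ (i + 1)) ∈ Subgroup.centralizer ({z} : Set G) := by
      rw [Subgroup.mem_centralizer_singleton_iff, hw, ← pow_mul,
        show r * 2 ^ (i + 1) = 2 * (r * 2 ^ i) by ring]
      have := (hodd (r * 2 ^ i)).1
      exact mul_inv_eq_iff_eq_mul.1 this
    have h2 := (Subgroup.orderOf_dvd_natCard _ hmem).trans (centralizer_dvd_qv (D := D) H h.1 hz)
    rw [hinv] at h2
    rcases (Nat.Prime.dvd_mul Nat.prime_two).1 h2 with h3 | h3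
    · have := Nat.eq_one_of_dvd_coprimes (q_coprime_K D) h3 (dvd_mul_right _ _)
      omega
    · have := Nat.eq_one_of_dvd_coprimes (v_coprime_K D H) h3 (dvd_mul_right _ _)
      omega

theorem card_isConj_filter (z : G)
    [DecidablePred (IsConj z)] :
    (Finset.univ.filter (IsConj z)).card = (Subgroup.centralizer ({z} : Set G)).index := by
  rw [← card_isConj_eq_index, Nat.card_eq_fintype_card, Fintype.card_subtype]

open scoped Classical in
theorem qT_minus (H : Hyp t s K) (he : D.q + 1 = 2 * Nat.card K) {z : G} (h : QT D z) :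
    Nat.card (Subgroup.centralizer ({z} : Set G)) = D.q ∧
    2 * (Subgroup.centralizer ({z} : Set G)).index + 1 = D.q ^ 2 ∧
    (∀ y : G, QT D y → IsConj z y ∨ IsConj z⁻¹ y) ∧
    Nat.card (Subgroup.centralizer ({z⁻¹} : Set G)) = D.q := by
  have hCinv : Subgroup.centralizer ({z⁻¹} : Set G) = Subgroup.centralizer ({z} : Set G) := by
    ext c
    simp only [Subgroup.mem_centralizer_singleton_iff]
    exact ⟨fun e => (Commute.inv_right_iff.1 (show Commute c z⁻¹ from e)),
      fun e => (show Commute c z from e).inv_right⟩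
  set n := (Subgroup.centralizer ({z} : Set G)).index with hn
  set Cl := Finset.univ.filter (IsConj z) with hCl
  set Cl' := Finset.univ.filter (IsConj z⁻¹) with hCl'
  have hc1 : Cl.card = n := card_isConj_filter z
  have hc2 : Cl'.card = n := by rw [hCl', card_isConj_filter, hCinv]
  have hdisj : Disjoint Cl Cl' := Finset.disjoint_left.2 fun y h1 h2 => not_conj_inv H he h
    ((Finset.mem_filter.1 h1).2.trans (Finset.mem_filter.1 h2).2.symm)
  have hsub : Cl ∪ Cl' ⊆ Finset.univ.filter fun y : G => QT D y := by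
    intro y hy
    refine Finset.mem_filter.2 ⟨Finset.mem_univ _, ?_⟩
    rcases Finset.mem_union.1 hy with h1 | h1
    · exact qT_of_conj h (Finset.mem_filter.1 h1).2
    · exact qT_of_conj (qT_inv h) (Finset.mem_filter.1 h1).2
  have hle := Finset.card_le_card hsub
  rw [Finset.card_union_of_disjoint hdisj, hc1, hc2] at hle
  have hQ := card_qT (D := D) H
  zify at hle
  rw [hQ] at hle
  obtain ⟨c, hc⟩ := qT_centralizer_dvd H h
  set o := Nat.card (Subgroup.centralizer ({z} : Set G)) with ho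
  have hmul : o * n = 2 * Nat.card K * D.q * D.v := by
    rw [ho, hn, Subgroup.card_mul_index, D.card]
  have hv := (minus_params he).1
  have hn' : (n : ℤ) * 2 = (c : ℤ) * ((D.q : ℤ) ^ 2 - 1) := by
    have ho0 : (o : ℤ) ≠ 0 := Int.natCast_ne_zero.2 Nat.card_pos.ne'
    refine mul_left_cancel₀ ho0 ?_
    zify at hmul he hc
    have hq2 : (D.q : ℤ) = 2 * (Nat.card K : ℤ) - 1 := by linarith
    rw [hv, hq2] at hmul
    rw [hq2] at hc ⊢
    linear_combination 2 * hmul + ((2 * (Nat.card K : ℤ) - 1) ^ 2 - 1) * hc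
  have hq1 := q_pos D H
  have hc0 : c = 1 := by
    have hc' : (1 : ℤ) ≤ c := by
      rcases Nat.eq_zero_or_pos c with e | e
      · rw [e, mul_zero] at hc; omega
      · exact_mod_cast e
    have hpos : (0 : ℤ) < (D.q : ℤ) ^ 2 - 1 := by nlinarith
    have : (c : ℤ) ≤ 1 := le_of_mul_le_mul_right (a := (D.q : ℤ) ^ 2 - 1) (by linarith) hpos
    omega
  rw [hc0, mul_one] at hc
  rw [hc0, Nat.cast_one, one_mul] at hn'
  refine ⟨hc.symm, by zify; linarith, fun y hy => ?_, by rw [hCinv]; exact hc.symm⟩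
  have heq : Cl ∪ Cl' = Finset.univ.filter fun y : G => QT D y := by
    refine Finset.eq_of_subset_of_card_le hsub ?_
    rw [Finset.card_union_of_disjoint hdisj, hc1, hc2]
    zify
    linarith
  have := heq.symm ▸ (Finset.mem_filter.2 ⟨Finset.mem_univ y, hy⟩ :
    y ∈ Finset.univ.filter fun y : G => QT D y)
  rcases Finset.mem_union.1 this with h1 | h1
  · exact Or.inl (Finset.mem_filter.1 h1).2
  · exact Or.inr (Finset.mem_filter.1 h1).2

/-- The two values of the exceptional characters. -/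
theorem qT_values (H : Hyp t s K) (he : D.q + 1 = 2 * Nat.card K) {z : G} (h : QT D z) :
    (D.e₁ : ℂ) * (D.c₁ : G → ℂ) z + (D.e₂ : ℂ) * (D.c₂ : G → ℂ) z = -1 ∧
    (D.e₁ : ℂ) * (D.c₁ : G → ℂ) z + conj ((D.e₁ : ℂ) * (D.c₁ : G → ℂ) z) = -1 ∧
    4 * ((D.e₁ : ℂ) * (D.c₁ : G → ℂ) z * conj ((D.e₁ : ℂ) * (D.c₁ : G → ℂ) z)) = (D.q : ℂ) + 1 := by
  classical
  obtain ⟨-, hidx, hcl, -⟩ := qT_minus H he h
  set n := (Subgroup.centralizer ({z} : Set G)).index with hn
  have hz := qT_not_kType h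
  set w := (D.e₁ : ℂ) * (D.c₁ : G → ℂ) z with hw
  have h0 := D.offC z h.1 hz
  rw [qT_a_zero h, mul_zero, zero_add] at h0
  refine ⟨h0, ?_⟩
  set ψ : G → ℂ := (D.e₁ : ℂ) • (D.c₁ : G → ℂ) - (D.e₂ : ℂ) • (D.c₂ : G → ℂ) with hψ
  have hψc : ∀ g y : G, IsConj g y → ψ g = ψ y := fun g y e => by
    simp [hψ, classFun_isConj (isClassFunction_of_isIrr D.c₁.2) e,
      classFun_isConj (isClassFunction_of_isIrr D.c₂.2) e]
  have hψ0 : ∀ g : G, ¬ QT D g → ψ g = 0 := by
    intro g hg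
    simp only [hψ, Pi.sub_apply, Pi.smul_apply, smul_eq_mul]
    rcases eq_or_ne g 1 with rfl | hg1
    · rw [← D.deg₁, ← D.deg₂, sub_self]
    by_cases hK : KType K g
    · obtain ⟨x, k, hk, hk1, rfl⟩ := hK
      rw [isClassFunction_of_isIrr D.c₁.2, isClassFunction_of_isIrr D.c₂.2, D.onC k hk hk1, sub_self]
    · obtain ⟨e1, e2⟩ := vT_c_zero H ((qT_or_vT H hg1 hK).resolve_left hg)
      rw [e1, e2, mul_zero, mul_zero, sub_self]
  have hsum : ∀ χ : IrrCharacter G,
      ∑ g : G, ψ g * conj ((χ : G → ℂ) g) =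
        (n : ℂ) * (ψ z * conj ((χ : G → ℂ) z) + ψ z⁻¹ * conj ((χ : G → ℂ) z⁻¹)) := by
    intro χ
    have hdisj : Disjoint (Finset.univ.filter (IsConj z)) (Finset.univ.filter (IsConj z⁻¹)) :=
      Finset.disjoint_left.2 fun y h1 h2 => not_conj_inv H he h
        ((Finset.mem_filter.1 h1).2.trans (Finset.mem_filter.1 h2).2.symm)
    rw [← Finset.sum_subset (Finset.subset_univ
      (Finset.univ.filter (IsConj z) ∪ Finset.univ.filter (IsConj z⁻¹))) fun g _ hg => by
        rw [hψ0 g fun hQ => hg ?_, zero_mul]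
        rcases hcl g hQ with e | e
        · exact Finset.mem_union_left _ (Finset.mem_filter.2 ⟨Finset.mem_univ _, e⟩)
        · exact Finset.mem_union_right _ (Finset.mem_filter.2 ⟨Finset.mem_univ _, e⟩),
      Finset.sum_union hdisj,
      Finset.sum_congr rfl (g := fun _ => ψ z * conj ((χ : G → ℂ) z)) fun g hg => by
        rw [hψc z g (Finset.mem_filter.1 hg).2,
          classFun_isConj (isClassFunction_of_isIrr χ.2) (Finset.mem_filter.1 hg).2],
      Finset.sum_congr rfl (s₁ := Finset.univ.filter (IsConj z⁻¹))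
        (g := fun _ => ψ z⁻¹ * conj ((χ : G → ℂ) z⁻¹)) fun g hg => by
        rw [hψc z⁻¹ g (Finset.mem_filter.1 hg).2,
          classFun_isConj (isClassFunction_of_isIrr χ.2) (Finset.mem_filter.1 hg).2],
      Finset.sum_const, Finset.sum_const, card_isConj_filter, card_isConj_filter]
    have hCinv : (Subgroup.centralizer ({z⁻¹} : Set G)).index = n := by
      rw [hn]
      congr 1
      ext c
      simp only [Subgroup.mem_centralizer_singleton_iff]
      exact ⟨fun e => (Commute.inv_right_iff.1 (show Commute c z⁻¹ from e)),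
        fun e => (show Commute c z from e).inv_right⟩
    rw [hCinv, nsmul_eq_mul, nsmul_eq_mul, ← hn]
    ring
  have hcc : classInner ψ (D.c₁ : G → ℂ) = (D.e₁ : ℂ) ∧ classInner ψ (D.c₂ : G → ℂ) = -(D.e₂ : ℂ) := by
    simp [hψ, classInner_sub_left, classInner_smul_left, classInner_irrChar, D.h₁₂, Ne.symm D.h₁₂]
  have h1 := hcc.1
  have h2 := hcc.2
  unfold classInner at h1 h2
  rw [hsum, inv_mul_eq_iff_eq_mul₀ card_ne_zero] at h1 h2
  have hinv : ∀ χ : IrrCharacter G, (χ : G → ℂ) z⁻¹ = conj ((χ : G → ℂ) z) := fun χ =>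
    IsChar.inv_eq_conj (IsIrr.isCharacter χ.2) z
  simp only [hψ, Pi.sub_apply, Pi.smul_apply, smul_eq_mul, hinv, Complex.conj_conj] at h1 h2
  set x := (D.c₁ : G → ℂ) z with hx
  set y := (D.c₂ : G → ℂ) z with hy
  have hq : (D.q : ℂ) + 1 = 2 * (Nat.card K : ℂ) := by exact_mod_cast he
  have hG : (Nat.card G : ℂ) = (n : ℂ) * D.q := by
    obtain ⟨ho, -⟩ := qT_minus H he h
    rw [hn, ← ho]
    exact_mod_cast (by rw [mul_comm, Subgroup.card_mul_index] :
      Nat.card G = (Subgroup.centralizer ({z} : Set G)).index *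
        Nat.card (Subgroup.centralizer ({z} : Set G)))
  have hn0 : (n : ℂ) ≠ 0 := Nat.cast_ne_zero.2 Subgroup.index_ne_zero_of_finite
  rw [hG, mul_assoc] at h1 h2
  have h1' := mul_left_cancel₀ hn0 h1
  have h2' := mul_left_cancel₀ hn0 h2
  have s1 : (D.e₁ : ℂ) * D.e₁ = 1 := by rcases D.s₁ with e | e <;> simp [e]
  have s2 : (D.e₂ : ℂ) * D.e₂ = 1 := by rcases D.s₂ with e | e <;> simp [e]
  have hcw : conj w = (D.e₁ : ℂ) * conj x := by rw [hw, map_mul, map_intCast]
  have hcy : (D.e₂ : ℂ) * conj y = -1 - (D.e₁ : ℂ) * conj x := by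
    have := congrArg conj h0
    rw [map_add, map_mul, map_mul, map_intCast, map_intCast, map_neg, map_one] at this
    linear_combination this
  have hy' : (D.e₂ : ℂ) * y = -1 - (D.e₁ : ℂ) * x := by linear_combination h0
  rw [hcy, hy'] at h1' h2'
  rw [hcw]
  -- `a = (2w+1) conj w + conj (2w+1) w` and the same for the other character
  have i1 : (2 * w + 1) * ((D.e₁ : ℂ) * conj x) + (2 * ((D.e₁ : ℂ) * conj x) + 1) * w = D.q := by
    rw [hw]
    linear_combination (D.e₁ : ℂ) * h1' + (D.q : ℂ) * s1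
  have i2 : (2 * w + 1) * (-1 - (D.e₁ : ℂ) * conj x) + (2 * ((D.e₁ : ℂ) * conj x) + 1) * (-1 - w) =
      -(D.q : ℂ) := by
    rw [hw]
    linear_combination (D.e₂ : ℂ) * h2' + (-(D.q : ℂ)) * s2 -
      (2 * ((D.e₁ : ℂ) * x) + 1) * hcy - (2 * ((D.e₁ : ℂ) * conj x) + 1) * hy'
  constructor
  · linear_combination (-(1 : ℂ) / 2) * i2 - (1 / 2 : ℂ) * i1
  · linear_combination (3 / 2 : ℂ) * i1 + (1 / 2 : ℂ) * i2

end Cfsg.Agent.BSWAbstract
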