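import Cfsg.Agent.BSWAbstract.MinusClasses

/-!
# The case `q ≡ 3 (mod 4)`: products within the two classes
-/

set_option maxHeartbeats 800000

namespace Cfsg.Agent.BSWAbstract

open scoped ComplexConjugate
open Cfsg.Agent.Char

universe u

variable {G : Type u} [Group G] [Fintype G] {t s : G} {K : Subgroup G} {D : Dat t K}

open scoped Classical in
/-- The listed characters. -/
noncomputable def listed (D : Dat t K) : Finset (IrrCharacter G) :=
  insert (oneG G) (insert D.a (insert D.c₁ (insert D.c₂ D.B)))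

theorem sum_listed (D : Dat t K) (f : IrrCharacter G → ℂ) :
    ∑ χ ∈ listed D, f χ = f (oneG G) + f D.a + f D.c₁ + f D.c₂ + ∑ χ ∈ D.B, f χ := by
  classical
  rw [listed,
    Finset.sum_insert (by simp [D.ha.symm, D.h₁.symm, D.h₂.symm]; exact fun h => (D.hB _ h).1 rfl),
    Finset.sum_insert (by simp [D.ha₁, D.ha₂]; exact fun h => (D.hB _ h).2.1 rfl),
    Finset.sum_insert (by simp [D.h₁₂]; exact fun h => (D.hB _ h).2.2.1 rfl),
    Finset.sum_insert (fun h => (D.hB _ h).2.2.2 rfl)]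
  ring

theorem sum_split (D : Dat t K) [DecidableEq (IrrCharacter G)] (f : IrrCharacter G → ℂ) :
    ∑ χ : IrrCharacter G, f χ = ∑ χ ∈ Finset.univ \ listed D, f χ +
      (f (oneG G) + f D.a + f D.c₁ + f D.c₂ + ∑ χ ∈ D.B, f χ) := by
  rw [← sum_listed, Finset.sum_sdiff (Finset.subset_univ _)]

theorem oneG_apply (g : G) : ((oneG G : IrrCharacter G) : G → ℂ) g = 1 := rfl

/-- The unlisted characters are proportional to their degrees at the elements of the classes. -/
theorem rest_values (H : Hyp t s K) (he : D.q + 1 = 2 * Nat.card K) {z : G} (h : QT D z)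
    [DecidableEq (IrrCharacter G)] :
    (∀ χ ∈ Finset.univ \ listed D,
      (χ : G → ℂ) z * (2 * (Nat.card K : ℂ)) = (χ : G → ℂ) 1) ∧
    ∑ χ ∈ Finset.univ \ listed D, (χ : G → ℂ) 1 ^ 2 =
      2 * (Nat.card K : ℂ) ^ 2 * ((Nat.card K : ℂ) - 2) := by
  classical
  obtain ⟨hs, hre, hno⟩ := qT_values H he h
  set w := (D.e₁ : ℂ) * (D.c₁ : G → ℂ) z with hw
  set k := (Nat.card K : ℂ) with hk
  set R := Finset.univ \ listed D with hR
  obtain ⟨hvv, hA, hC⟩ := minus_params he
  have hq : (D.q : ℂ) = 2 * k - 1 := by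
    rw [eq_sub_iff_add_eq, hk]
    exact_mod_cast he
  have hv : (D.v : ℂ) = k - 1 := by
    rw [hk]
    exact_mod_cast hvv
  have hC' : (D.C : ℂ) = k - 1 := by rw [hC, Int.cast_natCast, hv]
  obtain ⟨hB, -, -⟩ := cast_cases H D
  have s1 : (D.e₁ : ℂ) * D.e₁ = 1 := by rcases D.s₁ with e | e <;> simp [e]
  have s2 : (D.e₂ : ℂ) * D.e₂ = 1 := by rcases D.s₂ with e | e <;> simp [e]
  set x := (D.c₂ : G → ℂ) z with hx
  have hz := qT_not_kType h
  have hbz : ∀ b ∈ D.B, (D.eb b : ℂ) * (b : G → ℂ) z = -1 := fun b hb => by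
    have := D.offB b hb z h.1 hz
    rwa [qT_a_zero h, mul_zero, zero_add] at this
  have ha1 : (D.a : G → ℂ) 1 ^ 2 = (D.q : ℂ) ^ 2 := by rw [D.dega]
  have hb1 : ∀ b ∈ D.B, (b : G → ℂ) 1 ^ 2 = 4 * (D.C : ℂ) ^ 2 := fun b hb => by
    have := D.degB b hb
    rcases D.sb b hb with e | e <;> rw [e] at this <;> push_cast at this
    · linear_combination (-((b : G → ℂ) 1) - 2 * (D.C : ℂ)) * this
    · linear_combination ((b : G → ℂ) 1 - 2 * (D.C : ℂ)) * this
  have hbb : ∀ b ∈ D.B, (b : G → ℂ) z * conj ((b : G → ℂ) z) = 1 := fun b hb => by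
    have h1 := hbz b hb
    rcases D.sb b hb with e | e <;> rw [e] at h1 <;> push_cast at h1
    · rw [one_mul] at h1
      simp [h1]
    · rw [show (b : G → ℂ) z = 1 by linear_combination -h1]
      simp
  have hb1z : ∀ b ∈ D.B, (b : G → ℂ) 1 * (b : G → ℂ) z = -2 * (D.C : ℂ) := fun b hb => by
    have h1 := hbz b hb
    have := D.degB b hb
    rcases D.sb b hb with e | e <;> rw [e] at h1 this <;> push_cast at h1 this
    · linear_combination (b : G → ℂ) 1 * h1 + this
    · linear_combination -(b : G → ℂ) 1 * h1 + this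
  have t1 : ∑ χ ∈ R, (χ : G → ℂ) 1 ^ 2 = 2 * k ^ 2 * (k - 2) := by
    have hh := sum_sq_degree (G := G)
    rw [sum_split D, oneG_apply, ha1, D.deg₁', D.deg₂', Finset.sum_congr rfl hb1, Finset.sum_const,
      nsmul_eq_mul, hB, hC', hq, hv, D.card] at hh
    push_cast at hh
    rw [hq, hv] at hh
    linear_combination hh
  refine ⟨?_, t1⟩
  have hcx : conj w = -1 - w := by linear_combination hre
  have hcw : (D.e₂ : ℂ) * x = -1 - w := by linear_combination hs
  have hcc : (D.e₂ : ℂ) * conj x = w := by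
    have := congrArg conj hcw
    rw [map_mul, map_intCast, map_sub, map_neg, map_one, hcx] at this
    linear_combination this
  have hcc1 : (D.e₁ : ℂ) * conj ((D.c₁ : G → ℂ) z) = -1 - w := by
    rw [← hcx, hw, map_mul, map_intCast]
  have t2 : ∑ χ ∈ R, (χ : G → ℂ) z * conj ((χ : G → ℂ) z) = k / 2 - 1 := by
    have hh := second_orthogonality z z
    rw [if_pos (IsConj.refl z), (qT_minus H he h).1, sum_split D, oneG_apply, qT_a_zero h,
      Finset.sum_congr rfl hbb, Finset.sum_const, nsmul_eq_mul, hB, map_one, map_zero] at hh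
    have e1 : (D.c₁ : G → ℂ) z * conj ((D.c₁ : G → ℂ) z) = w * (-1 - w) := by
      rw [← hcc1, hw]
      linear_combination (-((D.c₁ : G → ℂ) z) * conj ((D.c₁ : G → ℂ) z)) * s1
    have e2 : x * conj x = (-1 - w) * w := by
      calc x * conj x = ((D.e₂ : ℂ) * x) * ((D.e₂ : ℂ) * conj x) := by
            linear_combination (-(x * conj x)) * s2
        _ = _ := by rw [hcw, hcc]
    have e3 : 4 * (w * (-1 - w)) = (D.q : ℂ) + 1 := by rw [← hcx]; exact hno
    linear_combination hh - e1 - e2 - (1 / 2 : ℂ) * e3 + (1 / 2 : ℂ) * hq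
  have t3 : ∑ χ ∈ R, (χ : G → ℂ) 1 * (χ : G → ℂ) z = k * (k - 2) := by
    have hh := regular_eq_sum z
    rw [if_neg h.1, sum_split D, oneG_apply, oneG_apply, qT_a_zero h, Finset.sum_congr rfl hb1z,
      Finset.sum_const, nsmul_eq_mul, hB] at hh
    have e1 : (D.c₁ : G → ℂ) 1 * (D.c₁ : G → ℂ) z = (D.C : ℂ) * w := by
      rw [D.deg₁, hw]
      linear_combination (-((D.c₁ : G → ℂ) 1) * (D.c₁ : G → ℂ) z) * s1
    have e2 : (D.c₂ : G → ℂ) 1 * x = (D.C : ℂ) * (-1 - w) := by
      rw [← hcw, D.deg₂]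
      linear_combination (-((D.c₂ : G → ℂ) 1) * x) * s2
    linear_combination hh - e1 - e2 + (k - 1) * hC'
  have hzero : ∑ χ ∈ R, Complex.normSq ((χ : G → ℂ) z * (2 * k) - (χ : G → ℂ) 1) = 0 := by
    apply Complex.ofReal_injective
    push_cast
    simp only [Complex.normSq_eq_conj_mul_self]
    have hck : conj (2 * k) = 2 * k := by rw [hk]; simp [map_ofNat]
    have h1c : ∀ χ : IrrCharacter G, conj ((χ : G → ℂ) 1) = (χ : G → ℂ) 1 := fun χ => by
      obtain ⟨n, -, hn⟩ := IsIrr.degree χ.2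
      simp [hn]
    have t3' : ∑ χ ∈ R, (χ : G → ℂ) 1 * conj ((χ : G → ℂ) z) = k * (k - 2) := by
      have := congrArg conj t3
      rw [map_sum, map_mul, map_sub] at this
      rw [show conj k = k by rw [hk]; simp, show conj (2 : ℂ) = 2 from map_ofNat _ 2] at this
      rw [← this]
      exact Finset.sum_congr rfl fun χ _ => by rw [map_mul, h1c]
    rw [Finset.sum_congr rfl (g := fun χ : IrrCharacter G =>
      4 * k ^ 2 * ((χ : G → ℂ) z * conj ((χ : G → ℂ) z)) - 2 * k * ((χ : G → ℂ) 1 * (χ : G → ℂ) z) -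
        2 * k * ((χ : G → ℂ) 1 * conj ((χ : G → ℂ) z)) + (χ : G → ℂ) 1 ^ 2) fun χ _ => by
      rw [map_sub, map_mul, hck, h1c]; ring]
    rw [Finset.sum_add_distrib, Finset.sum_sub_distrib, Finset.sum_sub_distrib, ← Finset.mul_sum,
      ← Finset.mul_sum, ← Finset.mul_sum, t1, t2, t3, t3']
    ring
  intro χ hχ
  exact sub_eq_zero.1 (Complex.normSq_eq_zero.1
    ((Finset.sum_eq_zero_iff_of_nonneg fun χ _ => Complex.normSq_nonneg _).1 hzero χ hχ))

open scoped Classical in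
/-- The structure constants of the two classes. -/
theorem pairCount_minus (H : Hyp t s K) (he : D.q + 1 = 2 * Nat.card K) {z a b : G} (h : QT D z)
    (hab : (a = z ∧ b = z) ∨ (a = z ∧ b = z⁻¹) ∨ (a = z⁻¹ ∧ b = z)) :
    2 * pairCount a b z + 2 = Nat.card K := by
  obtain ⟨hs, hre, hno⟩ := qT_values H he h
  obtain ⟨hrest, hsq⟩ := rest_values H he h
  set w := (D.e₁ : ℂ) * (D.c₁ : G → ℂ) z with hw
  set k := (Nat.card K : ℂ) with hk
  set R := Finset.univ \ listed D with hR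
  obtain ⟨hvv, hA, hC⟩ := minus_params he
  have hq : (D.q : ℂ) = 2 * k - 1 := by
    rw [eq_sub_iff_add_eq, hk]
    exact_mod_cast he
  have hv : (D.v : ℂ) = k - 1 := by
    rw [hk]
    exact_mod_cast hvv
  have hC' : (D.C : ℂ) = k - 1 := by rw [hC, Int.cast_natCast, hv]
  obtain ⟨hB, hC0, -⟩ := cast_cases H D
  have hk0 : k ≠ 0 := Nat.cast_ne_zero.2 Nat.card_pos.ne'
  have hq0 : (D.q : ℂ) ≠ 0 := by exact_mod_cast (zero_lt_one.trans (q_pos D H)).ne'
  obtain ⟨ho, -, -, ho'⟩ := qT_minus H he h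
  have hz := qT_not_kType h
  have hidx : ∀ y : G, y = z ∨ y = z⁻¹ →
      ((Subgroup.centralizer ({y} : Set G)).index : ℂ) = (Nat.card G : ℂ) / D.q := by
    intro y hy
    have hy' : Nat.card (Subgroup.centralizer ({y} : Set G)) = D.q := by rcases hy with rfl | rfl <;> assumption
    rw [eq_div_iff hq0, ← hy']
    exact_mod_cast (Subgroup.centralizer ({y} : Set G)).index_mul_card
  have ha : a = z ∨ a = z⁻¹ := by tauto
  have hb : b = z ∨ b = z⁻¹ := by tauto
  set f : IrrCharacter G → ℂ :=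
    fun χ => conj ((χ : G → ℂ) a * (χ : G → ℂ) b) * (χ : G → ℂ) z / (χ : G → ℂ) 1 with hf
  have e0 : (pairCount a b z : ℂ) = (Nat.card G : ℂ) / (D.q : ℂ) ^ 2 * ∑ χ : IrrCharacter G, f χ := by
    rw [pairCount_eq, hidx a ha, hidx b hb, Finset.mul_sum]
    refine Finset.sum_congr rfl fun χ _ => ?_
    have h1 : (χ : G → ℂ) 1 ≠ 0 := IsIrr.one_ne_zero χ.2
    have hG : (Nat.card G : ℂ) ≠ 0 := card_ne_zero
    rw [hf]
    field_simp
  have hinv : ∀ χ : IrrCharacter G, (χ : G → ℂ) z⁻¹ = conj ((χ : G → ℂ) z) := fun χ =>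
    IsChar.inv_eq_conj (IsIrr.isCharacter χ.2) z
  have hfone : f (oneG G) = 1 := by simp [hf, oneG_apply]
  have hfa : f D.a = 0 := by simp [hf, qT_a_zero h]
  have hfR : ∀ χ ∈ R, f χ = (χ : G → ℂ) 1 ^ 2 / (8 * k ^ 3) := by
    intro χ hχ
    have h1 : (χ : G → ℂ) 1 ≠ 0 := IsIrr.one_ne_zero χ.2
    have hv' : (χ : G → ℂ) z = (χ : G → ℂ) 1 / (2 * k) := by
      rw [eq_div_iff (by simp [hk0])]
      exact hrest χ hχ
    have hcv : conj ((χ : G → ℂ) z) = (χ : G → ℂ) z := by
      obtain ⟨n, -, hn⟩ := IsIrr.degree χ.2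
      rw [hv', hn, map_div₀, map_mul, hk]
      simp [map_ofNat]
    have : (χ : G → ℂ) a = (χ : G → ℂ) z ∧ (χ : G → ℂ) b = (χ : G → ℂ) z := by
      constructor
      · rcases ha with rfl | rfl <;> [rfl; rw [hinv, hcv]]
      · rcases hb with rfl | rfl <;> [rfl; rw [hinv, hcv]]
    simp only [hf]
    rw [this.1, this.2, map_mul, hcv, hv']
    field_simp
    ring
  have hfB : ∀ b' ∈ D.B, f b' = -1 / (2 * (D.C : ℂ)) := by
    intro b' hb'
    have h1 := D.offB b' hb' z h.1 hz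
    rw [qT_a_zero h, mul_zero, zero_add] at h1
    have h2 := D.degB b' hb'
    have hval : (b' : G → ℂ) z = -(D.eb b' : ℂ) := by
      rcases D.sb b' hb' with e | e <;> rw [e] at h1 ⊢ <;> push_cast at h1 ⊢
      · linear_combination h1
      · linear_combination -h1
    have hv3 : ∀ y, y = z ∨ y = z⁻¹ → (b' : G → ℂ) y = -(D.eb b' : ℂ) := by
      intro y hy
      rcases hy with rfl | rfl
      · exact hval
      · rw [hinv, hval, map_neg, map_intCast]
    simp only [hf, hv3 a ha, hv3 b hb, hval, h2]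
    rcases D.sb b' hb' with e | e <;> rw [e] <;> simp [neg_div, div_neg]
  have hP : w * conj w = k / 2 := by linear_combination (1 / 4 : ℂ) * hno + (1 / 4 : ℂ) * hq
  have hfc : ∀ (e : ℤ) (c : IrrCharacter G) (W : ℂ), (e = 1 ∨ e = -1) → (D.C : ℂ) = e * (c : G → ℂ) 1 →
      (e : ℂ) * (c : G → ℂ) z = W → W * conj W = k / 2 →
      f c = k / 2 * (if a = b then conj W else W) / (D.C : ℂ) := by
    intro e c W he' hCd hW hWP
    have hza : z ≠ z⁻¹ := fun e0 => mul_self_ne_one H h.1 hz (eq_inv_iff_mul_eq_one.1 e0)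
    have hcW : (e : ℂ) * conj ((c : G → ℂ) z) = conj W := by rw [← hW, map_mul, map_intCast]
    have he2 : (e : ℂ) * e = 1 := by rcases he' with r | r <;> simp [r]
    have hc1 : (c : G → ℂ) 1 ≠ 0 := IsIrr.one_ne_zero c.2
    have he0 : (e : ℂ) ≠ 0 := fun e0 => by simp [e0] at he2
    rw [← hWP, hCd, hf]
    rcases hab with ⟨ea', eb'⟩ | ⟨ea', eb'⟩ | ⟨ea', eb'⟩ <;> rw [ea', eb']
    · simp only [if_true, map_mul]
      rw [← hcW, ← hW]
      field_simp
      linear_combination (-(conj ((c : G → ℂ) z) ^ 2 * (c : G → ℂ) z)) * he2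
    · rw [if_neg hza]
      simp only [hinv, map_mul, Complex.conj_conj]
      rw [← hW, map_mul, map_intCast]
      field_simp
      linear_combination (-(conj ((c : G → ℂ) z) * (c : G → ℂ) z ^ 2)) * he2
    · rw [if_neg (Ne.symm hza)]
      simp only [hinv, map_mul, Complex.conj_conj]
      rw [← hW, map_mul, map_intCast]
      field_simp
      linear_combination (-(conj ((c : G → ℂ) z) * (c : G → ℂ) z ^ 2)) * he2
  set w' := (D.e₂ : ℂ) * (D.c₂ : G → ℂ) z with hw'
  have hw'e : w' = -1 - w := by linear_combination hs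
  have hP' : w' * conj w' = k / 2 := by
    rw [hw'e, map_sub, map_neg, map_one]
    linear_combination hP + hre
  have hfcc : f D.c₁ + f D.c₂ = -(k / 2) / (D.C : ℂ) := by
    rw [hfc _ _ w D.s₁ D.deg₁ rfl hP, hfc _ _ w' D.s₂ D.deg₂ rfl hP', hw'e]
    split_ifs
    · rw [map_sub, map_neg, map_one]
      ring
    · ring
  rw [sum_split D, hfone, hfa, Finset.sum_congr rfl hfR, Finset.sum_congr rfl hfB, ← Finset.sum_div,
    hsq, Finset.sum_const, nsmul_eq_mul, hB, add_zero, D.card] at e0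
  push_cast at e0
  rw [add_assoc (1 : ℂ), hfcc, hC', hv, hq] at e0
  have hk1 : k - 1 ≠ 0 := hC' ▸ hC0
  have hq1 : 2 * k - 1 ≠ 0 := hq ▸ hq0
  rw [← hk] at e0
  field_simp at e0
  have key : ((2 * pairCount a b z + 2 : ℕ) : ℂ) = k := by
    push_cast
    have h8 : (8 : ℂ) * (2 * k - 1) ≠ 0 := by simp [hq1]
    refine mul_left_cancel₀ h8 ?_
    linear_combination e0
  rw [hk] at key
  exact_mod_cast key

end Cfsg.Agent.BSWAbstract
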