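import Cfsg.Agent.BSWAbstract.SysExists
import Mathlib.RingTheory.Coprime.Lemmas

/-!
# The order of the group
-/

set_option maxHeartbeats 800000

namespace Cfsg.Agent.BSWAbstract

open scoped ComplexConjugate
open Cfsg.Agent.Char

universe u

variable {G : Type u} [Group G] [Fintype G] {t s : G} {K : Subgroup G}

/-- The exceptional system with the two parameters. -/
structure Dat (t : G) (K : Subgroup G) extends Sys t K where
  q : ℕ
  v : ℕ
  card : Nat.card G = 2 * Nat.card K * q * v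
  cases' : (q = 2 * Nat.card K + 1 ∧ v = Nat.card K + 1 ∧ A = q ∧ C = -(v : ℤ)) ∨
    (q + 1 = 2 * Nat.card K ∧ v + 1 = Nat.card K ∧ A = -(q : ℤ) ∧ C = v)
  dega : (a : G → ℂ) 1 = q
  deg₁' : (c₁ : G → ℂ) 1 = v
  deg₂' : (c₂ : G → ℂ) 1 = v

variable [Fintype K]

theorem arith_bound {k N a c r : ℤ} (hk : 2 ≤ k) (hc : 1 ≤ c) (hca : c ≤ a) (hac : a ≤ 3 * c)
    (hr : 4 ≤ r) (hN : N * r = 2 * k * a * c) (hle : 1 + a ^ 2 + (2 * k - 2) * c ^ 2 ≤ N) :
    False := by
  have h1 : a ^ 2 ≥ c ^ 2 := by nlinarith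
  have h2 : 4 * (1 + a ^ 2 + (2 * k - 2) * c ^ 2) ≤ 2 * k * a * c := by
    have hN0 : 0 ≤ N := le_trans (by nlinarith) hle
    nlinarith
  have h3 : 2 * k * a * c ≤ 6 * k * c ^ 2 := by
    nlinarith [mul_le_mul_of_nonneg_left hac (by positivity : (0:ℤ) ≤ 2 * k * c)]
  have h4 : 0 ≤ (2 * k - 4) * c ^ 2 := mul_nonneg (by linarith) (sq_nonneg c)
  nlinarith

theorem dat_exists (H : Hyp t s K) : Nonempty (Dat t K) := by
  classical
  obtain ⟨S⟩ := sys_exists H
  obtain ⟨r0, hr0⟩ := S.dvd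
  set k : ℤ := (Nat.card K : ℤ) with hk
  have hk2 : 2 ≤ k := by
    have := Nat.le_of_dvd Nat.card_pos (two_dvd_card H)
    omega
  obtain ⟨r, hr⟩ : ∃ r, r = -r0 := ⟨_, rfl⟩
  have hC : S.C = -1 - k * r := by rw [hr]; linarith
  have hA : S.A = 1 + 2 * (k * r) := by linarith [S.rel]
  have heq := S.eqn
  rw [hA, hC, ← hk] at heq
  have hk0 : k ≠ 0 := by omega
  have heq' : (Nat.card G : ℤ) * r * r = 2 * k * ((1 + 2 * (k * r)) * (1 + k * r)) := by
    have h : k * k * ((Nat.card G : ℤ) * r * r) = k * k * (2 * k * ((1 + 2 * (k * r)) * (1 + k * r))) := by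
      linarith
    exact mul_left_cancel₀ (mul_ne_zero hk0 hk0) h
  have hr00 : r ≠ 0 := by
    intro h
    rw [h] at heq'
    simp at heq'
    omega
  -- the sum of the squares of the degrees
  let d : IrrCharacter G → ℕ := fun χ => (IsIrr.degree χ.2).choose
  have hd : ∀ χ : IrrCharacter G, (χ : G → ℂ) 1 = d χ := fun χ => (IsIrr.degree χ.2).choose_spec.2
  have hsa : ∀ (e D : ℤ) (χ : IrrCharacter G), (e = 1 ∨ e = -1) → (D : ℂ) = e * (χ : G → ℂ) 1 →
      (d χ : ℤ) ^ 2 = D ^ 2 := by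
    intro e D χ he hD
    rw [hd] at hD
    have : D = e * d χ := by exact_mod_cast hD
    rcases he with e' | e' <;> rw [this, e'] <;> ring
  have htot : ∑ χ : IrrCharacter G, (d χ : ℤ) ^ 2 = (Nat.card G : ℤ) := by
    have h := sum_sq_degree (G := G)
    simp only [hd] at h
    exact_mod_cast h
  have hle : 1 + S.A ^ 2 + (2 * k - 2) * S.C ^ 2 ≤ (Nat.card G : ℤ) := by
    rw [← htot]
    have hsub := Finset.sum_le_univ_sum_of_nonneg (f := fun χ : IrrCharacter G => (d χ : ℤ) ^ 2)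
      (s := insert (oneG G) (insert S.a (insert S.c₁ (insert S.c₂ S.B)))) fun χ => sq_nonneg _
    rw [Finset.sum_insert (by simp [S.ha.symm, S.h₁.symm, S.h₂.symm]; exact fun h => (S.hB _ h).1 rfl),
      Finset.sum_insert (by simp [S.ha₁, S.ha₂]; exact fun h => (S.hB _ h).2.1 rfl),
      Finset.sum_insert (by simp [S.h₁₂]; exact fun h => (S.hB _ h).2.2.1 rfl),
      Finset.sum_insert (fun h => (S.hB _ h).2.2.2 rfl)] at hsub
    have hB : ∀ b ∈ S.B, (d b : ℤ) ^ 2 = (2 * S.C) ^ 2 := fun b hb =>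
      hsa _ _ b (S.sb b hb) (by push_cast; exact S.degB b hb)
    have hd1 : d (oneG G) = 1 := by
      have h := hd (oneG G)
      rw [show ((oneG G : IrrCharacter G) : G → ℂ) 1 = 1 from rfl] at h
      exact_mod_cast h.symm
    rw [hd1, hsa _ _ _ S.sa S.degA, hsa _ _ _ S.s₁ S.deg₁, hsa _ _ _ S.s₂ S.deg₂,
      Finset.sum_congr rfl hB, Finset.sum_const, nsmul_eq_mul] at hsub
    have hcb : 2 * ((S.B.card : ℤ) + 1) = k := by rw [hk]; exact_mod_cast S.cardB
    rw [← hcb]
    push_cast at hsub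
    linear_combination hsub
  rw [hA, hC] at hle
  rcases (show r = 1 ∨ r = -1 ∨ 2 ≤ r ∨ r ≤ -2 by omega) with e | e | e | e
  · subst e
    refine ⟨{ toSys := S, q := (2 * Nat.card K + 1), v := Nat.card K + 1, card := ?_,
              cases' := Or.inl ⟨rfl, rfl, by rw [hA, hk]; push_cast; ring, by rw [hC, hk]; push_cast; ring⟩,
              dega := ?_, deg₁' := ?_, deg₂' := ?_ }⟩
    · have : (Nat.card G : ℤ) = ((2 * Nat.card K * (2 * Nat.card K + 1) * (Nat.card K + 1) : ℕ) : ℤ) := by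
        push_cast
        rw [← hk]
        linear_combination heq'
      exact_mod_cast this
    all_goals rw [hd]; norm_cast
    · have := hsa _ _ _ S.sa S.degA
      rw [hA, sq_eq_sq₀ (by positivity) (by nlinarith)] at this
      omega
    · have := hsa _ _ _ S.s₁ S.deg₁
      rw [hC, ← neg_sq (-1 - k * 1), sq_eq_sq₀ (by positivity) (by omega)] at this
      omega
    · have := hsa _ _ _ S.s₂ S.deg₂
      rw [hC, ← neg_sq (-1 - k * 1), sq_eq_sq₀ (by positivity) (by omega)] at this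
      omega
  · subst e
    refine ⟨{ toSys := S, q := (2 * Nat.card K - 1), v := Nat.card K - 1, card := ?_,
              cases' := Or.inr ⟨by omega, by omega, by rw [hA]; omega, by rw [hC]; omega⟩,
              dega := ?_, deg₁' := ?_, deg₂' := ?_ }⟩
    · have h1 : ((2 * Nat.card K - 1 : ℕ) : ℤ) = 2 * k - 1 := by omega
      have h2 : ((Nat.card K - 1 : ℕ) : ℤ) = k - 1 := by omega
      have : (Nat.card G : ℤ) = ((2 * Nat.card K * (2 * Nat.card K - 1) * (Nat.card K - 1) : ℕ) : ℤ) := by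
        rw [Nat.cast_mul, Nat.cast_mul, h1, h2]
        push_cast
        rw [← hk]
        linear_combination heq'
      exact_mod_cast this
    all_goals rw [hd]; norm_cast
    · have := hsa _ _ _ S.sa S.degA
      rw [hA, ← neg_sq (1 + 2 * (k * -1)), sq_eq_sq₀ (by positivity) (by omega)] at this
      omega
    · have := hsa _ _ _ S.s₁ S.deg₁
      rw [hC, sq_eq_sq₀ (by positivity) (by omega)] at this
      omega
    · have := hsa _ _ _ S.s₂ S.deg₂
      rw [hC, sq_eq_sq₀ (by positivity) (by omega)] at this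
      omega
  · exfalso
    have h1 : k * 2 ≤ k * r := mul_le_mul_of_nonneg_left e (by omega)
    refine arith_bound (N := (Nat.card G : ℤ)) hk2 (c := 1 + k * r) (a := 1 + 2 * (k * r)) (r := r * r) (by omega) (by omega)
      (by omega) (by nlinarith) ?_ ?_
    · linear_combination heq'
    · linear_combination hle
  · exfalso
    have h1 : k * r ≤ k * -2 := mul_le_mul_of_nonneg_left e (by omega)
    refine arith_bound (N := (Nat.card G : ℤ)) hk2 (c := -1 - k * r) (a := -1 - 2 * (k * r)) (r := r * r) (by omega) (by omega)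
      (by omega) (by nlinarith) ?_ ?_
    · linear_combination heq'
    · linear_combination hle

variable (D : Dat t K)

omit [Fintype K] in
theorem v_pos (H : Hyp t s K) : 0 < D.v := by
  have := Nat.le_of_dvd Nat.card_pos (two_dvd_card H)
  rcases D.cases' with ⟨-, h, -⟩ | ⟨-, h, -⟩ <;> omega

omit [Fintype K] in
theorem q_pos (H : Hyp t s K) : 1 < D.q := by
  have := Nat.le_of_dvd Nat.card_pos (two_dvd_card H)
  rcases D.cases' with ⟨h, -⟩ | ⟨h, -⟩ <;> omega

omit [Fintype K] in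
omit [Fintype G] in
theorem q_coprime_v : Nat.Coprime D.q D.v := by
  rw [← Nat.isCoprime_iff_coprime]
  rcases D.cases' with ⟨hq, hv, -⟩ | ⟨hq, hv, -⟩
  · exact ⟨-1, 2, by rw [hq, hv]; push_cast; ring⟩
  · refine ⟨1, -2, ?_⟩
    have hq' : (D.q : ℤ) + 1 = 2 * (Nat.card K : ℤ) := by exact_mod_cast hq
    have hv' : (D.v : ℤ) + 1 = (Nat.card K : ℤ) := by exact_mod_cast hv
    linear_combination hq' - 2 * hv'

omit [Fintype K] in
omit [Fintype G] in
theorem q_coprime_K : Nat.Coprime D.q (2 * Nat.card K) := by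
  rw [← Nat.isCoprime_iff_coprime]
  rcases D.cases' with ⟨hq, -⟩ | ⟨hq, -⟩
  · exact ⟨1, -1, by rw [hq]; push_cast; ring⟩
  · refine ⟨-1, 1, ?_⟩
    have hq' : (D.q : ℤ) + 1 = 2 * (Nat.card K : ℤ) := by exact_mod_cast hq
    push_cast
    linear_combination -hq'

omit [Fintype K] in
theorem v_coprime_K (H : Hyp t s K) : Nat.Coprime D.v (2 * Nat.card K) := by
  obtain ⟨j, hj⟩ := two_dvd_card H
  have h1 : Nat.Coprime D.v (Nat.card K) := by
    rw [← Nat.isCoprime_iff_coprime]
    rcases D.cases' with ⟨-, hv, -⟩ | ⟨-, hv, -⟩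
    · exact ⟨1, -1, by rw [hv]; push_cast; ring⟩
    · refine ⟨-1, 1, ?_⟩
      have hv' : (D.v : ℤ) + 1 = (Nat.card K : ℤ) := by exact_mod_cast hv
      linear_combination -hv'
  exact Nat.Coprime.mul_right (h1.coprime_dvd_right (two_dvd_card H)) h1

omit [Fintype K] in
theorem v_odd (H : Hyp t s K) : Odd D.v := by
  obtain ⟨j, hj⟩ := two_dvd_card H
  rcases D.cases' with ⟨-, hv, -⟩ | ⟨-, hv, -⟩ <;> rw [Nat.odd_iff] <;> omega

end Cfsg.Agent.BSWAbstract
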