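import Cfsg.Agent.BSWAbstract.Main
import Cfsg.Agent.Zassenhaus.AbelianKernel

/-!
# A simple group as in the theorem of Brauer, Suzuki and Wall is `PSL(2, q)`
-/

namespace Cfsg.Agent.BSWAbstract

open Subgroup MulAction

universe u

variable {G : Type u} [Group G] [Finite G]

theorem psl_of_concl [IsSimpleGroup G] (hna : ¬ IsMulCommutative G) (h : Concl G) :
    ∃ (F : Type) (_ : Field F) (_ : Fintype F), Odd (Fintype.card F) ∧
      Nonempty (G ≃* Matrix.ProjectiveSpecialLinearGroup (Fin 2) F) := by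
  classical
  have := Fintype.ofFinite G
  obtain ⟨Q, D, hG, hQ, -, hdq, hQD, hN, -⟩ := h
  set q := Nat.card Q with hq
  set d := Nat.card D with hd
  set N := Subgroup.normalizer (Q : Set G) with hNdef
  have hd0 : 0 < d := Nat.card_pos
  have hcop : d.Coprime q := by
    rw [← hdq, Nat.coprime_mul_right_add_right]
    exact Nat.coprime_one_right d
  -- the order of the normalizer
  have hNc : Nat.card N = q * d := by
    have hle : D ≤ Subgroup.normalizer (Q : Set G) := le_of_le_of_eq le_sup_right hN.symm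
    have hNset : ∀ x, x ∈ N ↔ ∃ a ∈ Q, ∃ b ∈ D, a * b = x := fun x => by
      rw [hN, ← SetLike.mem_coe, Subgroup.coe_mul_of_right_le_normalizer_left Q D hle]
      exact Set.mem_mul
    rw [hq, hd, ← Nat.card_prod]
    refine (Nat.card_congr (Equiv.ofBijective
      (fun p : Q × D => (⟨(p.1 : G) * p.2, (hNset _).2 ⟨p.1, p.1.2, p.2, p.2.2, rfl⟩⟩ : N))
      ⟨fun p p' e => Subgroup.mul_injective_of_disjoint (disjoint_iff.2 hQD) (congrArg Subtype.val e),
        fun x => ?_⟩)).symm
    obtain ⟨a, ha, b, hb, e⟩ := (hNset x).1 x.2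
    exact ⟨(⟨a, ha⟩, ⟨b, hb⟩), Subtype.ext e⟩
  have hidx : N.index = q + 1 := by
    have h1 := N.card_mul_index
    rw [hNc] at h1
    rw [← h1, show q - 1 = 2 * d by omega] at hG
    refine Nat.eq_of_mul_eq_mul_left (Nat.mul_pos two_pos (Nat.mul_pos (by omega : 0 < q) hd0)) ?_
    rw [mul_assoc]
    rw [hG]
    ring
  have hq5 : 5 ≤ q := by
    by_contra hlt
    have hq3 : d = 1 ∧ q = 3 := by omega
    rw [hq3.2] at hG
    have hc : Nat.card G = 2 ^ 2 * 3 ^ 1 := by omega
    have := Char.isSolvable_of_card_eq 2 3 Nat.prime_two Nat.prime_three _ G rfl ⟨2, 1, hc⟩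
    refine hna ⟨⟨fun a b => ?_⟩⟩
    exact (IsSimpleGroup.comm_iff_isSolvable.2 this) a b
  have hne1 : ∃ x ∈ Q, x ≠ 1 := by
    by_contra! h0
    have : Q = ⊥ := (Subgroup.eq_bot_iff_forall Q).2 h0
    rw [hq, this, Subgroup.card_bot] at hq5
    omega
  have hQN : Q ≤ N := Subgroup.le_normalizer
  -- elements of `N` of order dividing `q` lie in `Q`
  have hinQ : ∀ y ∈ N, orderOf y ∣ q → y ∈ Q := by
    intro y hy ho
    have hnorm : (Q.subgroupOf N).Normal := Subgroup.normal_in_normalizer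
    have hi : (Q.subgroupOf N).index = d := by
      have h1 := (Q.subgroupOf N).card_mul_index
      rw [Nat.card_congr (Subgroup.subgroupOfEquivOfLe hQN).toEquiv, hNc] at h1
      exact Nat.eq_of_mul_eq_mul_left (by omega) h1
    have hpow := (Q.subgroupOf N).pow_index_mem (⟨y, hy⟩ : N)
    rw [hi, Subgroup.mem_subgroupOf] at hpow
    obtain ⟨j, hj⟩ := exists_pow_eq_self_of_coprime (x := y) (n := d) (hcop.coprime_dvd_right ho)
    rw [← hj]
    exact Q.pow_mem hpow _
  -- `Q` is semiregular on the other cosets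
  let Ω := G ⧸ N
  let a : Ω := ((1 : G) : G ⧸ N)
  have hsemi : ∀ x ∈ Q, x ≠ 1 → ∀ c : Ω, x • c = c → c = a := by
    intro x hx hx1 c hc
    obtain ⟨g, rfl⟩ := QuotientGroup.mk_surjective c
    rw [MulAction.Quotient.smul_mk, QuotientGroup.eq] at hc
    have hy : g⁻¹ * x * g ∈ N := by
      have := N.inv_mem hc
      rwa [show ((x • g)⁻¹ * g)⁻¹ = g⁻¹ * x * g by simp [smul_eq_mul, mul_assoc]] at this
    have hyQ := hinQ _ hy (by
      rw [show g⁻¹ * x * g = MulAut.conj g⁻¹ x by simp, MulEquiv.orderOf_eq, hq]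
      exact Subgroup.orderOf_dvd_natCard Q hx)
    have hy1 : g⁻¹ * x * g ≠ 1 := fun e => hx1 (by
      calc x = g * (g⁻¹ * x * g) * g⁻¹ := by group
        _ = 1 := by rw [e]; group)
    refine QuotientGroup.eq.2 ?_
    rw [mul_one]
    refine N.inv_mem (Subgroup.mem_normalizer_fintype fun n hn => ?_)
    rw [SetLike.mem_coe, ← hQ x hx hx1, Subgroup.mem_centralizer_singleton_iff]
    rw [SetLike.mem_coe, ← hQ _ hyQ hy1, Subgroup.mem_centralizer_singleton_iff] at hn
    calc g * n * g⁻¹ * x = g * (n * (g⁻¹ * x * g)) * g⁻¹ := by group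
      _ = g * ((g⁻¹ * x * g) * n) * g⁻¹ := by rw [hn]
      _ = x * (g * n * g⁻¹) := by group
  have hfixa : ∀ x ∈ N, x • a = a := fun x hx =>
    QuotientGroup.eq.2 (by simpa [smul_eq_mul] using hx)
  have hmemN : ∀ x : G, x • a = a → x ∈ N := fun x hx => by
    simpa [a, smul_eq_mul] using QuotientGroup.eq.1 hx
  have hΩc : Nat.card Ω = q + 1 := hidx
  have : Fintype Ω := Fintype.ofFinite Ω
  have hreg : ∀ y z : Ω, y ≠ a → z ≠ a → ∃! u : Q, (u : G) • y = z := by
    intro y z hy hz
    let φ : Q → {c : Ω // c ≠ a} := fun u => ⟨(u : G) • y, fun e => hy (by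
      have := congrArg ((u : G)⁻¹ • ·) e
      simpa [hfixa _ (N.inv_mem (hQN u.2))] using this)⟩
    have hinj : Function.Injective φ := fun u v e => by
      have e' : (u : G) • y = (v : G) • y := congrArg Subtype.val e
      by_contra hne
      refine hy (hsemi ((v : G)⁻¹ * u) (Q.mul_mem (Q.inv_mem v.2) u.2) (fun h1 => hne ?_) y ?_)
      · exact (Subtype.ext (inv_mul_eq_one.1 h1)).symm
      · rw [mul_smul, e', inv_smul_smul]
    have hbij : Function.Bijective φ := hinj.bijective_of_nat_card_le (by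
      rw [Nat.card_eq_fintype_card, Fintype.card_subtype_compl, Fintype.card_subtype_eq,
        ← Nat.card_eq_fintype_card, hΩc, hq]
      omega)
    obtain ⟨u, hu⟩ := hbij.2 ⟨z, hz⟩
    exact ⟨u, congrArg Subtype.val hu, fun v hv => hinj (Subtype.ext
      (hv.trans (congrArg Subtype.val hu).symm))⟩
  have htrans : MulAction.IsPretransitive G Ω := MulAction.isPretransitive_quotient G N
  -- the point `b`
  obtain ⟨b, hb⟩ : ∃ b : Ω, b ≠ a := Fintype.exists_ne_of_one_lt_card
    (by rw [← Nat.card_eq_fintype_card, hΩc]; omega) a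
  have htwo : ∀ {x y : Ω}, x ≠ y → ∃ g : G, g • x = a ∧ g • y = b := by
    intro x y hxy
    obtain ⟨g, hg⟩ := MulAction.exists_smul_eq G x a
    obtain ⟨u, hu, -⟩ := hreg (g • y) b (fun e => hxy (MulAction.injective g (hg.trans e.symm))) hb
    exact ⟨(u : G) * g, by rw [mul_smul, hg, hfixa _ (hQN u.2)], by rw [mul_smul]; exact hu⟩
  have hthree : ∀ (g : G) (c : Ω), c ≠ a → c ≠ b → g • a = a → g • b = b → g • c = c → g = 1 := by
    intro g c hca hcb hga hgb hgc
    obtain ⟨⟨x, hx⟩, hxb, -⟩ := hreg b c hb hca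
    have hgN := hmemN g hga
    have hgx : g * x * g⁻¹ ∈ Q := (Subgroup.mem_normalizer_iff.1 hgN x).1 hx
    have hxx : x = g * x * g⁻¹ := by
      obtain ⟨w, -, hw2⟩ := hreg b c hb hca
      have := (hw2 ⟨g * x * g⁻¹, hgx⟩ (by
        show (g * x * g⁻¹) • b = c
        rw [mul_smul, mul_smul, show g⁻¹ • b = b by rw [inv_smul_eq_iff, hgb]]
        exact (congrArg (g • ·) hxb).trans hgc)).trans (hw2 ⟨x, hx⟩ hxb).symm
      exact (congrArg Subtype.val this).symm
    have hx1 : x ≠ 1 := fun e => hcb (by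
      rw [← hxb]
      show x • b = b
      rw [e, one_smul])
    have hgQ : g ∈ Q := by
      rw [← hQ x hx hx1, Subgroup.mem_centralizer_singleton_iff]
      calc g * x = g * x * g⁻¹ * g := by group
        _ = x * g := by rw [← hxx]
    by_contra hg1
    exact hb (hsemi g hgQ hg1 b hgb)
  have hfaith : FaithfulSMul G Ω := by
    have hker : (MulAction.toPermHom G Ω).ker = ⊥ := by
      rcases (inferInstance : (MulAction.toPermHom G Ω).ker.Normal).eq_bot_or_eq_top with e | e
      · exact e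
      · exfalso
        obtain ⟨g, hg⟩ := MulAction.exists_smul_eq G a b
        have := (MulAction.toPermHom G Ω).mem_ker.1 (e ▸ Subgroup.mem_top g)
        exact hb (hg.symm.trans (Equiv.ext_iff.1 this a))
    refine ⟨fun {g g'} e => ?_⟩
    exact (MonoidHom.ker_eq_bot_iff _).1 hker (Equiv.ext e)
  -- the two-point stabilizer
  have htwoc : Nat.card (Zassenhaus.twoPt G a b) = d := by
    have hmap : ∀ g : G, g ∈ N → ∃! u : Q, (u : G) • b = g • b := fun g hg =>
      hreg b (g • b) hb fun e => hb (MulAction.injective g (e.trans (hfixa g hg).symm))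
    choose f hf hf' using hmap
    have e : Q × Zassenhaus.twoPt G a b ≃ N :=
      { toFun := fun p => ⟨(p.1 : G) * p.2, N.mul_mem (hQN p.1.2) (hmemN _ p.2.2.1)⟩
        invFun := fun g => (f g g.2, ⟨((f g g.2 : Q) : G)⁻¹ * g, by
          constructor
          · exact hfixa _ (N.mul_mem (N.inv_mem (hQN (f g g.2).2)) g.2)
          · show (((f g g.2 : Q) : G)⁻¹ * (g : G)) • b = b
            rw [mul_smul, inv_smul_eq_iff, hf]⟩)
        left_inv := fun p => by
          have hp : f ((p.1 : G) * p.2) (N.mul_mem (hQN p.1.2) (hmemN _ p.2.2.1)) = p.1 :=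
            (hf' _ _ p.1 (by show (p.1 : G) • b = _; rw [mul_smul, show (p.2 : G) • b = b from p.2.2.2])).symm
          refine Prod.ext hp (Subtype.ext ?_)
          show ((f _ _ : Q) : G)⁻¹ * ((p.1 : G) * p.2) = p.2
          rw [hp, inv_mul_cancel_left]
        right_inv := fun g => Subtype.ext (mul_inv_cancel_left _ _) }
    have := Nat.card_congr e
    rw [Nat.card_prod, hNc, ← hq] at this
    exact Nat.eq_of_mul_eq_mul_left (by omega) this
  have hthree' : ∀ g : G, ∀ x y z : Ω, x ≠ y → y ≠ z → x ≠ z → g • x = x → g • y = y → g • z = z → g = 1 := by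
    intro g x y z hxy hyz hxz hgx hgy hgz
    obtain ⟨k, hk1, hk2⟩ := htwo hxy
    have hfix : ∀ w : Ω, g • w = w → (k * g * k⁻¹) • (k • w) = k • w := fun w hw => by
      rw [mul_smul, mul_smul, inv_smul_smul, hw]
    have := hthree (k * g * k⁻¹) (k • z) (fun e => hxz (MulAction.injective k (hk1.trans e.symm)))
      (fun e => hyz (MulAction.injective k (hk2.trans e.symm))) (hk1 ▸ hfix x hgx) (hk2 ▸ hfix y hgy) (hfix z hgz)
    exact conj_eq_one_iff.1 this
  have hZ : Cfsg.IsZassenhausGroup G Ω := by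
    refine ⟨hfaith, ?_, hthree', ?_, fun M hM htM => ?_⟩
    · rw [MulAction.is_two_pretransitive_iff]
      intro x y u v hxy huv
      obtain ⟨g, hg1, hg2⟩ := htwo hxy
      obtain ⟨k, hk1, hk2⟩ := htwo huv
      exact ⟨k⁻¹ * g, by rw [mul_smul, hg1, inv_smul_eq_iff, hk1],
        by rw [mul_smul, hg2, inv_smul_eq_iff, hk2]⟩
    · have : Nontrivial (Zassenhaus.twoPt G a b) :=
        Finite.one_lt_card_iff_nontrivial.1 (by rw [htwoc]; omega)
      obtain ⟨⟨h, hh⟩, hne⟩ := exists_ne (1 : Zassenhaus.twoPt G a b)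
      exact ⟨h, fun e => hne (Subtype.ext e), a, b, hb.symm, hh.1, hh.2⟩
    · refine ⟨a, fun e => ?_⟩
      rcases hM.eq_bot_or_eq_top with hM' | hM'
      · obtain ⟨g, hg⟩ := htM.exists_smul_eq a b
        have : (g : G) = 1 := Subgroup.mem_bot.1 (hM' ▸ g.2)
        rw [Subgroup.smul_def, this, one_smul] at hg
        exact hb hg.symm
      · obtain ⟨x, hx, hx1⟩ := hne1
        have : (⟨x, hM' ▸ Subgroup.mem_top x⟩ : M) ∈ MulAction.stabilizer M a := hfixa x (hQN hx)
        rw [show MulAction.stabilizer M a = ⊥ from e, Subgroup.mem_bot] at this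
        exact hx1 (congrArg Subtype.val this)
  have hker : Zassenhaus.IsKernel Q a :=
    ⟨fun u hu => hfixa u (hQN hu), fun g hga u hu => (Subgroup.mem_normalizer_iff.1 (hmemN g hga) u).1 hu, hreg⟩
  have habel : ∀ x ∈ Q, ∀ y ∈ Q, x * y = y * x := by
    intro x hx y hy
    rcases eq_or_ne y 1 with rfl | hy1
    · simp
    rw [← hQ y hy hy1] at hx
    exact Subgroup.mem_centralizer_singleton_iff.1 hx
  rcases Zassenhaus.abelian_kernel_cases hZ hb.symm hker habel with hc | ⟨-, p, f, F, iF, iFF, hp, hp2, hF, -, hiso⟩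
  · rw [htwoc, hΩc] at hc
    omega
  · exact ⟨F, iF, iFF, by rw [hF]; exact (hp.odd_of_ne_two hp2).pow, hiso⟩

end Cfsg.Agent.BSWAbstract
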