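import Mathlib.Tactic.Linarith
import Mathlib.Tactic.Ring
import Mathlib.Tactic.IntervalCases

/-!
# The Diophantine problem for a centralizer which is a four group
-/

namespace Cfsg.Agent.BSWAbstract

theorem triple_aux_one (N x y : ℤ) (hx : 3 ≤ x) (hy : 7 ≤ y)
    (heq : N * ((x + y - 1) * x * y + x * y - (x + y - 1) * y - (x + y - 1) * x) =
      32 * ((x + y - 1) * x * y))
    (hN : 1 + (x + y - 1) ^ 2 + x ^ 2 + y ^ 2 ≤ N) : False := by
  have hxy : 7 * x + 3 * y - 21 ≤ x * y := by nlinarith [mul_nonneg (by linarith : (0:ℤ) ≤ x - 3) (by linarith : (0:ℤ) ≤ y - 7)]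
  set c := x + y - 1 with hc
  have hc9 : 9 ≤ c := by omega
  have hP : 0 < c * x * y := by positivity
  have hD : 11 * (c * x * y) ≤ 21 * (c * x * y + x * y - c * y - c * x) := by
    have h1 : 0 ≤ 3 * (x * y) - 7 * x - 3 * y + 21 := by nlinarith
    have h2 : 21 * (x + y) ≤ 10 * (x * y) + 21 := by nlinarith
    nlinarith [mul_le_mul_of_nonneg_left h2 (by linarith : (0:ℤ) ≤ c)]
  have hN0 : 140 ≤ N := by nlinarith
  nlinarith [mul_le_mul_of_nonneg_left hD (by linarith : (0:ℤ) ≤ N)]

theorem triple_aux_two (N c d : ℤ) (hc : 1 ≤ c) (hd : 5 ≤ d)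
    (heq : N * (c * d * (c + d + 1) + d * (c + d + 1) + c * (c + d + 1) - c * d) =
      32 * (c * d * (c + d + 1)))
    (hN : 1 + c ^ 2 + d ^ 2 + (c + d + 1) ^ 2 ≤ N) : False := by
  set x := c + d + 1 with hx
  have hx7 : 7 ≤ x := by omega
  have hP : 0 < c * d * x := by positivity
  have hD : 6 * (c * d * x) ≤ 7 * (c * d * x + d * x + c * x - c * d) := by
    nlinarith [mul_le_mul_of_nonneg_left hx7 (by positivity : (0:ℤ) ≤ c * d),
      mul_nonneg (by linarith : (0:ℤ) ≤ c + d) (by linarith : (0:ℤ) ≤ x)]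
  have hN0 : 50 ≤ N := by nlinarith
  nlinarith [mul_le_mul_of_nonneg_left hD (by linarith : (0:ℤ) ≤ N)]

theorem triple_eq (N a b c : ℤ) (ha : a % 4 = 1) (hb : b % 4 = 1) (hc : c % 4 = 1)
    (hsum : a + b + c = -1) (heq : N * (a * b * c + b * c + a * c + a * b) = 32 * (a * b * c))
    (hN : 1 + a ^ 2 + b ^ 2 + c ^ 2 ≤ N) : a = b ∨ a = c ∨ b = c := by
  by_contra! hne
  obtain ⟨hab, hac, hbc⟩ := hne
  rcases (show 1 ≤ a ∨ a ≤ -3 by omega) with pa | na <;>
    rcases (show 1 ≤ b ∨ b ≤ -3 by omega) with pb | nb <;>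
      rcases (show 1 ≤ c ∨ c ≤ -3 by omega) with pc | nc
  · omega
  · rcases (show 5 ≤ b ∨ 5 ≤ a by omega) with h | h
    · refine triple_aux_two N a b pa h ?_ ?_ <;>
        rw [show c = -(a + b + 1) by omega] at heq hN <;> nlinarith
    · refine triple_aux_two N b a pb h ?_ ?_ <;>
        rw [show c = -(a + b + 1) by omega] at heq hN <;> nlinarith
  · rcases (show 5 ≤ c ∨ 5 ≤ a by omega) with h | h
    · refine triple_aux_two N a c pa h ?_ ?_ <;>
        rw [show b = -(a + c + 1) by omega] at heq hN <;> nlinarith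
    · refine triple_aux_two N c a pc h ?_ ?_ <;>
        rw [show b = -(a + c + 1) by omega] at heq hN <;> nlinarith
  · rcases (show c ≤ -7 ∨ b ≤ -7 by omega) with h | h
    · refine triple_aux_one N (-b) (-c) (by omega) (by omega) ?_ ?_ <;>
        rw [show a = -b - c - 1 by omega] at heq hN <;> nlinarith
    · refine triple_aux_one N (-c) (-b) (by omega) (by omega) ?_ ?_ <;>
        rw [show a = -b - c - 1 by omega] at heq hN <;> nlinarith
  · rcases (show 5 ≤ c ∨ 5 ≤ b by omega) with h | h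
    · refine triple_aux_two N b c pb h ?_ ?_ <;>
        rw [show a = -(b + c + 1) by omega] at heq hN <;> nlinarith
    · refine triple_aux_two N c b pc h ?_ ?_ <;>
        rw [show a = -(b + c + 1) by omega] at heq hN <;> nlinarith
  · rcases (show c ≤ -7 ∨ a ≤ -7 by omega) with h | h
    · refine triple_aux_one N (-a) (-c) (by omega) (by omega) ?_ ?_ <;>
        rw [show b = -a - c - 1 by omega] at heq hN <;> nlinarith
    · refine triple_aux_one N (-c) (-a) (by omega) (by omega) ?_ ?_ <;>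
        rw [show b = -a - c - 1 by omega] at heq hN <;> nlinarith
  · rcases (show b ≤ -7 ∨ a ≤ -7 by omega) with h | h
    · refine triple_aux_one N (-a) (-b) (by omega) (by omega) ?_ ?_ <;>
        rw [show c = -a - b - 1 by omega] at heq hN <;> nlinarith
    · refine triple_aux_one N (-b) (-a) (by omega) (by omega) ?_ ?_ <;>
        rw [show c = -a - b - 1 by omega] at heq hN <;> nlinarith
  · omega

end Cfsg.Agent.BSWAbstract
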