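import Cfsg.Agent.BSWAbstract.Dual
import Cfsg.Agent.BSWAbstract.TripleArith

/-!
# Supports of the virtual characters
-/

set_option maxHeartbeats 800000

namespace Cfsg.Agent.BSWAbstract

open scoped ComplexConjugate
open Cfsg.Agent.Char

universe u

variable {G : Type u} [Group G] [Fintype G] {t s : G} {K : Subgroup G} [Fintype K]

open scoped Classical in
/-- The nontrivial irreducible characters of `G` occurring in the image of `1 - ν`. -/
noncomputable def supp (ν : IrrCharacter K) : Finset (IrrCharacter G) :=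
  Finset.univ.filter fun χ => χ ≠ oneG G ∧ coord ν χ ≠ 0

theorem mem_supp {ν : IrrCharacter K} {χ : IrrCharacter G} :
    χ ∈ supp ν ↔ χ ≠ oneG G ∧ coord ν χ ≠ 0 := by
  simp [supp]

theorem coord_eq_zero {ν : IrrCharacter K} {χ : IrrCharacter G} (h1 : χ ≠ oneG G)
    (h : χ ∉ supp ν) : coord ν χ = 0 := by
  by_contra hne
  exact h (mem_supp.2 ⟨h1, hne⟩)

theorem supp_conj (H : Hyp t s K) (ν : IrrCharacter K) : supp (conjIrr ν) = (supp ν : Finset (IrrCharacter G)) := by
  ext χ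
  simp only [mem_supp, coord_conj H]

theorem sum_supp (H : Hyp t s K) {R : Type*} [CommRing R] {ν : IrrCharacter K} (hν : ν ≠ oneK K)
    (f : IrrCharacter G → R) :
    ∑ χ : IrrCharacter G, (coord ν χ : R) * f χ = f (oneG G) + ∑ χ ∈ supp ν, (coord ν χ : R) * f χ := by
  classical
  rw [← Finset.add_sum_erase _ _ (Finset.mem_univ (oneG G)), coord_one H hν, Int.cast_one, one_mul]
  congr 1
  refine (Finset.sum_subset (fun χ hχ => Finset.mem_erase.2 ⟨(mem_supp.1 hχ).1, Finset.mem_univ _⟩)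
    fun χ hχ hn => ?_).symm
  rw [coord_eq_zero (Finset.mem_erase.1 hχ).1 hn, Int.cast_zero, zero_mul]

theorem sum_supp_deg (H : Hyp t s K) {ν : IrrCharacter K} (hν : ν ≠ oneK K) :
    1 + ∑ χ ∈ supp ν, (coord ν χ : ℂ) * (χ : G → ℂ) 1 = 0 := by
  rw [← sum_coord_deg H ν, sum_supp H hν fun χ => (χ : G → ℂ) 1]
  rfl

open scoped Classical in
theorem gram_supp (H : Hyp t s K) {ν μ : IrrCharacter K} (hν : ν ≠ oneK K) (hμ : μ ≠ oneK K) :
    ∑ χ ∈ (supp ν ∩ supp μ : Finset (IrrCharacter G)), coord ν χ * coord μ χ =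
      1 + (if ν = μ then 1 else 0) + (if ν = conjIrr μ then 1 else 0) := by
  have h := sum_supp H (R := ℤ) hν fun χ => coord μ χ
  simp only [Int.cast_id] at h
  rw [sum_coord_mul H hν hμ, coord_one H hμ] at h
  rw [Finset.sum_subset (Finset.inter_subset_left (s₂ := supp μ)) fun χ hχ hn => by
    rw [coord_eq_zero (ν := μ) (mem_supp.1 hχ).1 fun hm => hn (Finset.mem_inter.2 ⟨hχ, hm⟩), mul_zero]]
  linarith

theorem sq_sum_small {ι : Type*} (S : Finset ι) (f : ι → ℤ) (hf : ∀ x ∈ S, f x ≠ 0)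
    (h : ∑ x ∈ S, f x * f x ≤ 3) :
    (∀ x ∈ S, f x = 1 ∨ f x = -1) ∧ (S.card : ℤ) = ∑ x ∈ S, f x * f x := by
  have hsmall : ∀ x ∈ S, f x = 1 ∨ f x = -1 := by
    intro x hx
    have h1 : f x * f x ≤ ∑ y ∈ S, f y * f y :=
      Finset.single_le_sum (f := fun y => f y * f y) (fun y _ => mul_self_nonneg (f y)) hx
    have h2 : -1 ≤ f x ∧ f x ≤ 1 := ⟨by nlinarith, by nlinarith⟩
    have := hf x hx
    omega
  refine ⟨hsmall, ?_⟩
  rw [Finset.sum_congr rfl fun x hx => (by rcases hsmall x hx with h | h <;> simp [h] :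
    f x * f x = 1)]
  simp

theorem supp_nonreal (H : Hyp t s K) {ν : IrrCharacter K} (hν : ν ≠ oneK K) (hc : conjIrr ν ≠ ν) :
    (∀ χ ∈ (supp ν : Finset (IrrCharacter G)), coord ν χ = 1 ∨ coord ν χ = -1) ∧
      (supp ν : Finset (IrrCharacter G)).card = 2 := by
  classical
  have h := gram_supp H hν hν
  rw [Finset.inter_self, if_pos rfl, if_neg (Ne.symm hc)] at h
  obtain ⟨h1, h2⟩ := sq_sum_small (supp ν) (fun χ => coord ν χ) (fun χ hχ => (mem_supp.1 hχ).2) (by
    rw [h]; norm_num)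
  refine ⟨h1, ?_⟩
  rw [h] at h2
  omega

theorem supp_real (H : Hyp t s K) {ν : IrrCharacter K} (hν : ν ≠ oneK K) (hc : conjIrr ν = ν) :
    (∀ χ ∈ (supp ν : Finset (IrrCharacter G)), coord ν χ = 1 ∨ coord ν χ = -1) ∧
      (supp ν : Finset (IrrCharacter G)).card = 3 := by
  classical
  have h := gram_supp H hν hν
  rw [Finset.inter_self, if_pos rfl, if_pos hc.symm] at h
  obtain ⟨h1, h2⟩ := sq_sum_small (supp ν) (fun χ => coord ν χ) (fun χ hχ => (mem_supp.1 hχ).2) (by
    rw [h]; norm_num)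
  refine ⟨h1, ?_⟩
  rw [h] at h2
  omega

/-- Two different supports share exactly one signed character. -/
theorem share (H : Hyp t s K) {ν μ : IrrCharacter K} (hν : ν ≠ oneK K) (hc : conjIrr ν ≠ ν)
    (hμ : μ ≠ oneK K) (h1 : μ ≠ ν) (h2 : μ ≠ conjIrr ν) :
    ∃ x : IrrCharacter G, x ∈ supp ν ∧ x ∈ supp μ ∧ coord ν x = coord μ x ∧
      ∀ y, y ∈ supp ν → y ∈ supp μ → y = x := by
  classical
  have h := gram_supp H hν hμ
  rw [if_neg (Ne.symm h1), if_neg fun e => h2 (by rw [e, conjIrr_conjIrr]), add_zero,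
    add_zero] at h
  obtain ⟨hv, hcard⟩ := supp_nonreal H hν hc
  have hμv : ∀ χ ∈ (supp μ : Finset (IrrCharacter G)), coord μ χ = 1 ∨ coord μ χ = -1 := by
    by_cases hm : conjIrr μ = μ
    · exact (supp_real H hμ hm).1
    · exact (supp_nonreal H hμ hm).1
  have hle : (supp ν ∩ supp μ : Finset (IrrCharacter G)).card ≤ 2 :=
    hcard ▸ Finset.card_le_card Finset.inter_subset_left
  rcases Nat.lt_or_ge (supp ν ∩ supp μ : Finset (IrrCharacter G)).card 2 with hlt | hge
  · rcases Nat.lt_or_ge (supp ν ∩ supp μ : Finset (IrrCharacter G)).card 1 with h0 | hge1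
    · rw [Finset.card_eq_zero.1 (Nat.lt_one_iff.1 h0), Finset.sum_empty] at h
      omega
    · obtain ⟨x, hx⟩ := Finset.card_eq_one.1 (le_antisymm (Nat.lt_succ_iff.1 hlt) hge1)
      rw [hx, Finset.sum_singleton] at h
      have hxm := Finset.mem_inter.1 (hx ▸ Finset.mem_singleton_self x)
      refine ⟨x, hxm.1, hxm.2, ?_, fun y hy1 hy2 => Finset.mem_singleton.1
        (hx ▸ Finset.mem_inter.2 ⟨hy1, hy2⟩)⟩
      rcases hv x hxm.1 with e | e <;> rcases hμv x hxm.2 with e' | e' <;> simp [e, e'] at h ⊢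
  · obtain ⟨x, y, hxy, hs2⟩ := Finset.card_eq_two.1 (le_antisymm hle hge)
    have hxm := Finset.mem_inter.1 (hs2 ▸ Finset.mem_insert_self x _)
    have hym := Finset.mem_inter.1 (hs2 ▸ Finset.mem_insert_of_mem (Finset.mem_singleton_self y))
    rw [hs2, Finset.sum_pair hxy] at h
    rcases hv x hxm.1 with e | e <;> rcases hμv x hxm.2 with e' | e' <;>
      rcases hv y hym.1 with f | f <;> rcases hμv y hym.2 with f' | f' <;> simp [e, e', f, f'] at h

theorem irr_card (H : Hyp t s K) : Fintype.card (IrrCharacter K) = Nat.card K := by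
  classical
  have h := regular_eq_sum (1 : K)
  simp [deg_one H] at h
  rw [Nat.card_eq_fintype_card]
  exact_mod_cast h

theorem exists_lam (H : Hyp t s K) :
    ∃ lam : IrrCharacter K, lam ≠ oneK K ∧ conjIrr lam = lam ∧
      ∀ ν : IrrCharacter K, conjIrr ν = ν → ν = oneK K ∨ ν = lam := by
  classical
  have h1 : oneK K ∈ Finset.univ.filter fun ν : IrrCharacter K => conjIrr ν = ν :=
    Finset.mem_filter.2 ⟨Finset.mem_univ _, conjIrr_oneK⟩
  obtain ⟨lam, hlam⟩ := Finset.card_eq_one.1 (show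
    ((Finset.univ.filter fun ν : IrrCharacter K => conjIrr ν = ν).erase (oneK K)).card = 1 by
      rw [Finset.card_erase_of_mem h1, card_real H])
  have hl : lam ∈ (Finset.univ.filter fun ν : IrrCharacter K => conjIrr ν = ν).erase (oneK K) := by
    rw [hlam]
    exact Finset.mem_singleton_self _
  simp only [Finset.mem_erase, Finset.mem_filter, Finset.mem_univ, true_and] at hl
  refine ⟨lam, hl.1, hl.2, fun ν hν => ?_⟩
  by_cases hne : ν = oneK K
  · exact Or.inl hne
  · refine Or.inr (Finset.mem_singleton.1 (hlam ▸ ?_))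
    simp [hne, hν]

/-- On `K` the values at `t` of a support: the contributions of the pairs. -/
theorem value_formula_supp (H : Hyp t s K) (χ : IrrCharacter G) {k : K} (hk : k ≠ 1)
    (S : Finset (IrrCharacter K)) (hS : ∀ ν : IrrCharacter K, ν ∉ S → coord ν χ = 0) :
    (χ : G → ℂ) k = -∑ ν ∈ S, (coord ν χ : ℂ) * (ν : K → ℂ) k := by
  classical
  rw [value_formula H χ hk, neg_inj]
  exact (Finset.sum_subset (Finset.subset_univ S) fun ν _ hν => by
    rw [hS ν hν, Int.cast_zero, zero_mul]).symm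

theorem sum_nontrivial (H : Hyp t s K) {k : K} (hk : k ≠ 1) [DecidableEq (IrrCharacter K)] :
    ∑ ν ∈ Finset.univ.erase (oneK K), (ν : K → ℂ) k = -1 := by
  have h := sum_dual H hk
  rw [← Finset.add_sum_erase _ _ (Finset.mem_univ (oneK K)),
    show ((oneK K : IrrCharacter K) : K → ℂ) k = 1 from rfl] at h
  linear_combination h

omit [Fintype G] [Fintype K] in
theorem t_ne_oneK (H : Hyp t s K) : (⟨t, H.htK⟩ : K) ≠ 1 :=
  fun e => t_ne_one H (congrArg Subtype.val e)

end Cfsg.Agent.BSWAbstract
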