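import Cfsg.Agent.BSWAbstract.Coherence

/-!
# Existence of the exceptional system
-/

set_option maxHeartbeats 1600000

namespace Cfsg.Agent.BSWAbstract

open scoped ComplexConjugate
open Cfsg.Agent.Char

universe u

variable {G : Type u} [Group G] [Fintype G] {t s : G} {K : Subgroup G} [Fintype K]

/-- All supports have a common element. -/
theorem common (H : Hyp t s K) (lam : IrrCharacter K) (hl1 : lam ≠ oneK K)
    (hlc : conjIrr lam = lam) (hl : ∀ ν : IrrCharacter K, conjIrr ν = ν → ν = oneK K ∨ ν = lam)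
    {ν₀ : IrrCharacter K} (h01 : ν₀ ≠ oneK K) (h02 : ν₀ ≠ lam) {a : IrrCharacter G}
    (ha0 : a ∈ supp ν₀) (hal : a ∈ supp lam) :
    ∀ μ : IrrCharacter K, μ ≠ oneK K → μ ≠ lam → a ∈ supp μ := by
  classical
  have hnc : ∀ ν : IrrCharacter K, ν ≠ oneK K → ν ≠ lam → conjIrr ν ≠ ν := fun ν h1 h2 h =>
    (hl ν h).elim h1 h2
  have hne_lam : ∀ ν : IrrCharacter K, ν ≠ lam → lam ≠ conjIrr ν := fun ν h2 e =>
    h2 (by rw [← conjIrr_conjIrr ν, ← e, hlc])
  intro μ hμ1 hμ2
  by_contra haμ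
  have hμ0 : μ ≠ ν₀ := fun e => haμ (e ▸ ha0)
  have hμ0' : μ ≠ conjIrr ν₀ := fun e => haμ (by rw [e, supp_conj H]; exact ha0)
  -- the second element of `ν₀`
  obtain ⟨x0, -, -, hca, hu0⟩ := share (G := G) H h01 (hnc _ h01 h02) hl1 (Ne.symm h02) (hne_lam _ h02)
  have hxa := hu0 a ha0 hal
  subst hxa
  obtain ⟨b, hb0, hbμ, hcb, -⟩ := share (G := G) H h01 (hnc _ h01 h02) hμ1 hμ0 hμ0'
  have hba : b ≠ a := fun e => haμ (e ▸ hbμ)
  have hblam : b ∉ supp lam := fun h => hba (hu0 b hb0 h)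
  have hset0 : (supp ν₀ : Finset (IrrCharacter G)) = {a, b} :=
    (Finset.eq_of_subset_of_card_le (by simp [Finset.insert_subset_iff, ha0, hb0])
      (by rw [Finset.card_pair hba.symm, (supp_nonreal H h01 (hnc _ h01 h02)).2])).symm
  obtain ⟨c, hcμ, hcl, hcc, huμ⟩ := share (G := G) H hμ1 (hnc _ hμ1 hμ2) hl1 (Ne.symm hμ2) (hne_lam _ hμ2)
  have hca' : c ≠ a := fun e => haμ (e ▸ hcμ)
  have hcb' : c ≠ b := fun e => hblam (e ▸ hcl)
  have hsetμ : (supp μ : Finset (IrrCharacter G)) = {b, c} :=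
    (Finset.eq_of_subset_of_card_le (by simp [Finset.insert_subset_iff, hbμ, hcμ])
      (by rw [Finset.card_pair hcb'.symm, (supp_nonreal H hμ1 (hnc _ hμ1 hμ2)).2])).symm
  obtain ⟨hpm, hcard3⟩ := supp_real (G := G) H hl1 hlc
  obtain ⟨d, hd⟩ := Finset.card_eq_one.1 (show (((supp lam : Finset (IrrCharacter G)).erase a).erase c).card = 1 by
    rw [Finset.card_erase_of_mem (Finset.mem_erase.2 ⟨hca', hcl⟩), Finset.card_erase_of_mem hal, hcard3])
  have hdm : d ∈ ((supp lam : Finset (IrrCharacter G)).erase a).erase c := hd ▸ Finset.mem_singleton_self d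
  obtain ⟨hdc, hdm'⟩ := Finset.mem_erase.1 hdm
  obtain ⟨hda, hdl⟩ := Finset.mem_erase.1 hdm'
  have hlset : (supp lam : Finset (IrrCharacter G)) = {a, c, d} :=
    (Finset.eq_of_subset_of_card_le (by simp [Finset.insert_subset_iff, hal, hcl, hdl])
      (by rw [Finset.card_insert_of_notMem (by simp [hca'.symm, hda.symm]), Finset.card_pair hdc.symm,
        hcard3])).symm
  have hdb : d ≠ b := fun e => hblam (e ▸ hdl)
  -- signed degrees
  set A : ℂ := sdeg lam a with hA
  set B : ℂ := sdeg ν₀ b with hB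
  set C : ℂ := sdeg lam c with hC
  set D : ℂ := sdeg lam d with hD
  have hA0 : sdeg ν₀ a = A := by rw [hA, sdeg, sdeg, hca]
  have hB1 : sdeg μ b = B := by rw [hB, sdeg, sdeg, hcb]
  have hC1 : sdeg μ c = C := by rw [hC, sdeg, sdeg, hcc]
  have hAne : A ≠ 0 := sdeg_ne_zero hal
  have e0 : 1 + (A + B) = 0 := by
    have h := sum_supp_deg (G := G) H h01
    rw [hset0, Finset.sum_pair hba.symm] at h
    rw [← hA0, hB]
    exact h
  have eμ : 1 + (B + C) = 0 := by
    have h := sum_supp_deg (G := G) H hμ1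
    rw [hsetμ, Finset.sum_pair hcb'.symm] at h
    rw [← hB1, ← hC1]
    exact h
  have el : 1 + (A + C + D) = 0 := by
    have h := sum_supp_deg (G := G) H hl1
    rw [hlset, Finset.sum_insert (by simp [hca'.symm, hda.symm]), Finset.sum_pair hdc.symm, ← add_assoc
      (G := ℂ)] at h
    rw [hA, hC, hD]
    simp only [sdeg]
    linear_combination h
  have hAC : C = A := by linear_combination eμ - e0
  -- no further classes
  have hall : ∀ ρ : IrrCharacter K, ρ ≠ oneK K → ρ ≠ lam →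
      ρ = ν₀ ∨ ρ = conjIrr ν₀ ∨ ρ = μ ∨ ρ = conjIrr μ := by
    intro ρ hρ1 hρ2
    by_contra! hne
    obtain ⟨n1, n2, n3, n4⟩ := hne
    obtain ⟨y, hy0, hyρ, hcy, huy⟩ := share (G := G) H h01 (hnc _ h01 h02) hρ1 n1 n2
    obtain ⟨z, hzμ, hzρ, hcz, huz⟩ := share (G := G) H hμ1 (hnc _ hμ1 hμ2) hρ1 n3 n4
    obtain ⟨w, hwρ, hwl, hcw, huw⟩ := share (G := G) H hρ1 (hnc _ hρ1 hρ2) hl1 (Ne.symm hρ2) (hne_lam _ hρ2)
    by_cases hbρ : b ∈ (supp ρ : Finset (IrrCharacter G))
    · have hwne : w ≠ b := fun e => hblam (e ▸ hwl)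
      have hwa : w ≠ a := fun e => hba ((huy b hb0 hbρ).trans (huy a ha0 (e ▸ hwρ)).symm)
      have hwc : w ≠ c := fun e => hcb' ((huz c hcμ (e ▸ hwρ)).trans (huz b hbμ hbρ).symm)
      have hwd : w = d := by
        have := hlset ▸ hwl
        simp only [Finset.mem_insert, Finset.mem_singleton] at this
        exact (this.resolve_left hwa).resolve_left hwc
      subst hwd
      have hsetρ : (supp ρ : Finset (IrrCharacter G)) = {b, w} :=
        (Finset.eq_of_subset_of_card_le (by simp [Finset.insert_subset_iff, hbρ, hwρ])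
          (by rw [Finset.card_pair hwne.symm, (supp_nonreal H hρ1 (hnc _ hρ1 hρ2)).2])).symm
      have hcb2 : coord ρ b = coord ν₀ b := by rw [huy b hb0 hbρ, hcy]
      have eρ : 1 + (B + D) = 0 := by
        have h := sum_supp_deg (G := G) H hρ1
        rw [hsetρ, Finset.sum_pair hwne.symm, hcb2, hcw] at h
        exact h
      have hA13 : 3 * A = -1 := by linear_combination el - eρ + e0 - hAC
      obtain ⟨n, hn⟩ := deg_int a (coord lam a)
      rw [hA, sdeg, ← hn] at hA13
      have : ((3 * n : ℤ) : ℂ) = ((-1 : ℤ) : ℂ) := by push_cast; exact hA13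
      rw [Int.cast_inj] at this
      omega
    · have hya : y = a := by
        have := hset0 ▸ hy0
        simp only [Finset.mem_insert, Finset.mem_singleton] at this
        exact this.resolve_right fun e => hbρ (e ▸ hyρ)
      have hzc : z = c := by
        have := hsetμ ▸ hzμ
        simp only [Finset.mem_insert, Finset.mem_singleton] at this
        exact this.resolve_left fun e => hbρ (e ▸ hzρ)
      exact hca' ((huw c (hzc ▸ hzρ) hcl).trans (huw a (hya ▸ hyρ) hal).symm)
  -- values at `t`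
  set tK : K := ⟨t, H.htK⟩ with htK
  set p := (ν₀ : K → ℂ) tK with hp
  set q := (μ : K → ℂ) tK with hq
  set l := (lam : K → ℂ) tK with hl'
  have hl0 : ν₀ ≠ conjIrr ν₀ := (hnc _ h01 h02).symm
  have hμμ : μ ≠ conjIrr μ := (hnc _ hμ1 hμ2).symm
  have d1 : ν₀ ≠ conjIrr μ := fun e => haμ (by rw [← supp_conj H μ, ← e]; exact ha0)
  have d2 : conjIrr ν₀ ≠ conjIrr μ := fun e => hμ0 (by rw [← conjIrr_conjIrr μ, ← e, conjIrr_conjIrr])
  have hconjp : ((conjIrr ν₀ : IrrCharacter K) : K → ℂ) tK = p := by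
    show conj p = p
    rcases value_t H ν₀ with e | e <;> rw [hp, htK, e] <;> simp
  have hconjq : ((conjIrr μ : IrrCharacter K) : K → ℂ) tK = q := by
    show conj q = q
    rcases value_t H μ with e | e <;> rw [hq, htK, e] <;> simp
  have hzero : ∀ (χ : IrrCharacter G), ∀ ν : IrrCharacter K,
      ν ∉ ({ν₀, conjIrr ν₀, μ, conjIrr μ, lam} : Finset (IrrCharacter K)) → coord ν χ = 0 := by
    intro χ ν hν
    simp only [Finset.mem_insert, Finset.mem_singleton, not_or] at hν
    rcases eq_or_ne ν (oneK K) with rfl | n0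
    · exact coord_oneK χ
    · rcases hall ν n0 hν.2.2.2.2 with e | e | e | e <;> simp_all
  have hS5 : ∀ f : IrrCharacter K → ℂ,
      ∑ ν ∈ ({ν₀, conjIrr ν₀, μ, conjIrr μ, lam} : Finset (IrrCharacter K)), f ν =
        f ν₀ + f (conjIrr ν₀) + f μ + f (conjIrr μ) + f lam := by
    intro f
    rw [Finset.sum_insert, Finset.sum_insert, Finset.sum_insert, Finset.sum_insert, Finset.sum_singleton]
    · ring
    · simpa using fun e => hμ2 (by rw [← conjIrr_conjIrr μ, e, hlc])
    · simp [hμμ, hμ2]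
    · simp [hμ0'.symm, d2, (hne_lam _ h02).symm]
    · simp [hl0, hμ0.symm, d1, h02]
  have hval : ∀ χ : IrrCharacter G, χ ≠ oneG G → (χ : G → ℂ) t =
      -(2 * (coord ν₀ χ : ℂ) * p + 2 * coord μ χ * q + coord lam χ * l) := by
    intro χ _
    rw [show (χ : G → ℂ) t = (χ : G → ℂ) (tK : G) from rfl,
      value_formula_supp H χ (t_ne_oneK H) _ (hzero χ), hS5, coord_conj H, coord_conj H, hconjp, hconjq]
    ring
  have z1 : coord μ a = 0 := coord_eq_zero (mem_supp.1 hal).1 haμ
  have z2 : coord ν₀ c = 0 := coord_eq_zero (mem_supp.1 hcl).1 (by simp [hset0, hca', hcb'])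
  have hpma := hpm a hal
  have hpmc := hpm c hcl
  have hat : (a : G → ℂ) t ^ 2 = (2 * p + l) ^ 2 := by
    rw [hval a (mem_supp.1 hal).1, z1, hca]
    rcases hpma with e | e <;> rw [e] <;> push_cast <;> ring
  have hct : (c : G → ℂ) t ^ 2 = (2 * q + l) ^ 2 := by
    rw [hval c (mem_supp.1 hcl).1, z2, hcc]
    rcases hpmc with e | e <;> rw [e] <;> push_cast <;> ring
  have T0 := T_eq (G := G) H h01
  have Tμ := T_eq (G := G) H hμ1
  rw [hset0, Finset.sum_pair hba.symm] at T0
  rw [hsetμ, Finset.sum_pair hcb'.symm, ← hcb] at Tμ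
  have key : (coord ν₀ a : ℂ) * ((a : G → ℂ) t ^ 2 / (a : G → ℂ) 1) =
      (coord μ c : ℂ) * ((c : G → ℂ) t ^ 2 / (c : G → ℂ) 1) := by
    have := mul_left_cancel₀ (card_ne_zero (G := G)) (T0.trans Tμ.symm)
    linear_combination this
  rw [term_eq (hca ▸ hpma) hat, term_eq (hcc ▸ hpmc) hct, hA0, hC1, hAC,
    div_left_inj' hAne] at key
  have hsum := sum_nontrivial H (t_ne_oneK H)
  rw [show Finset.univ.erase (oneK K) = ({ν₀, conjIrr ν₀, μ, conjIrr μ, lam} : Finset (IrrCharacter K)) from ?_,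
    hS5] at hsum
  · rw [show (ν₀ : K → ℂ) ⟨t, H.htK⟩ = p from rfl, show (μ : K → ℂ) ⟨t, H.htK⟩ = q from rfl,
      show (lam : K → ℂ) ⟨t, H.htK⟩ = l from rfl, ← htK, hconjp, hconjq] at hsum
    rcases value_t H ν₀ with e1 | e1 <;> rcases value_t H μ with e2 | e2 <;>
      rcases value_t H lam with e3 | e3 <;>
      rw [hp, hq, hl', htK, e1, e2, e3] at key hsum <;>
      first | (norm_num at key; done) | norm_num at hsum
  · ext ν
    simp only [Finset.mem_erase, Finset.mem_univ, and_true, Finset.mem_insert, Finset.mem_singleton]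
    constructor
    · intro h
      by_cases h' : ν = lam
      · exact Or.inr (Or.inr (Or.inr (Or.inr h')))
      · rcases hall ν h h' with e | e | e | e
        · exact Or.inl e
        · exact Or.inr (Or.inl e)
        · exact Or.inr (Or.inr (Or.inl e))
        · exact Or.inr (Or.inr (Or.inr (Or.inl e)))
    · rintro (rfl | rfl | rfl | rfl | rfl)
      exacts [h01, conjIrr_ne_oneK h01, hμ1, conjIrr_ne_oneK hμ1, hl1]

/-- Three supports elements, relabelled. -/
theorem supp_triple {lam : IrrCharacter K} {x y z : IrrCharacter G}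
    (h : ∀ χ, χ ∈ supp lam ↔ χ = x ∨ χ = y ∨ χ = z) :
    (∀ χ, χ ∈ supp lam ↔ χ = y ∨ χ = x ∨ χ = z) ∧ ∀ χ, χ ∈ supp lam ↔ χ = z ∨ χ = x ∨ χ = y :=
  ⟨fun χ => (h χ).trans (by tauto), fun χ => (h χ).trans (by tauto)⟩

omit [Fintype K] in
theorem deg_mod_four (H : Hyp t s K) (hK : Nat.card K = 2) {χ : IrrCharacter G} {e : ℤ}
    (he : e = 1 ∨ e = -1) (ht1 : (χ : G → ℂ) t = e) :
    ∃ D : ℤ, (D : ℂ) = (e : ℂ) * (χ : G → ℂ) 1 ∧ D % 4 = 1 := by
  classical
  obtain ⟨n, -, hn⟩ := IsIrr.degree χ.2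
  set Hc := Subgroup.centralizer ({t} : Set G) with hHc
  obtain ⟨j, hj⟩ := classInner_isCharacter_eq_natCast (isCharacter_res Hc (IsIrr.isCharacter χ.2))
    (isCharacter_one (G := Hc))
  have hKmem : ∀ x ∈ K, x = 1 ∨ x = t := by
    intro x hx
    rcases eq_or_ne x 1 with h | h
    · exact Or.inl h
    refine Or.inr (eq_t_of_sq H hx ?_ h)
    have h2 := pow_card_eq_one' (x := (⟨x, hx⟩ : K))
    rw [hK, pow_two] at h2
    exact congrArg Subtype.val h2
  have hinv : ∀ x : Hc, x ≠ 1 → (χ : G → ℂ) x = e := by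
    intro x hx
    have hx1 : (x : G) ≠ 1 := fun h => hx (Subtype.ext h)
    have ho : orderOf (x : G) = 2 := by
      by_cases hxK : (x : G) ∈ K
      · rw [(hKmem _ hxK).resolve_left hx1, H.ht]
      · exact (outside H x.2 hxK).1
    rw [← ht1]
    exact (classFun_isConj (isClassFunction_of_isIrr χ.2) (H.hconj t x H.ht ho)).symm
  unfold classInner at hj
  rw [card_H H, hK, inv_mul_eq_iff_eq_mul₀ (by norm_num),
    ← Finset.add_sum_erase _ _ (Finset.mem_univ (1 : Hc)),
    Finset.sum_congr rfl (g := fun _ : Hc => (e : ℂ)) fun x hx => by simp [hinv x (Finset.ne_of_mem_erase hx)],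
    Finset.sum_const, Finset.card_erase_of_mem (Finset.mem_univ _), Finset.card_univ,
    ← Nat.card_eq_fintype_card, card_H H, hK] at hj
  simp [hn] at hj
  have hz : ((n : ℤ) : ℂ) + 3 * (e : ℂ) = ((4 * (j : ℤ) : ℤ) : ℂ) := by
    push_cast
    linear_combination hj
  have hz' : (n : ℤ) + 3 * e = 4 * j := by exact_mod_cast hz
  refine ⟨e * n, by rw [hn]; push_cast; rfl, ?_⟩
  rcases he with rfl | rfl <;> omega

theorem sys_exists (H : Hyp t s K) : Nonempty (Sys t K) := by
  classical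
  obtain ⟨lam, hl1, hlc, hl⟩ := exists_lam H
  obtain ⟨hpm, hcard3⟩ := supp_real (G := G) H hl1 hlc
  by_cases hex : ∃ ν₀ : IrrCharacter K, ν₀ ≠ oneK K ∧ ν₀ ≠ lam
  · obtain ⟨ν₀, h01, h02⟩ := hex
    have hnc : conjIrr ν₀ ≠ ν₀ := fun h => (hl ν₀ h).elim h01 h02
    obtain ⟨a, ha0, hal, hca, hu⟩ := share (G := G) H h01 hnc hl1 (Ne.symm h02)
      fun e => h02 (by rw [← conjIrr_conjIrr ν₀, ← e, hlc])
    obtain ⟨c₁, c₂, h12, hrest⟩ := Finset.card_eq_two.1
      (show ((supp lam : Finset (IrrCharacter G)).erase a).card = 2 by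
        rw [Finset.card_erase_of_mem hal, hcard3])
    have hm₁ : c₁ ∈ (supp lam : Finset (IrrCharacter G)).erase a := by simp [hrest]
    have hm₂ : c₂ ∈ (supp lam : Finset (IrrCharacter G)).erase a := by simp [hrest]
    obtain ⟨hca₁, hc₁⟩ := Finset.mem_erase.1 hm₁
    obtain ⟨hca₂, hc₂⟩ := Finset.mem_erase.1 hm₂
    have hsupp : ∀ χ, χ ∈ supp lam ↔ χ = a ∨ χ = c₁ ∨ χ = c₂ := by
      intro χ
      by_cases h : χ = a
      · simp [h, hal]
      · have h' : χ ∈ (supp lam : Finset (IrrCharacter G)).erase a ↔ χ = c₁ ∨ χ = c₂ := by simp [hrest]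
        simpa [h] using h'
    have hall := common H lam hl1 hlc hl h01 h02 ha0 hal
    have hshare : ∀ ν : IrrCharacter K, ν ≠ oneK K → ν ≠ lam →
        coord ν a = coord lam a ∧ c₁ ∉ supp ν ∧ c₂ ∉ supp ν := by
      intro ν h1 h2
      obtain ⟨x, -, -, hc, hu'⟩ := share (G := G) H h1 (fun h => (hl ν h).elim h1 h2) hl1 (Ne.symm h2)
        fun e => h2 (by rw [← conjIrr_conjIrr ν, ← e, hlc])
      have hxa := hu' a (hall ν h1 h2) hal
      exact ⟨hxa ▸ hc, fun h => hca₁ ((hu' c₁ h hc₁).trans hxa.symm),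
        fun h => hca₂ ((hu' c₂ h hc₂).trans hxa.symm)⟩
    obtain ⟨b, hb0, hba⟩ : ∃ b, b ∈ supp ν₀ ∧ b ≠ a :=
      (Finset.one_lt_card.1 (by rw [(supp_nonreal (G := G) H h01 hnc).2]; norm_num)).elim
        fun x hx => hx.2.elim fun y hy => (eq_or_ne x a).elim (fun e => ⟨y, hy.1, e ▸ hy.2.symm⟩)
          fun e => ⟨x, hx.1, e⟩
    have hbl : b ∉ supp lam := fun h => hba (hu b hb0 h)
    have hb1 := (mem_supp.1 hb0).1
    have hset0 : (supp ν₀ : Finset (IrrCharacter G)) = {a, b} :=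
      (Finset.eq_of_subset_of_card_le (by simp [Finset.insert_subset_iff, ha0, hb0])
        (by rw [Finset.card_pair hba.symm, (supp_nonreal H h01 hnc).2])).symm
    have hlt : ∀ χ : IrrCharacter G, χ = c₁ ∨ χ = c₂ → (χ : G → ℂ) t ^ 2 = 1 := by
      intro χ hχ
      have hχl := (hsupp χ).2 (Or.inr hχ)
      rw [show (χ : G → ℂ) t = (χ : G → ℂ) ((⟨t, H.htK⟩ : K) : G) from rfl,
        value_formula_supp H χ (t_ne_oneK H) {lam} fun ν hν => ?_, Finset.sum_singleton]
      · rcases hpm χ hχl with e | e <;> rcases value_t H lam with f | f <;> simp [e, f]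
      · rw [Finset.mem_singleton] at hν
        rcases eq_or_ne ν (oneK K) with rfl | h1
        · exact coord_oneK χ
        rcases hχ with rfl | rfl
        · exact coord_eq_zero (mem_supp.1 hc₁).1 (hshare ν h1 hν).2.1
        · exact coord_eq_zero (mem_supp.1 hc₂).1 (hshare ν h1 hν).2.2
    have hbt : (b : G → ℂ) t ^ 2 = 4 := by
      rw [show (b : G → ℂ) t = (b : G → ℂ) ((⟨t, H.htK⟩ : K) : G) from rfl,
        value_formula_supp H b (t_ne_oneK H) {ν₀, conjIrr ν₀} fun ν hν => ?_,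
        Finset.sum_pair hnc.symm, coord_conj H, show ((conjIrr ν₀ : IrrCharacter K) : K → ℂ) ⟨t, H.htK⟩ =
          conj ((ν₀ : K → ℂ) ⟨t, H.htK⟩) from rfl]
      · rcases value_t H ν₀ with e | e <;>
          rcases (supp_nonreal H h01 hnc).1 b hb0 with f | f <;> simp [e, f] <;> norm_num
      · simp only [Finset.mem_insert, Finset.mem_singleton, not_or] at hν
        rcases eq_or_ne ν (oneK K) with rfl | h1
        · exact coord_oneK b
        rcases eq_or_ne ν lam with rfl | h2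
        · exact coord_eq_zero hb1 hbl
        obtain ⟨x, -, -, -, hu'⟩ := share (G := G) H h01 hnc h1 hν.1 hν.2
        exact coord_eq_zero hb1 fun h => hba ((hu' b hb0 h).trans (hu' a ha0 (hall ν h1 h2)).symm)
    have T0 := T_eq (G := G) H h01
    have Tl := T_eq (G := G) H hl1
    rw [hset0, Finset.sum_pair hba.symm] at T0
    rw [show (supp lam : Finset (IrrCharacter G)) = {a, c₁, c₂} by ext χ; simp [hsupp χ],
      Finset.sum_insert (by simp [hca₁.symm, hca₂.symm]), Finset.sum_pair h12] at Tl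
    have key := mul_left_cancel₀ (card_ne_zero (G := G)) (T0.trans Tl.symm)
    rw [hca, term_eq ((supp_nonreal H h01 hnc).1 b hb0) hbt, term_eq (hpm c₁ hc₁) (hlt c₁ (Or.inl rfl)),
      term_eq (hpm c₂ hc₂) (hlt c₂ (Or.inr rfl))] at key
    have hdeg0 := sum_supp_deg (G := G) H h01
    have hdegl := sum_supp_deg (G := G) H hl1
    rw [hset0, Finset.sum_pair hba.symm, hca] at hdeg0
    rw [show (supp lam : Finset (IrrCharacter G)) = {a, c₁, c₂} by ext χ; simp [hsupp χ],
      Finset.sum_insert (by simp [hca₁.symm, hca₂.symm]), Finset.sum_pair h12] at hdegl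
    have hB0 := sdeg_ne_zero hb0
    have h10 := sdeg_ne_zero hc₁
    have h20 := sdeg_ne_zero hc₂
    have hB : sdeg ν₀ b = sdeg lam c₁ + sdeg lam c₂ := by
      simp only [sdeg]
      linear_combination hdeg0 - hdegl
    have key' : (4 : ℂ) / sdeg ν₀ b = 1 / sdeg lam c₁ + 1 / sdeg lam c₂ := by linear_combination key
    refine sys_of H lam hl1 hlc hl a c₁ c₂ hca₁.symm hca₂.symm h12 hsupp ?_ hall
    field_simp at key'
    rw [hB] at key'
    have : (sdeg lam c₁ - sdeg lam c₂) ^ 2 = 0 := by linear_combination -key'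
    exact sub_eq_zero.1 (pow_eq_zero_iff two_ne_zero |>.1 this)
  · push Not at hex
    have hK : Nat.card K = 2 := by
      rw [← irr_card H, ← Finset.card_univ,
        show (Finset.univ : Finset (IrrCharacter K)) = {oneK K, lam} from ?_, Finset.card_pair hl1.symm]
      ext ν
      simp only [Finset.mem_univ, Finset.mem_insert, Finset.mem_singleton, true_iff]
      exact or_iff_not_imp_left.2 (hex ν)
    obtain ⟨x, y, z, hxy, hxz, hyz, hset⟩ := Finset.card_eq_three.1 hcard3
    have hsupp : ∀ χ, χ ∈ supp lam ↔ χ = x ∨ χ = y ∨ χ = z := fun χ => by simp [hset]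
    have hlamt : (lam : K → ℂ) ⟨t, H.htK⟩ = -1 := by
      have h := sum_nontrivial H (t_ne_oneK H)
      rwa [show Finset.univ.erase (oneK K) = ({lam} : Finset (IrrCharacter K)) from ?_,
        Finset.sum_singleton] at h
      ext ν
      simp only [Finset.mem_erase, Finset.mem_univ, and_true, Finset.mem_singleton]
      exact ⟨hex ν, fun e => e ▸ hl1⟩
    have hat : ∀ χ ∈ (supp lam : Finset (IrrCharacter G)), (χ : G → ℂ) t = (coord lam χ : ℂ) := by
      intro χ _
      rw [show (χ : G → ℂ) t = (χ : G → ℂ) ((⟨t, H.htK⟩ : K) : G) from rfl,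
        value_formula_supp H χ (t_ne_oneK H) {lam} fun ν hν => ?_, Finset.sum_singleton, hlamt]
      · ring
      · rw [Finset.mem_singleton] at hν
        rcases eq_or_ne ν (oneK K) with rfl | h1
        · exact coord_oneK χ
        · exact absurd (hex ν h1) hν
    have hD : ∀ χ ∈ (supp lam : Finset (IrrCharacter G)), ∃ D : ℤ, (D : ℂ) = sdeg lam χ ∧ D % 4 = 1 :=
      fun χ hχ => deg_mod_four H hK (hpm χ hχ) (hat χ hχ)
    obtain ⟨a, hA, ha4⟩ := hD x ((hsupp x).2 (Or.inl rfl))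
    obtain ⟨b, hB, hb4⟩ := hD y ((hsupp y).2 (Or.inr (Or.inl rfl)))
    obtain ⟨c, hC, hc4⟩ := hD z ((hsupp z).2 (Or.inr (Or.inr rfl)))
    have hsum3 : ∀ f : IrrCharacter G → ℂ, ∑ χ ∈ (supp lam : Finset (IrrCharacter G)), f χ =
        f x + f y + f z := by
      intro f
      rw [hset, Finset.sum_insert (by simp [hxy, hxz]), Finset.sum_pair hyz, add_assoc]
    have hsum : a + b + c = -1 := by
      have h := sum_supp_deg (G := G) H hl1
      rw [hsum3] at h
      have h' : ((1 + (a + b + c) : ℤ) : ℂ) = 0 := by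
        push_cast
        rw [hA, hB, hC]
        exact h
      rw [Int.cast_eq_zero] at h'
      linarith
    have ht2 : ∀ χ ∈ (supp lam : Finset (IrrCharacter G)), (χ : G → ℂ) t ^ 2 = 1 := by
      intro χ hχ
      rw [hat χ hχ]
      rcases hpm χ hχ with e | e <;> rw [e] <;> simp
    have hmx := (hsupp x).2 (Or.inl rfl)
    have hmy := (hsupp y).2 (Or.inr (Or.inl rfl))
    have hmz := (hsupp z).2 (Or.inr (Or.inr rfl))
    have heq : (Nat.card G : ℤ) * (a * b * c + b * c + a * c + a * b) = 32 * (a * b * c) := by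
      have h := T_eq (G := G) H hl1
      rw [hsum3, term_eq (hpm x hmx) (ht2 x hmx), term_eq (hpm y hmy) (ht2 y hmy),
        term_eq (hpm z hmz) (ht2 z hmz), ← hA, ← hB, ← hC, hK] at h
      have a0 : (a : ℂ) ≠ 0 := hA ▸ sdeg_ne_zero hmx
      have b0 : (b : ℂ) ≠ 0 := hB ▸ sdeg_ne_zero hmy
      have c0 : (c : ℂ) ≠ 0 := hC ▸ sdeg_ne_zero hmz
      field_simp at h
      have h' : (((Nat.card G : ℤ) * (a * b * c + b * c + a * c + a * b) : ℤ) : ℂ) =
          ((32 * (a * b * c) : ℤ) : ℂ) := by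
        push_cast at h ⊢
        linear_combination h
      exact_mod_cast h'
    have hN : 1 + a ^ 2 + b ^ 2 + c ^ 2 ≤ (Nat.card G : ℤ) := by
      let d : IrrCharacter G → ℕ := fun χ => (IsIrr.degree χ.2).choose
      have hd : ∀ χ : IrrCharacter G, (χ : G → ℂ) 1 = d χ := fun χ => (IsIrr.degree χ.2).choose_spec.2
      have htot : ∑ χ : IrrCharacter G, (d χ : ℤ) ^ 2 = (Nat.card G : ℤ) := by
        have h := sum_sq_degree (G := G)
        simp only [hd] at h
        exact_mod_cast h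
      have hsq : ∀ χ ∈ (supp lam : Finset (IrrCharacter G)), ∀ D : ℤ, (D : ℂ) = sdeg lam χ →
          D ^ 2 = (d χ : ℤ) ^ 2 := by
        intro χ hχ D hD
        rw [sdeg, hd] at hD
        have : D = coord lam χ * d χ := by exact_mod_cast hD
        rcases hpm χ hχ with e | e <;> rw [this, e] <;> ring
      rw [← htot, hsq x hmx a hA, hsq y hmy b hB, hsq z hmz c hC]
      have h1 : (oneG G) ∉ (supp lam : Finset (IrrCharacter G)) := fun h => (mem_supp.1 h).1 rfl
      have hle := Finset.sum_le_univ_sum_of_nonneg (f := fun χ : IrrCharacter G => (d χ : ℤ) ^ 2)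
        (s := insert (oneG G) (supp lam)) fun χ => sq_nonneg _
      rw [Finset.sum_insert h1, hset, Finset.sum_insert (by simp [hxy, hxz]), Finset.sum_pair hyz] at hle
      have hd1 : d (oneG G) = 1 := by
        have h := hd (oneG G)
        rw [show ((oneG G : IrrCharacter G) : G → ℂ) 1 = 1 from rfl] at h
        exact_mod_cast h.symm
      rw [hd1] at hle
      push_cast at hle
      linarith
    have hnoN : ∀ (p : IrrCharacter G), ∀ ν : IrrCharacter K, ν ≠ oneK K → ν ≠ lam → p ∈ supp ν :=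
      fun p ν h1 h2 => absurd (hex ν h1) h2
    obtain ⟨s1, s2⟩ := supp_triple hsupp
    rcases triple_eq _ a b c ha4 hb4 hc4 hsum heq hN with e | e | e
    · exact sys_of H lam hl1 hlc hl z x y hxz.symm hyz.symm hxy s2 (by rw [← hA, ← hB, e]) (hnoN z)
    · exact sys_of H lam hl1 hlc hl y x z hxy.symm hyz hxz s1 (by rw [← hA, ← hC, e]) (hnoN y)
    · exact sys_of H lam hl1 hlc hl x y z hxy hxz hyz hsupp (by rw [← hB, ← hC, e]) (hnoN x)

end Cfsg.Agent.BSWAbstract
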