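import Cfsg.Agent.BSWAbstract.Order
import Cfsg.Agent.Char.Artin

/-!
# The two types of elements outside the conjugates of `K`
-/

set_option maxHeartbeats 800000

namespace Cfsg.Agent.BSWAbstract

open scoped ComplexConjugate
open Cfsg.Agent.Char

universe u

variable {G : Type u} [Group G] [Fintype G] {t s : G} {K : Subgroup G}

omit [Fintype G] in
theorem kType_order {z : G} (h : KType K z) : orderOf z ∣ Nat.card K := by
  obtain ⟨g, k, hk, -, rfl⟩ := h
  rw [← MulAut.conj_apply, MulEquiv.orderOf_eq]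
  exact Subgroup.orderOf_dvd_natCard K hk

omit [Fintype G] in
theorem kType_ne_one {z : G} (h : KType K z) : z ≠ 1 := by
  obtain ⟨g, k, -, hk, rfl⟩ := h
  rwa [Ne, conj_eq_one_iff]

/-- Elements whose order divides `q`. -/
def QT (D : Dat t K) (z : G) : Prop := z ≠ 1 ∧ orderOf z ∣ D.q

/-- Elements whose order divides `v`. -/
def VT (D : Dat t K) (z : G) : Prop := z ≠ 1 ∧ orderOf z ∣ D.v

variable {D : Dat t K}

theorem qT_not_kType {z : G} (h : QT D z) : ¬ KType K z := fun hK => h.1 (orderOf_eq_one_iff.1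
  (Nat.eq_one_of_dvd_coprimes (q_coprime_K D) h.2 ((kType_order hK).trans (dvd_mul_left _ 2))))

theorem vT_not_kType (H : Hyp t s K) {z : G} (h : VT D z) : ¬ KType K z := fun hK => h.1
  (orderOf_eq_one_iff.1
    (Nat.eq_one_of_dvd_coprimes (v_coprime_K D H) h.2 ((kType_order hK).trans (dvd_mul_left _ 2))))

theorem not_both {z : G} (h : QT D z) : ¬ VT D z := fun h' =>
  h.1 (orderOf_eq_one_iff.1 (Nat.eq_one_of_dvd_coprimes (q_coprime_v D) h.2 h'.2))

theorem qT_conj {z : G} (g : G) (h : QT D z) : QT D (g * z * g⁻¹) :=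
  ⟨fun e => h.1 (conj_eq_one_iff.1 e), by rw [← MulAut.conj_apply, MulEquiv.orderOf_eq]; exact h.2⟩

theorem qT_of_conj {z w : G} (h : QT D z) (hw : IsConj z w) : QT D w := by
  obtain ⟨g, rfl⟩ := isConj_iff.1 hw
  exact qT_conj g h

theorem qT_inv {z : G} (h : QT D z) : QT D z⁻¹ :=
  ⟨inv_ne_one.2 h.1, by rw [orderOf_inv]; exact h.2⟩

theorem centralizer_dvd_qv (H : Hyp t s K) {z : G} (hz1 : z ≠ 1) (hz : ¬ KType K z) :
    Nat.card (Subgroup.centralizer ({z} : Set G)) ∣ D.q * D.v := by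
  have h1 := coprime_of_not_kType H hz1 hz
  have h2 : Nat.Coprime (Nat.card (Subgroup.centralizer ({z} : Set G))) 2 :=
    h1.coprime_dvd_right (two_dvd_card H)
  refine (Nat.Coprime.mul_right h2 h1).dvd_of_dvd_mul_left ?_
  rw [show 2 * Nat.card K * (D.q * D.v) = Nat.card G by rw [D.card]; ring]
  exact Subgroup.card_subgroup_dvd_card _

theorem vanish_of_degree {χ : IrrCharacter G} {d m : ℕ} (hd : (χ : G → ℂ) 1 = d)
    (hcard : Nat.card G = d * m) {z : G} {p : ℕ} (hp : p.Prime) (hpd : p ∣ d) (hcop : Nat.Coprime d m)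
    (hpz : p ∣ orderOf z) : (χ : G → ℂ) z = 0 := by
  have hG0 : Nat.card G ≠ 0 := Nat.card_pos.ne'
  refine defect_zero χ.2 hp (Nat.ordProj_dvd _ _) (Nat.pow_succ_factorization_not_dvd hG0 hp) hd ?_
    z hpz
  have h1 : Nat.Coprime (p ^ (Nat.card G).factorization p) m :=
    (hcop.coprime_dvd_left hpd).pow_left _
  exact h1.dvd_of_dvd_mul_right (hcard ▸ Nat.ordProj_dvd _ _)

theorem a_zero {z : G} (hz : ¬ Nat.Coprime (orderOf z) D.q) : (D.a : G → ℂ) z = 0 := by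
  obtain ⟨p, hp, h1, h2⟩ := Nat.Prime.not_coprime_iff_dvd.1 hz
  refine vanish_of_degree D.dega (m := 2 * Nat.card K * D.v) (by rw [D.card]; ring) hp h2 ?_ h1
  exact Nat.Coprime.mul_right (q_coprime_K D) (q_coprime_v D)

theorem c_zero (H : Hyp t s K) {z : G} (hz : ¬ Nat.Coprime (orderOf z) D.v) :
    (D.c₁ : G → ℂ) z = 0 ∧ (D.c₂ : G → ℂ) z = 0 := by
  obtain ⟨p, hp, h1, h2⟩ := Nat.Prime.not_coprime_iff_dvd.1 hz
  have hcop : Nat.Coprime D.v (2 * Nat.card K * D.q) :=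
    Nat.Coprime.mul_right (v_coprime_K D H) (q_coprime_v D).symm
  exact ⟨vanish_of_degree D.deg₁' (by rw [D.card]; ring) hp h2 hcop h1,
    vanish_of_degree D.deg₂' (by rw [D.card]; ring) hp h2 hcop h1⟩

theorem qT_or_vT (H : Hyp t s K) {z : G} (hz1 : z ≠ 1) (hz : ¬ KType K z) : QT D z ∨ VT D z := by
  have h : orderOf z ∣ D.q * D.v :=
    (Subgroup.orderOf_dvd_natCard _ (Subgroup.mem_centralizer_singleton_iff.2 rfl)).trans
      (centralizer_dvd_qv H hz1 hz)
  by_cases hq : Nat.Coprime (orderOf z) D.q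
  · exact Or.inr ⟨hz1, hq.dvd_of_dvd_mul_left h⟩
  by_cases hv : Nat.Coprime (orderOf z) D.v
  · exact Or.inl ⟨hz1, hv.dvd_of_dvd_mul_right h⟩
  have h0 := D.offC z hz1 hz
  rw [a_zero hq, (c_zero H hv).1, (c_zero H hv).2] at h0
  norm_num at h0

theorem qT_a_zero {z : G} (h : QT D z) : (D.a : G → ℂ) z = 0 :=
  a_zero fun hc => h.1 (orderOf_eq_one_iff.1 (hc.eq_one_of_dvd h.2))

theorem vT_c_zero (H : Hyp t s K) {z : G} (h : VT D z) :
    (D.c₁ : G → ℂ) z = 0 ∧ (D.c₂ : G → ℂ) z = 0 :=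
  c_zero H fun hc => h.1 (orderOf_eq_one_iff.1 (hc.eq_one_of_dvd h.2))

theorem centralizer_dvd_aux (H : Hyp t s K) {z : G} {x y : ℕ} (hz1 : z ≠ 1) (hz : ¬ KType K z)
    (hox : orderOf z ∣ x) (hxy : x.Coprime y) (hyK : y.Coprime (Nat.card K))
    (hxy' : x * y = D.q * D.v) (hdich : ∀ w : G, w ≠ 1 → ¬ KType K w → orderOf w ∣ x ∨ orderOf w ∣ y) :
    Nat.card (Subgroup.centralizer ({z} : Set G)) ∣ x := by
  refine Nat.Coprime.dvd_of_dvd_mul_right (Nat.coprime_of_dvd fun r hr h1 h2 => ?_)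
    (hxy' ▸ centralizer_dvd_qv H hz1 hz : _ ∣ x * y)
  have : Fact r.Prime := ⟨hr⟩
  obtain ⟨w, hw⟩ := exists_prime_orderOf_dvd_card' r h1
  have hwo : orderOf (w : G) = r := by rw [Subgroup.orderOf_coe, hw]
  have hcomm : Commute z (w : G) := (Subgroup.mem_centralizer_singleton_iff.1 w.2).symm
  have hcop : Nat.Coprime (orderOf z) (orderOf (w : G)) := by
    rw [hwo]
    exact (hxy.coprime_dvd_left hox).coprime_dvd_right h2
  have ho := hcomm.orderOf_mul_eq_mul_orderOf_of_coprime hcop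
  rw [hwo] at ho
  have hne : z * (w : G) ≠ 1 := fun e => by
    rw [e, orderOf_one] at ho
    exact hr.ne_one (Nat.eq_one_of_mul_eq_one_left ho.symm)
  have hnK : ¬ KType K (z * (w : G)) := fun hK => by
    have := (dvd_mul_left r _).trans (ho ▸ kType_order hK)
    exact hr.ne_one (Nat.eq_one_of_dvd_coprimes hyK h2 this)
  rcases hdich _ hne hnK with e | e <;> rw [ho] at e
  · exact hr.ne_one (Nat.eq_one_of_dvd_coprimes hxy ((dvd_mul_left r _).trans e) h2)
  · exact hz1 (orderOf_eq_one_iff.1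
      (Nat.eq_one_of_dvd_coprimes hxy hox ((dvd_mul_right _ r).trans e)))

theorem qT_centralizer_dvd (H : Hyp t s K) {z : G} (h : QT D z) :
    Nat.card (Subgroup.centralizer ({z} : Set G)) ∣ D.q :=
  centralizer_dvd_aux H h.1 (qT_not_kType h) h.2 (q_coprime_v D)
    ((v_coprime_K D H).coprime_dvd_right (dvd_mul_left _ 2)) rfl fun w h1 h2 =>
      (qT_or_vT (D := D) H h1 h2).imp And.right And.right

theorem vT_centralizer_dvd (H : Hyp t s K) {z : G} (h : VT D z) :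
    Nat.card (Subgroup.centralizer ({z} : Set G)) ∣ D.v :=
  centralizer_dvd_aux H h.1 (vT_not_kType H h) h.2 (q_coprime_v D).symm
    ((q_coprime_K D).coprime_dvd_right (dvd_mul_left _ 2)) (mul_comm _ _) fun w h1 h2 =>
      ((qT_or_vT (D := D) H h1 h2).imp And.right And.right).symm

theorem card_eq_index (H : Hyp t s K) :
    ((Subgroup.centralizer ({t} : Set G)).index : ℂ) = (D.q : ℂ) * D.v := by
  have h : (Subgroup.centralizer ({t} : Set G)).index = D.q * D.v := by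
    have h1 := (Subgroup.centralizer ({t} : Set G)).card_mul_index
    rw [card_H H, D.card, mul_assoc (2 * Nat.card K)] at h1
    exact Nat.eq_of_mul_eq_mul_left (Nat.mul_pos two_pos Nat.card_pos) h1
  rw [h, Nat.cast_mul]

open scoped Classical in
/-- The number of ways to write an element as a product of two involutions. -/
theorem pairCount_off (H : Hyp t s K) {z : G} (hz1 : z ≠ 1) (hz : ¬ KType K z) :
    (pairCount t t z : ℂ) * (2 * (Nat.card K : ℂ)) =
      (D.q : ℂ) * D.v *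
        (1 + (D.ea : ℂ) * (D.a : G → ℂ) z / D.A +
          ((D.e₁ : ℂ) * (D.c₁ : G → ℂ) z + (D.e₂ : ℂ) * (D.c₂ : G → ℂ) z) / D.C +
          (D.B.card : ℂ) * (2 * (-1 - (D.ea : ℂ) * (D.a : G → ℂ) z) / D.C)) := by
  have hG : (Nat.card G : ℂ) = (2 * (Nat.card K : ℂ)) * ((D.q : ℂ) * D.v) := by
    rw [D.card]; push_cast; ring
  have hreal : ∀ χ : IrrCharacter G, conj ((χ : G → ℂ) t) = (χ : G → ℂ) t := fun χ => by
    rw [← IsChar.inv_eq_conj (IsIrr.isCharacter χ.2), inv_eq_self_of_order_two H.ht]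
  rw [pairCount_eq t t z, card_eq_index (D := D) H]
  set f : IrrCharacter G → ℂ := fun χ => (χ : G → ℂ) t ^ 2 * (χ : G → ℂ) z / (χ : G → ℂ) 1 with hf
  have e1 : ∀ χ : IrrCharacter G, (D.q : ℂ) * D.v * ((D.q : ℂ) * D.v) / ((Nat.card G : ℂ) * (χ : G → ℂ) 1) *
      conj ((χ : G → ℂ) t * (χ : G → ℂ) t) * (χ : G → ℂ) z =
      (D.q : ℂ) * D.v / (2 * (Nat.card K : ℂ)) * f χ := by
    intro χ
    have h1 : (χ : G → ℂ) 1 ≠ 0 := IsIrr.one_ne_zero χ.2
    have h2 : (D.q : ℂ) * D.v ≠ 0 := by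
      have := q_pos D H
      have := v_pos D H
      norm_cast
      positivity
    rw [map_mul, hreal, hG, hf]
    field_simp
  rw [Finset.sum_congr rfl fun χ _ => e1 χ, ← Finset.mul_sum]
  have hz0 : ∀ χ : IrrCharacter G,
      χ ∉ insert (oneG G) (insert D.a (insert D.c₁ (insert D.c₂ D.B))) → f χ = 0 := by
    intro χ hχ
    simp only [Finset.mem_insert, not_or] at hχ
    simp [hf, D.outside χ hχ.1 hχ.2.1 hχ.2.2.1 hχ.2.2.2.1 hχ.2.2.2.2 t H.htK (t_ne_one H)]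
  rw [← Finset.sum_subset (Finset.subset_univ _) fun χ _ h => hz0 χ h,
    Finset.sum_insert (by simp [D.ha.symm, D.h₁.symm, D.h₂.symm]; exact fun h => (D.hB _ h).1 rfl),
    Finset.sum_insert (by simp [D.ha₁, D.ha₂]; exact fun h => (D.hB _ h).2.1 rfl),
    Finset.sum_insert (by simp [D.h₁₂]; exact fun h => (D.hB _ h).2.2.1 rfl),
    Finset.sum_insert (fun h => (D.hB _ h).2.2.2 rfl)]
  have hone : f (oneG G) = 1 := by simp [hf, oneG]
  have hsig : ∀ (e X : ℤ) (χ : IrrCharacter G) (x : ℂ), (e = 1 ∨ e = -1) → (X : ℂ) = e * (χ : G → ℂ) 1 →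
      (χ : G → ℂ) t ^ 2 = x → f χ = x * ((e : ℂ) * (χ : G → ℂ) z) / X := by
    intro e X χ x he hX hx
    simp only [hf, hx, hX]
    rcases he with e' | e' <;> rw [e'] <;> simp
  have hat : (D.a : G → ℂ) t ^ 2 = 1 := by
    have h := D.onA t H.htK (t_ne_one H)
    rcases D.sa with e | e <;> rw [e] at h <;> simp at h
    · simp [h]
    · rw [show (D.a : G → ℂ) t = -1 by linear_combination -h]
      ring
  have hb : ∀ b ∈ D.B, f b = 2 * (-1 - (D.ea : ℂ) * (D.a : G → ℂ) z) / D.C := by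
    intro b hb
    rw [hsig (D.eb b) (2 * D.C) b 4 (D.sb b hb) (by push_cast; exact D.degB b hb) (D.tB b hb),
      ← D.offB b hb z hz1 hz]
    push_cast
    ring
  rw [hone, hsig _ _ _ 1 D.sa D.degA hat, hsig _ _ _ 1 D.s₁ D.deg₁ D.t₁, hsig _ _ _ 1 D.s₂ D.deg₂ D.t₂,
    Finset.sum_congr rfl hb, Finset.sum_const, nsmul_eq_mul]
  have hk : (Nat.card K : ℂ) ≠ 0 := Nat.cast_ne_zero.2 Nat.card_pos.ne'
  field_simp
  ring

theorem cast_cases (H : Hyp t s K) (D : Dat t K) :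
    (D.B.card : ℂ) = (Nat.card K : ℂ) / 2 - 1 ∧ (D.C : ℂ) ≠ 0 ∧ (D.A : ℂ) ≠ 0 := by
  refine ⟨?_, ?_, ?_⟩
  · rw [← D.cardB]
    push_cast
    ring
  · have := v_pos D H
    rcases D.cases' with ⟨-, -, -, h⟩ | ⟨-, -, -, h⟩ <;>
      exact Int.cast_ne_zero.2 (by omega)
  · have := q_pos D H
    rcases D.cases' with ⟨-, -, h, -⟩ | ⟨-, -, h, -⟩ <;>
      exact Int.cast_ne_zero.2 (by omega)

theorem pairCount_qT (H : Hyp t s K) {z : G} (h : QT D z) :
    (D.q = 2 * Nat.card K + 1 ∧ pairCount t t z = D.q) ∨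
      (D.q + 1 = 2 * Nat.card K ∧ pairCount t t z = 0) := by
  have hz := qT_not_kType h
  have e := pairCount_off (D := D) H h.1 hz
  have h0 := D.offC z h.1 hz
  obtain ⟨hB, hC0, -⟩ := cast_cases H D
  rw [qT_a_zero h, mul_zero, zero_add] at h0
  rw [qT_a_zero h, h0, hB, mul_zero, zero_div, add_zero] at e
  have hk : (Nat.card K : ℂ) ≠ 0 := Nat.cast_ne_zero.2 Nat.card_pos.ne'
  rcases D.cases' with ⟨hq, hv, -, hC⟩ | ⟨hq, hv, -, hC⟩
  · refine Or.inl ⟨hq, ?_⟩
    have hC' : (D.C : ℂ) = -(D.v : ℂ) := by rw [hC]; push_cast; rfl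
    have hv' : (D.v : ℂ) = (Nat.card K : ℂ) + 1 := by rw [hv]; push_cast; rfl
    have hv0 : (D.v : ℂ) ≠ 0 := by exact_mod_cast (v_pos D H).ne'
    rw [hC'] at e
    field_simp at e
    have h2 : ((pairCount t t z : ℂ) - D.q) * (2 * (Nat.card K : ℂ)) = 0 := by
      linear_combination e + (D.q : ℂ) * hv'
    rcases mul_eq_zero.1 h2 with h3 | h3
    · exact_mod_cast sub_eq_zero.1 h3
    · simp [hk] at h3
  · refine Or.inr ⟨hq, ?_⟩
    have hC' : (D.C : ℂ) = (D.v : ℂ) := by rw [hC]; push_cast; rfl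
    have hv' : (D.v : ℂ) + 1 = (Nat.card K : ℂ) := by exact_mod_cast hv
    have hv0 : (D.v : ℂ) ≠ 0 := by exact_mod_cast (v_pos D H).ne'
    rw [hC'] at e
    field_simp at e
    have h2 : (pairCount t t z : ℂ) * (2 * (Nat.card K : ℂ)) = 0 := by
      linear_combination e + (D.q : ℂ) * hv'
    rcases mul_eq_zero.1 h2 with h3 | h3
    · exact_mod_cast h3
    · simp [hk] at h3

theorem pairCount_vT (H : Hyp t s K) {z : G} (h : VT D z) : pairCount t t z = D.v := by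
  have hz := vT_not_kType H h
  have e := pairCount_off (D := D) H h.1 hz
  have h0 := D.offC z h.1 hz
  obtain ⟨h1, h2⟩ := vT_c_zero H h
  obtain ⟨-, -, hA0⟩ := cast_cases H D
  rw [h1, h2, mul_zero, mul_zero, add_zero, add_zero] at h0
  rw [h1, h2, h0] at e
  have hk : (Nat.card K : ℂ) ≠ 0 := Nat.cast_ne_zero.2 Nat.card_pos.ne'
  have hq0 : (D.q : ℂ) ≠ 0 := by exact_mod_cast (zero_lt_one.trans (q_pos D H)).ne'
  rcases D.cases' with ⟨hq, -, hA, -⟩ | ⟨hq, -, hA, -⟩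
  · have hA' : (D.A : ℂ) = (D.q : ℂ) := by rw [hA]; push_cast; rfl
    have hq' : (D.q : ℂ) = 2 * (Nat.card K : ℂ) + 1 := by rw [hq]; push_cast; rfl
    rw [hA'] at e
    simp at e
    field_simp at e
    have h3 : ((pairCount t t z : ℂ) - D.v) * (2 * (Nat.card K : ℂ)) = 0 := by
      linear_combination e + (D.v : ℂ) * hq'
    rcases mul_eq_zero.1 h3 with h4 | h4
    · exact_mod_cast sub_eq_zero.1 h4
    · simp [hk] at h4
  · have hA' : (D.A : ℂ) = -(D.q : ℂ) := by rw [hA]; push_cast; rfl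
    have hq' : (D.q : ℂ) + 1 = 2 * (Nat.card K : ℂ) := by exact_mod_cast hq
    rw [hA'] at e
    simp at e
    field_simp at e
    have h3 : ((pairCount t t z : ℂ) - D.v) * (2 * (Nat.card K : ℂ)) = 0 := by
      linear_combination e + (D.v : ℂ) * hq'
    rcases mul_eq_zero.1 h3 with h4 | h4
    · exact_mod_cast sub_eq_zero.1 h4
    · simp [hk] at h4

end Cfsg.Agent.BSWAbstract
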